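import Cfsg.Agent.TC.R78a
import Cfsg.Agent.TC.R78b
import Cfsg.Agent.TC.R78c
import Cfsg.Agent.TC.F22

/-! # A representation of degree 78 modulo 13 of the presented group `Fi₂₂` -/

set_option autoImplicit false

namespace Cfsg.Agent.TC.R78

open Cfsg.Agent.M24 Cfsg.Agent.TC.Mp Cfsg.Spor

theorem wf_all : ∀ i < 9, wf 13 78 (mc i) = true ∧ trv 13 78 mc [i, i] = true := fun i hi => by
  rw [← Bool.and_eq_true, ← band_eq]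
  interval_cases i
  exacts [wf0, wf1, wf2, wf3, wf4, wf5, wf6, wf7, wf8]

instance factR78 : Fact (1 < 13) := ⟨by norm_num⟩

theorem sq (i : ℕ) (hi : i < 9) : mt 13 78 (mc i) * mt 13 78 (mc i) = 1 :=
  sq_sound (by norm_num) (by norm_num) (wf_all i hi).1 (wf_all i hi).2

/-- the generators -/
noncomputable def gl (i : ℕ) : GL (Fin 78) (ZMod 13) :=
  if h : i < 9 then ⟨mt 13 78 (mc i), mt 13 78 (mc i), sq i h, sq i h⟩ else 1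

theorem gl_val {i : ℕ} (h : i < 9) : (gl i).1 = mt 13 78 (mc i) := by rw [gl, dif_pos h]

theorem rels : ∀ l ∈ cxb 9 F22.lab ++ F22.ex, trv 13 78 mc l = true := by
  rw [show cxb 9 F22.lab ++ F22.ex = [[0, 1, 0, 1, 0, 1], [0, 2, 0, 2], [1, 2, 1, 2, 1, 2], [0, 3, 0, 3], [1, 3, 1, 3], [2, 3, 2, 3, 2, 3], [0, 4, 0, 4], [1, 4, 1, 4, 1, 4], [2, 4, 2, 4], [3, 4, 3, 4], [0, 5, 0, 5, 0, 5], [1, 5, 1, 5], [2, 5, 2, 5], [3, 5, 3, 5], [4, 5, 4, 5], [0, 6, 0, 6], [1, 6, 1, 6], [2, 6, 2, 6], [3, 6, 3, 6], [4, 6, 4, 6, 4, 6], [5, 6, 5, 6], [0, 7, 0, 7], [1, 7, 1, 7], [2, 7, 2, 7], [3, 7, 3, 7, 3, 7], [4, 7, 4, 7], [5, 7, 5, 7], [6, 7, 6, 7], [0, 8, 0, 8], [1, 8, 1, 8], [2, 8, 2, 8], [3, 8, 3, 8], [4, 8, 4, 8], [5, 8, 5, 8, 5, 8], [6, 8, 6, 8], [7, 8, 7, 8], [6, 4, 1, 3, 2, 1, 5, 0, 1, 6, 4, 1, 3, 2, 1, 5, 0, 1,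 6, 4, 1, 3, 2, 1, 5, 0, 1, 6, 4, 1, 3, 2, 1, 5, 0, 1, 6, 4, 1, 3, 2, 1, 5, 0, 1, 6, 4, 1, 3, 2, 1, 5, 0, 1, 6, 4, 1, 3, 2, 1, 5, 0, 1, 6, 4, 1, 3, 2, 1, 5, 0, 1, 6, 4, 1, 3, 2, 1, 5, 0, 1, 6, 4, 1, 3, 2, 1, 5, 0, 1], [4, 3, 2, 1, 0, 5, 8, 4, 3, 2, 1, 0, 5, 8, 4, 3, 2, 1, 0, 5, 8, 4, 3, 2, 1, 0, 5, 8, 4, 3, 2, 1, 0, 5, 8, 4, 3, 2, 1, 0, 5, 8, 4, 3, 2, 1, 0, 5, 8, 4, 3, 2, 1, 0, 5, 8, 4, 3, 2, 1, 0, 5, 8], [4, 7, 3, 2, 1, 0, 5, 4, 7, 3, 2, 1, 0, 5, 4, 7, 3, 2, 1, 0, 5, 4, 7, 3, 2, 1, 0, 5, 4, 7, 3, 2, 1, 0, 5, 4, 7, 3, 2, 1, 0, 5, 4, 7, 3, 2, 1, 0, 5, 4, 7, 3, 2, 1, 0, 5, 4, 7, 3, 2, 1, 0, 5]] by decide +kernel]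
  simp only [List.forall_mem_cons, List.not_mem_nil, IsEmpty.forall_iff, implies_true, and_true]
  exact ⟨r0, r1, r2, r3, r4, r5, r6, r7, r8, r9, r10, r11, r12, r13, r14, r15, r16, r17, r18, r19, r20, r21, r22, r23, r24, r25, r26, r27, r28, r29, r30, r31, r32, r33, r34, r35, r36, r37, r38⟩

theorem sat : Sat 9 (cxb 9 F22.lab ++ F22.ex) gl :=
  ⟨fun i hi => Units.ext (by rw [Units.val_mul, gl_val hi]; exact sq i hi), fun l hl =>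
    ⟨(F22.sat.2 l hl).1, trv_sound (by norm_num) (by norm_num)
      (fun i hi => ⟨(wf_all i ((F22.sat.2 l hl).1 i hi)).1, gl_val ((F22.sat.2 l hl).1 i hi)⟩)
      (rels l hl)⟩⟩

theorem gl_ne : gl 0 ≠ 1 := fun h => by
  have := congrFun (congrFun ((gl_val (by norm_num)).symm.trans (congrArg Units.val h)) 0) 1
  revert this; decide +kernel

theorem inj [IsSimpleGroup Fi22] : ∃ f : Fi22 →* GL (Fin 78) (ZMod 13), Function.Injective f := by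
  obtain ⟨φ, h⟩ := F22.lift sat
  refine ⟨φ, (MonoidHom.ker_eq_bot_iff φ).1 ((φ.normal_ker.eq_bot_or_eq_top).resolve_right fun e => ?_)⟩
  exact gl_ne ((h .c).symm.trans (show _ ∈ φ.ker from e ▸ Subgroup.mem_top _))

end Cfsg.Agent.TC.R78
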