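import Cfsg.Agent.TC.WK

/-! # A permutation model of degree 3510: data -/

set_option autoImplicit false
set_option maxRecDepth 100000

namespace Cfsg.Agent.TC.W22

open Cfsg.Agent.M24

def a0 : ℕ := nat_lit 0xda2d92d94d99d97da5d9dd7fda4d8cd7eda1da7d72da9d6adb0dadd65db5daad53d4bd54dafd68d46d3fdb2d3cdb1d63d69db3d5fdb4d2cd5bd28d5dd23dacd70d6cd41d40d49d3bd1dd6ed2ed36d1cd43daedabd10d48d4cd57d0ad14d6fd0fd58d2bd25da8cfed8bd77d84cedd8acefda6d95d9ccdbceeda3cebd96ceccd1cf4d93ccfd8ecc8d90cc6cd5d75d7acdccc9d9eda0cbdcd0cc7cbbcd3cadd7bd9fca7d87d7ccd4d9bce0c9ad80ce1d89d88d9ace8c90d98d86c8fc9ccaec8ad82ce2c88c9bcaacdecf6c83d83c92d91d74c7dc7cd8fc78c7fd73c7ad8dccbc72c93cf9c97d85d81cf0cdac63c67cf7c65c64d78ca0ca8c5cd7dd76c5bc5acabcc2d79c55cf8c94c4fce4c8ec4bc7ecacc77c75d71cccce3c3ec3fd1fd08d17d30c34d60c32c31c35d1bd6bd66d6dd62d64c26c2bd3ec28c16c33d05cfcd35d42d45c0bd31c09d56d67d1ac0ac2ac29c27d59d47d4ec0cd61d51d5ebf8ccdcfdd22bf1d55d5cd50d5abe8bfebfdd0bc07c06b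ebbead52bdfd4fbf9be4be9bf3bd5bd4bf4bd2bddbfcbc8bd8d38d4dd01d0cd32bc3d12d4aca6ca5bcbc12bacbd0d13c0ec11ba2d39d33d44b9fba3d1eba1ba0d07d20d2dc20d3dd3ad04b96b95bc4d37b92d34b8fb8ebc0c37d2fb8ab89b9ad26d02d2ad29b82d24c1ad27d00b86cffb7fc0dd21c30b65b67b5ec24b9bb6bbcac04b4ad18c39d16d15d19b49b48b47ba7bbcb43d11d0ed0db40bc1bdbbc6d09b3bb85b90c51bb7d06b36b5cb97d03b32b3ebc2bc7b27b6fb6dbf0b2eb3cb18cfacfbc1bb14c1eb0cc66c38c84b04cf1cf5ce5cf3cf2c71afdafcb00affce9cd8cd7ce7cd6ceaaf5c6daeeaefaf8c91afec3bae8c1cc3dc79c19adbadcce6c15ad8ad7ca3c9eac7adfc9fc73cd2cdfcd9cddab9cc1cc0ab8c69abaab4af7af6af0cc4cc3cb1abcabbcbacceaacbf6bf5cb4cb7bf2ccac43befaa3a9ca98cbfcbecb8cc5a95ab1ab0cb9ab6ab5a97a96cbcaafcb2b07c57aa0a84cafaa5acbcb6cb5a7bcb3ad5ca1adda86ac2a64ca4c6aa65cb0c47c56a9ac8bca9c48c58c85aeba52a50c5eaeda44bb9a62c50bb6bb5bb4a33a32a31a63a27a40ad6ca2a23ad3ae7a71c5fadeae1a19c98c9dc96c95c99a18a17a16c6cc80aeab98c4cc8dc8ca0fa53c89a0bc52c87c86a08a4fa8dc82c81a04a13c76c53a83a0d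c7b9faa25c749fbae3a5aa9b9f1a0ca9fa56a5b9ebb74ac9a1e9e09dfc45a01c44a6ac6ba1ab0e9dac6fa7cc70af29d6af4b61a1fb11c6e9d1c4db0fa24af1a229cfa12a209e4a709c7a6fa8bac09beb4db0bb4bc68c62c61c609ba9b9a43c5db42b41c599b5c49ae9c41c549b4a0ab38a34c4e9af9d39cbc4a9ac9c3a5cc42a519f59f29f3b29a5fc469a79a899999d99ab21aaa9aa9c1995a3f9919dc992c409b398e9d7c3c9d5b12b5fb10b5bb6997ec3ab4c97d97cb08bdc97597fc36b03b02b01c2dc2cc1fc2fc2e96b96d96cc21c01c00c25b62af3b64b59bffc22c23bbb95ebbfb99b3dc1dba9956ae5ae4b7dae2ba594dc0fba6bcfc17c18965961c14c13badbd1964baa949948ad0acf947945944bd6950b7394ec10ac6ac594c94bbcd926b4f92892295fbfbbfac03c08c0591dbe3be2c02968967be6be5bde91f91ebf7aabb20aa9aa8aa7959bd7909beeaa2aa1bdab78a9ea9dbedb7bbc58febecbe1be0be791991891c91b8fa8f9a8eb8b8f1b509108ed9148e5bce8e6bd9b849038e1a80907a7e943b66bd39529519429418f48f58d894f934ba8b53b518d28d18d494ab6c92b8cc8cd8dcbc9bccbb0bb88c58c9b288c88c7b2fb76b7c8b9a58a57b77a55a54b93bbeb2dbbdb8c95b8b58b48b3a4aa49a48a47a4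6a45bbab4495d8a9baeb1c8a88a6a3c897896895894a37a36a35b37bb3bb2bb188e88d8c68a488a88b8a7a29a28baf884b80b5ababb58981b55b60b72a1d877899b6aba4b9eb9db9c873872b87b5688f87fb9486eb83b79b91b39a09b8d8688f2a05b88864a02b6e8ec87988586c86db7eb8188286085e85db2c927b2ab2bb7a9f09ef87890f8bfb759588bb84b84f84c9e5b5487c985846b71b70842841b1a843b6898283eb15b63b1383bb34986b5d838b57881880839b3383387e9c8b529c69c59c4b3095ab1e8289bfb4e9bd9bc9bbb46b458219b79b6b3fb3ab1781e89c890b35835898b318c0b1f8beb25b268138148108569a280f80a80999eb23815816b22b24804806805b1d827801b19b1b7ff800b1683d83c7fc98a9899889879d29e29849839d9a217ebb05b0db0ab097e87e79797ee7ed7ecb069749737ea7e997096f96eafaaf9afb7db7daab3ab2966adaad4963962ad9960abdaeca427d1a4e9c2aa69ea957ae6955954953a7aa79acaa73ac8ae0ac4ac3a6bad2ad1ace7d5acdacca7da78a777b97b893e7b77b67b57b47c29389377c17c0a729337be7bd93092f92e7bc7bba6992a929abf9f4ac1795924923abe921920aaeaadab7a92a917d8a94a937917907d0a8878a912911a8a9ed90e90d78090b781a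a47cda7f77c905904a829029019008ffa998fd8fc8fba90a8f78e78f775a75a76773a06a8c76e77076fa89a0078476a8e97888e7a85a87764766765a818e08df8de7c9a667c57b3772a7477475d7bfa6c7a4a6ea6d7587597baa67a68755760a60a5ea5da2ea6174f74e7537529ab9ec9a97517509e98baa598b88b78b6a4da4ca4b7418b18b073d8ae8ad8ac8ab8aaa41a3ea2aa3d7a2a2d73373873773673589e7a39b1729724a1b9ada3ba3aa39a3872071f8919b0a11a30a2f71aa2ba2c7197188877169fea267139f99ce9cda109c972d9e372a7109ff9eea1c723722721a15a146ff70f71ba0e9fc9fd6fc86a869a07867866865a038637057069f87149f79f67476f46f36f16ed6ec9a38558548536e66e58509e77cf7499e69e86e06df6e26e19e17f16dc9db9de9dd6da6db9d898d98c9d46d79cc9d06d57119ae6d29ca6d08316d382f82e82d82c82b82a8299c09946c78258248238229b882081f9b272b71c72c72571d6bc74c99b99c9a59a66b86b99a49a16b480d6b77269a099f6b16b09979969986ad6ae99398f9906ab6d898b6a97fa7f96a86a77f67f57f47f37f28457f07ef97897797698097297197b97a69569469a6996987e17e07df6976967dc96a96968d91a7d77d69467d47d37d295c91584e687908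7cc7cb7ca8dd68168067f8db6767c39399369358d593293192d92c8ce94093f93d93c93b93a8da6686676666656637ad7ac6726717a97a87a767066f8d389d8a565865779f79e79d66d66c79a66b66a7977969257947937929179168f78f864d64b64c9136888e86477867858eb78378290a90c64164364290677b77a7797787777768f68d78f38d963a8ef8ee8f06356376368ea7697687678e38e28e46316307618ca75f6398d663b62966e8cf8d06276828cb6258c28c18bd8bc8c48c361f81762462384d61a85c6226217447437428b261573f73e8af61161073a7398a28a18a089f7348a360e60d60760b72e87d81b81d87b89b5fd5fc80b81a89a8768758748938925f581981c86f88c8898885f18865f085f8835ee83687a8705e970d5ec6036026015eb5fe8618625e05f95f85f75f68715f35f286b6fb6fa6f96f86f76f65d585b85a61d8595d15d05d28588575cd6ea6e96e86e78528515ca5c984884784a8495c65c784483f8405c47fd83a5c18375bf8308345bc8325bb5bd6cd6cc6cb6ca6c96c88266c66c56c46c36c25ff5f46046005fa8185ae5ad81181280c5aa67780e5a86058088075a58028035a47fe5a27fb7f87f75a15a06a46a36a259f59e69f69e69d69c5967e47e37e27de7dd7e67e559059459369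05925917d968c68b68a58b7897ce5885876846837567c87c77c657f57e57d57c67a5756786b57c456e5736737ab7aa7a67a575a79c79b7997986697b27b17b07af55e7ae55d55c66065f65e56756665b5655647a17a055555465456356256165064f64e78d78b78c54a54c54b78764664564477e77d77f54654563e63d63c75c77175e53e76c76b76d53d53c63276376253a54254353862b62a75b58475753575474b74a74674562074d52f6f253453374852b52a53161674052652561273c73b52373273152072f60a51e52173051c6b26bf70b70a7096be6c170772872750f6bd70370270170071e6c06fe6fd71771550971250770c70850470e50350551651551451351151070450e50d50c50b56f5da5d95d85d75d66f54f64f56ee6f06ef4f25ce6eb4f05cb6e46e34ed6dd6de4ec6d94ea5c26d64e76d45be6ce6d16cf4e54e34e45b75b65b55b45b35b25124dc5176bb6ba4d95766b65706b34d65a66af6ac4d46aa6a66a56a16a04d24d159b4d04cf5984cb69b4c869269168f68e6934c74c64c558c6894c24c16866854be58562858358258158067e67d67c67b4b557a5795785775ab6794a66744b25715a95db67556d4a456b4aa5694a565d65c65a65965365265156055f66466266149048f5594974964956566554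8b48a49355054f49154d64964864a48348254764063f48062d62e47e54053f63863463347b62f53962c53753662661c61b47561753061e47247147661961846f4af47361461346a60f46960860c4676094646064664654634ab5af5e65e55e45e35b15e25e15fb5df5de5dd5dc50a5ef4555ed4a25e75ea5e845345145245c45b45a4594584a74f94494f75d45d34464f35cf4f15cc4434ee5c85c54415c34e94e85c04e65ba5b85b943c43b43a4df44c4375b04364385ac4a84bf5a74d55a34d359d59c59a59942e42d42c5974294c959558f58e58d4264c358a5894224d75864bd4bc4bb4ba4b94b84b74b657b4184b35724b14b05284ae41441251856a4164d84fa57456856c4155064074a040a49e49d49c3fc3fe40b4215585575563f755149254e55b55a3f33f23f85535523f04884873f53f44845495483eb54447f54147d47c53b47a4794783e552c5323e352752e52d3df5293e24113e13e05245223da51f51b51a51d5193d93d83d73d63d540c4ff4fe4fd4fc4fb4204565084085025005013cc3cb3ca3d14de4053c64f83c53c74f44454444ef4424eb44043f43e3c84e24e14e03bc4da4dd4db3bb42343343243143042f4ce4cd4cc3b242a4ca4284274c44254244344c049845741f41e41d3a741b41a3a54b43a3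4a94a34ad4134ac46d3a039f39e39d45d49949f3a14544a13aa44b3993943974014003ff49a38e49b38d3ac38a48c49438848648548e48d3844893873ee3863854813ea3e93e83e73e647737c47446e46c46b47037b37a3793db46846246146045f45e37437337244d3ab3cf3ce39645044f44e36c43d44744a44836a3c33c23c136b3bf36d36e4394353633623b83b73b63b53b43b342b3b13b03af3593ad3fa3d04063543a841c3524193504173a240941040f40e40d34d34c34b4043564023cd3464033443923453473483fd3fb33f33e3f933b3f63ef3ed3ec3f133a33933838037f37e37d3e43de3dd3dc3323313763753d43d33d232d35536f3bd3be3c93c03c432932836732a36532c3ba3b932336032135e35d35c35b35a3ae31d31c3983703a93153a63513a434f34e39c39b39a31031a38f39039539139330d30c30e30f38c38b30833c3893833823813043033353343333783772ff32f32e37136432b3663693682fa3262fb2fc3612f835f2f72f631e3583572f334931931831731635331431331231134a3403413433422e52e62e733d2e33063053373362e03013003302fe2fd3243253272dc32232031f2da2db31b2f22f12f02ef2ee2ed2ec2eb2ea2e92e830930a30b2cf3072e22e13022df2de2dd2f92f42f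52cb2ca2d72d62d52d42d32d22d12d02e42ce2cd2cc2d92d82c22c12c72c62c52c42c32c92c82bd2bc2be2c02bf2b92ba2bb2b82b72b62b52a02b02af28f2b32b22ae2932ac29228728c2a82a72862952912772702a12b428a29626929c26628429929829729e2a52552ad2ab2a42902b12492462a924329f24c2412aa2a624a29a24725325725127f27e27d27c27b27a23923a2a32442592742222212712a222824f22a21c21e21d29d25f21929b21823626326226126026821025d25c20f20e2752582812562942032822012801fd26e21124d2891f528528e1f228328d1f027628b1ee2882401ec1f81f71eb1f62782791e31f32641f120823323223123022f22e22d1da21226d1fc26f1d72262252242232732721d31d226b26a26c1cf1d02672651cd2161cb21421322b24e25e25b25a20d1c520b1c41c32342072062051bb2541b82521b71ff1b52502291b41b11f923e23d23b24b1a92372482352451a52421a323f23c1a11a01a21ad1ac1ab1aa2381a81a71e01df1de1dd1dc1db22c1941932271911901d422021f18d21a21b18c21718a2151ca1831c818017e20c20a2091c217c17b17a1731bd1712041701b920220016e1fe1fb16c16d1fa16a1691681e71e61e51e41f41e21e11a61ef15e1ed1e81ea1e915c15a1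5b1641631621611981541531951d91d81501d61d514d18e1d11ce14b1cc14514013f1431851841c91371361c71331c61311c11c01bf1241271221761251741be11f1bc1ba16f1b61b21b31191b01af1ae11411312f19c19b19a19911615f1a411b19f19d19e10b10a11012d10719719610510819214f14e18f14c18b11514911a1470fa1890f91860f40ff1881870f00ef13c0fe13a0f51381821810e713417f13217d1301650df1560dc0d60da1291281780d21751790d01771210d117211e11d0cc15d14816b0cb0ca16014a1671660c70c61570e310e10d0d91591580c11511550c21520c010310210110014113b0fd0b20de1461440b10b00b41391420ad0f20f113e13d0aa0b90ba0eb0ea0e90e81350e60e50e410f0e209d09c12e0fb09912c0a012a10c09509612b0940d408f12612012308e08d0cd11c1181170890c811211108609f0c31061091040850830820bc0bb0ec0ed07b09a0b60790f60760fc0f80f70740ae0f30710ab0ee07d07c0a706e0a50a40a30a20660db0c40620e10e009b0b70dd05f0640d70d80d505e09205d05c0d30cf0ce05808b08a0c90550870c50bf0840be0bd05305207f0500a90a80b804c0b50780770b30750af0470720ac07004e0a606d04406b0430690400670a103e09706309e06106009809309109003803705908c03405608805408108003107e03006f04d07a04b04a04904807304604506c06a02702606802406503d03c03b03a03905b05a01e03505703303205104f02f02e01b02c02b02a02902804204101503f01402202102001f03601d01c02d01a00e01801701602502300901201101000f01900d00600b00a01300400700c002008001005003000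
def a1 : ℕ := nat_lit 0xd93d9ad9fda6da7d84d80d98d95d7dd85d7bd88d91db1db2d6bd66d6dd64d53d4cdb3d5cd6fd60d55db4d3edaed40d38dadd32db5d2dda8d29d57d46d59d31d30d5ed4dda9d87d86dabdb0d16d15d34dafd12d2fdacd0ddaad37d5ad19d43d48d47d5bd0ad01cfbcf1d9dcefda3ceada5ce8ceecdccf2da4cd7da2cd3cd2cdfd9ccebd8acc9d9ed74d79d8dcc3d8fcf4d9bcbeda1ccdd51cccd4fcaed89da0caad4aca6d76d75d8ececcd5d77ca4ca9d97c92d99d3dca8ca5c96c8cd96d7acdad35d81c86d94d8cd8bd7ec81d92cacc7ccb6d90c8acc5c9bcc6ca2c9ad22c70d20c6bc6ac83cddcf5c64d78d18d17d83d82c60d13d7fd11cdec5ad0ed7cd0cc57d73ce3c51c99c95c4dc9cc8fc49d72c4fc46c40c43c41d71c3cc3acf8c38c35d1bd56cf3d67d70c2cd6ed69c29d45d5fd6cce9d6ac17c18ce5c13d09c19c0dc0cd61d10d1cd68c06d36cd9cd8d65cd6d44bfdd63d62bfac15c26cced52d50bf2ccad5dbeabf0d25d27c14d58c12befc31cbfd54cbdbf6bf5cbabd9bf3bdad2abe7bedbd7cb2bc9bccbd3d4ebc3d2cc1cd4bd41d3cbb5d49d3bd42bdbd24bc5bb9ba6ba5c0fd04d26d23d07bb1bb8d3ad06b9cbb6d3fbb4b98d03b95bb2d39bb0d28bc7c09c87d33c85b8bd1dc82d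2ec80b8eb83b84d2bc1ab80b7eb78ba0c76b75babbcbb68c71d21b63bcfb57c6cd1fd1eb4bc68b4db4cb89d1ab47c62c61d14c5fc5ec5db41b42d0fc59c58d0bb3db3cc1bb3ac1dd08b37d00bb3d05b33ba1b70d02b2eb79cffb1bb22cfdb76cfccfeb16b18b17cfabc6cf9b09cf7b05b0dcf6affb03b02cc0b01c2fc2eb0acf0b08b10cedb0eaf3ccfaf2af1b0fc22c21c20c1fae9c52cabc54c7bce2ce6ce7ad1cd0cc4ce4cc2ac8ae0c9dac3ce1ce0abbac6c88c08c07cdbc05c04c03ac5c01c00bffac4cd4ac2ad2cd1ad0acfbf7cbccbbaa4cb8ccbaa1cc7cc1a99cb4aa5aa2cc8aa0a9fcb5acdaccacba9ea9dbe1be0bdfa87aa7a8cca3cb7cb9a81cb3a84a83a82cafa98a80a7fc6ea68a65cb0c73a62cb1a5dc89c3bca1a5ecada5bae5ae4ae2a61bbda49bbbbbaca0c97a38c93ca7c91c4ec8dc98c8ba40a26a85a25c74a57a56acaa3cc9fc9ea3ba1ba1ac4bc77a16a3aa39c94a37a36a35c90a10a11c8ea2fa2ea0ca5caa6a09c7fb8db8cc84a05c65b88b87a029fcc7dc7e9fbae3c7a9f9c799f69f7ae6b7ac47c789eac42c75a6cb73a76a6ac4a9deb6e9e69dbb0cadfadcc729d8a679da9d9c6fb629d4a75b5f9d1addad7ad99d09cfb58c6d9cab55a1db12b52a609c69bfb4ec67c66c699bb9bd9bcc63b46b45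b449b7c5bc5c9b6b3fa0dc56c559b3c539b29c7c509b0a30aabc4c9ad9dd9ae9fdc489a89a49a59a1a3e9a09eba599e9a5f998c44996b2099fb1e9c4992c45990a3dc3ec3dc3f98f98ea58b5398ac2ac23c28c36b6b97cc2dc39c2b976980c37971c33c32c30972c3497096f96eafb97b97a979984983982973c27c25c24963962961960aecaebaeac1e959958b7bbc1bc0b81bbf94ec10b6a94bb5db69948adab5b94cb5c94aad5ad4ad3bfbc16bf9bf8974be6be5be4ba8987c11931c0ac02bfec0ebfcac1ac0abf933abd932c0b93092f92eab7ab6ab5ab4ab3ab292d92c92b94093f93eb3493893690cbddb90becbf4906bebbf1be9be8be3be2909908907beebd290590490393b93a902901a90a8f94f97fbdca8ba8a937a88bde8e4badbd6bd5bd4bd8bd1bd093d8e38e28e18fd8fc8e08dfb72b60950a738d98d8a708d798b8f0b748e6b718e5bceb668cbbcd8c78c8bcabbeb51b24bc4bc8b91bc28beb26b13baaba99779788bd8bc8bb9559549538c48c3a4b8c2bbc8afa47a46a458ae8ada42a41baf8a6b29b19ba7ba4b9eb9dbb7b9bb9ab9989489088f899b35b94b9388b8a789f88888990a884baebac8838828b78b689e939935b5489aba3ba2874876875b9f893892891870b96b9786f88cb3eb9286c86bb8f86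9a078c1b8a865a03b8686386787a866b2fb85b8285db7f9f8b7cb7d8589f48578598548868a18529ed851b27b77b258bf84ab6d8479e48f39e2911843898b6fb31840b6cb65b64b6783f83e9d5b619d39d2b5eb5ab598379cd98987fb5683287bb38b5087db1d83082f82c834b4f824b49b48b4a8238229b8b43b4081f86db3bb3982db3681cb30b3281a81881b85eb2d85c8c0b2bb2c80e8a2b2ab28b1f89b80880c80784c80ab23803b2199599482ab1c842b1ab15b147fe8b8a6eb119cc7f8ac97f67f5af7af6af5981b06a8d7e97eab0bafaaf9af8a54a55b077e2aceaf4b00b04afeafdafc7de7dd7dc7e67e57f07ef7e37e17dfaf0aefaeeaed7d47d37d295c95b95aae8ae77ce7cda50a4fa4e952951a74a8eae17bdad8adead67beadb9479467bc7bb7ba942941aaeaadaaca7e7e0a94a93a1faaaa89aa9a1e7f7abeabcac7abaab9ab8ab1ab0aaf7a17c479f79e79d92592492392292192079c79b79a91c91b91a7997987b27b17ad7ac9137ab9e17a97a87a67a5aa877fa28a9ca9ba9aaa3a97a96a95a92a9177e77d77ca7aa797e477b77a7af7798f67c27c09e37717eca6d76d8ee8ed8ec8eb7a78e98e88e7a6ba69a86a7da7ca7ba78a777b0763762776761a72a71a6f7fc75f8d475e75d75c7fb8cf766765764a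66754774a63a64751750a4da4ca4aa069a69e8a5aa53a52a5174874798ca22a217467457ca74d74b74aa48a44a4373c73b8aa73a8a8a2ca3f7367357a39a29ef7a0a2ba2072f89c99ea1ca319df721723722a34a15a14a13a33a3271c71ba0ea2d718a29a2a7179f0885a27a24a237127429cb70e9c57aa9c89ff70c709702a18a17a1970170071ea12a0f6fd9b4a0ba0a70aa086faa009fea046f7a016f57086f96f89a99fa9a76f085a9f29f59f36eb7279f17309ee9ec7316e46e96e399a6e59e77496de9e58468457f49e09917259dc9d79d66d983c83b83a8397139ce6d46d39c070f9c97ae9c39c27079b19c16cf99370b6ce6cc6d17039be9ba9b96c46fe9b56fc6ca9af9aa9ac6f69ab6bb6bf6ba6f16bc74c6b66ed6ec9a373299c6e799972c99d99b6af8056b19978028016db6da98d6aa8d68d07fa7f99889349869858446a16a069f9689677ee7ed8f169897d97e69769696a9698fb96697596593c96496d96c96b68f68e69369c69269169095f95e95d68a7d07cf9579566866858b36827c87c76837c59296758f57c18f47bf94994d94594494366d66c7b77b666b66a7b39179168de8f883191591491287c91090f8ea90e90d6a58a365792a8a092892792691f91e91d91991865665565479479379265365278f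65166478c66266065f65e78765d65c65b65a65978178090b9008ff8fe8fa8f98f764063f8db63e8c96716a78f263863c63b8ef76c76b76a7697687678ce8cd8cc8dd8dc8da62f8d58d38d28d16a962b62a6297576316308ca75363a8c68c56226218b28128b18b08498ba8b98b58b461961888061761e61c61b73d8ac8ab8a960f7387378a58a460c60b80d85085389d60672d80972b72a7296798557268415f88968958975f75f687171d88e88d5f271988a8877167157148388815ed5ec83387e60887982986a87886182e5e75e55ea8258778738725dd82086e81e5e386886085f8648198625d45d85d381485b61d5cf81080f85666184e5cc80b60184b84f84d5c86e15ca5c98486dd6dc8007ff83d5c35c26d65ee8368355bd8265e982b8285ba8275e181d5b95e45b85df5de8215dc5db5b55d98165b05d68138178155ac5ae5ad8115ce5cd6095a78046048065a65a56ac5c47fd75b6a87726a67a46a46a36a27f37f27f159a5997d869b69a6997eb7e87e75925917d97d77d67d57db7da58d58f58e7d16896886877cc7cb5867c67c958258167f67e67d58367b67a7285726776767c356d56c67277367066f66e7b97b87b57b466956356266656178d66378b6ea78a7897887867857847837826587a279779679579179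078e55355264e55154e54d64a55b55a55955855755664364264177877777554476f76e7525a077054053f53e63463363275675576062e62d54f75a75975853753662653a62462374f74e5325317406ef73f73e61a74474374152952752e52d52c61161073960e60d73473351f6b370d60772e51b6b06036026e65195ff5fe5185fc5745fa5f972472071f50c5f45f371a5f150a5ef6d57117105057046d051d7065027056c86fb5016cb5006c66c56ff6c36c24fd6c06f34f86bd5156f46f24f44f64f56ee6b56b46e84ef6e06df6e24ee4ed5c56ab6d86d74e85c05075066d24e45bb6cd6c96c74e24e16c14e04fb4de4dd6be4db6b86b76b94da4d94f151a6b26ae6ad4d55a34ea4d363959f59e59d59c59b69e69d4cc5974c95955945936956944c568c68b68d4c44c358a58958858768458558467c6816805804ba4b957d4b857b4b45794af5774ac4ab5fb5736784a357056f56e6746734a149b49a49e56756656556466866766549455f49349155c64964864764664564455555465064f64d48962c64c64b48648548448e48d48c54654563d48848754163763663547d47c53b62553953862862747853453362061f47447361461361252b52a61652861546c46b47052352252152060a4655e851c6055a86005fd4624615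d551451345f45e51045d50e50d5f550b5f04565085bf5be5eb4524605e65e25e045044f5da44e5b344b44a5d74485d15d05d24474465a94f05cb5c75c64424eb5a24575c143e43d4e55bc4e35b75b65b44395b25b14635af5ab5aa4354444665a44325a14314304d04cf4ce4cd59842a4ca5964274c74c659058c58b4254244c04bf4be4bd4bc4bb57f57e57c41c4b641b57a4174b24144b05784114ad5765754104a940e40d40c4a54a45714a256b4034025684063fd56a5693fb40049749649556055e3f655d3f53f454954854748b48a55054354254c54b54a3ed3ec3f14803ef3ee53d53c3e847a47953547747647553052f3e13e052446f46e46d5265253dc3db4684674d651e3d74dc51751650351251150f3d43d345a3d24584e95093ce3cd3d85043d54ff4fe4fc3c944c4fa4f94494f74f34f23c44d74434ec3c13c043f4e74e643c43b43a4df4123d63d94d83b93e24d44d24d142f3b73b642c42b4cb3b04284c84264c24c13ae3ad42142041f41e41d4b74b53a64194184b33a24154b139f4384ae4aa40f4a84a74a639c39b40939a40749d39d3954a049f3934983913fe49c3a049938b3f93f83f749249048f3863854813f047f47e48348238138338247b3e73e637d3e43e34334724713793de3dd46a469375436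45346443745145c45b45937137037a45545437437337244d3c83c73c63c54453683c24414403bf3be3bd3bc39e37643437b42e42d3b535f3b335e3b14293af4234223583573aa3a93a83a741a3513a43a341634e3fc4133bb40540b40a40834a34934c34b4043944013423ff39038f38e34d34f3fa33c3893883873f33f23383ea3e93eb33733637e3e53333b83cf3df3783773ba3da3cc3cb3ca3d13d033132f32e32d36b36a3693c33673663653643633593343323b43b232035c31f35a3623ac3ab31b31c3163533523a531338c3a138d39739639939831231131034534434339234134033f31d31438a30533a33938438037f30236137c36036f33036e36d36c3002ff2fe2fd32832732632532432330132135d35b2f533e3553562f33193182f43542ec33d3503483473462ea2e92e830c30b30a3093082eb30633b30430333532232c32b32a3292df2de2dd2f92f82f72f631e31731a2d92d82f02ef2ee2ed31530730f30e30d2d22d12d02e42e32e22e12e02fc2fb2fa2cc2db2da2f22f12c92c82d52d42d32e72e62e52c42ce2cd2dc2cb2ca2d72d62bf2c62c52cf2c32c22c12c02c72be2ba2bc2bb2bd2b72b82b92b62b52ae2b12b22b32852972b428328927d28827b28d28b2732a52722a326c26a2a029429e27e26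629b28e2652982af26125d29f25429225a25024a29a2a828c2a725e2ac2aa23f23d2b02372ad23528125c23e29d2ab23b2a925b22c23c23022f27524b2a62a424222022521f26d2a221b2a126926823229c29924821726229621521428a29528027a29120d20c20b2562102932022522512902092051fb24c27428f1f32642032462452442432711ec1ed28727f28627827c1e81e71ea2841e22822341e62671e427727620a22d2791d91dd1d82281d61fe26f1d52231f720e27026e1d121d1d326b21a2192182631cc26025f1c91c721125520f22125925825722e24f1c21c11c024e2042472531b92001ff2261fd1bf24d1bc1b21f82221f61f51b02491a81b81a61ef1ee2402411a22381ae23a23923319e23119d2361e119b1df19722a1961db1ad22b22919222722418f21c1c321e18e18d1ce1cd2161cb1ca2131812121c61c51c41d22082072061fc1791781fa1761ba2011f116f1b61b51b41771f91751f416b1e91da1ac1661aa1651f21741f015f1a41a31eb15b16717f1e51e31591e01581991551de1dc15218017a1d71501901d41d01cf14c18b18a14418814914618513d1831821c819419f13217d17c17b1931be1bd1b31bb1b11a71201231251211b711d16d11a1af12f1171141a01ab1a91121631111381601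a510d10c1151a111319c19a10912619815415319513419110414e14d18c1011331871221471860f71890f40fa1410fd13f1001840ee13b0f30ea1610e913613515114a17e0e413016a12e0de0d80e60e10d51281271561710d11721481701730ce0cf16e11c0dd16c0ca1181690c815c16815a1641620c50c40cb15e15d0c70c615710810710610514f0bd10214b13e0bb0e51400fc0d21420b00f81450ae0f514313a0ac0b80f00ef13c0ed0a80b11391370e80a512b0fe1310a10e212a0e009b12d11b09809709a09912c0d70d61290900d30fb12408d11e11f08c08a10e1190c911610b10a11010f0890870860c00bf0be1030bc0ff07e0a20f109d07a0b50b40780750eb0f90af0f60ad0f20ab0aa06f0ec0740a60e70a40680b90e306506609e0b70610df0da0d90dc0db06005f0940930920910d405908e0d00cd0570cc0c30880c20c105605505408208108007f0ba04f05007b0b604b0b30770760b20a70730720710700a904804706c06b06a0690a303f09f0a003e06303b09c09609503a03905c05b05a08f05808b08508408303303205107c07d03004d04c07904a04906e06d04604502c02904204104006706402303c06205e05d02001f03603503405305201c04e01b02e02d04402b02a04302801801602502403d01302103803701001d03102f00e01902701702600b01402200801101e00f01a00600c01500500901200700d00a004003002000001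
def a2 : ℕ := nat_lit 0xd92da2da5d97d99d94da3da4d7fd83d7cda6d8ad76d6cdaadb3daedafdb4d6ad5ed5fd68d65d54d67d6edb1d70db2d6dd41db0d4bdb5d2fd31d26d58d5cd2ed3cda9d69d4cd3bd49d3ad3fdacd33d14d38dadd48d39dabd40d1ad19d1cd1bda8d5dd04d00d0fd11d98cf0d9ad96da7cebda1d89d9ed9bcf1d9dcefcedcf2cf4cd1d9fda0d75d8dcdecddcdcd8ecdacd5cd2d9cccfccecbbcd9cd0cf5cf6d88d93cf7d86d7ece0cdbcd4cdfcaecf3d95d7bd84ceacf9d8bd87d85d7dd80c99c9bc97c95d82c92d90cadd91d8ccaac83c8ec82c81c7fd27d8fc77c76cc8ce4ccacabc90ce2c8fd78d77d7ad79c8dca7c8cc94d81c8bca9d71c9cd72c98c96c93c69c63c68c66c64c60ccbd74cacc4cc4bd73c45c5ccfdcfccfbc5dd3dc39d4ad4dd4ed61d42d62d66d6fd64c35d63c31d6bd3ec27c26c2fc33c16d22ce3d1ec32d47d44d5bd5ad59d46d57d50c2dc2cc2bd56d45c34d55d60d4fd53d52ccdcccd05d21c0cd23c0ac09c08c07c06c04bfebfdbfbbfabf8bf7d51bddc02c03cb7cb6cb5cb4cb3bf9c36c37c05d43d30d03d20d2dd12bc3d17ca6ca5ca4ca3ca2ca1bc4c11c0ec10d10d36c0bd37d0ed35d0dd34d15d0cd32c22d1fd1dd2bd18d16d13b9fba4ba0b9db9cb9abc8d2cd2ad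29bc0d28b97b8ab89b88b86c79c78d25d24b6fb6eb73bf1c24c70c2ec6ec30bc1b54b53d0bd09b96d08b95d07d0ab94bb7d06b93bbecfacfeba3ba1b9eb9bb50b4fb4ab4eb56b55b38b48b47b45b34d02d01bc2b30b32b28b23cffb1ab20b1fb1eb1db43c3ec3dc3cc3bc3acf8c38cb0cb1ceecd3ce6ce1cecc6dce7c6fcd8cd7cd6b00affafdce9ce8afbc71afec91af0aefaeec1ec1dc1cc1bc1ab12b11c17ce5c15c14c13c12c9fc9dacac9eac9cc9c9acc7cc6cc5cc4cc3cafcc2cb8cb9afaaf9af8cc1cc0b04cbfcbecb2cbdcbcbf6bf5bf4bf3aabc72aaaaa9beeabfabeabcabbabaab9ab7ab6ab5ab4ab1ab0aaeaadaacb06cbaa86a8ba8aa89ab8a88bd6bd5bd4bd3bd2bd1bd0a73b07a72a6ebcba70a60c84a5fac0ac1ca0ca8c4ac6cc80abdc5eaeda52a50a4da4abb8c61bb6bb5bb4bb3bb2bb1bb0bafa3ebadbacbabbaaba9ae0a53a1fa1ec89c5bac7c5ac88c8ac59c87c86c58c85aeca1dc7ec67c65c62c5fa19a1ca20a17a16a14a13a06c7dc7cc7ba4fc7aa12a009ffa04a039fea019f8b7d9f59f4a569ee9ed9f19ec9e79e5c73ae1b719e8c75c749dca6c9e49e39e29e1afcb66b65b64b63b62a8eadeadbb5e9d49d39d2b5ab59b589ccc53c52c6bc6ab0bb0dc57c56c549c89c79c6c55a0fc50c4fa0ec4e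a4cc3f9c59c4a18a159c39c29c19be9c09c9c519b19b99b8c4d9aec48a51c499ab9aa9aca5a9a3a599f0c4799d99c99ba3bc469979efc43c42c41c40b1c998c44996995994993b15b14b13c19c18988986985b51b0cb52b0ab09b08bcebde98bbfc98a987989c2ac29c23c28b67c25c01c00bff96d96c96baf4af3af2af1c21c20c1fbbdb9995f95e95aae8ae7ae6ae5ae4ae3ae2b72ba8950b6094fadcb5fadaad9ad8ad7ad6ad5ad4ad3ad2ad1ad0acfaceacdaccacbc0fc0d939ba2938937936935934bc5bc6bedbecbbfbebbeabe9be8bd8be7be6be5be496a969be3be2975be1be0bdfbf2bf0befaa8aa7915914913aa391291191090f90e90d92892792692592291f91e91d91c91b919918917916b618f28efbdbbdabd9bd78f0bdc8ee8ed8ec8eb8ea8e98e88e7a7da7ca7ba7aa79a78a778f58f48f3bcfbcd94dbca97ebcc980b6c8d58d48d38d08cfa668c98d2a63a62a61bc9bc78c28c18c08bfb2cb2a923924b7a920921ba7bbcb31bbbb8795cbbab4495dbb98b08ba8b88b78b68b58b48b38b28a8a3fbae8a18b1b24a3aa39a38a37a36a3589ca33a32a31a30a2fa2ea2da2c89b8a292992aa27886885a24a23a22a21b90ba6ba5b98b9187d87cb92b40b8fb8eb3fb8db8cb8587b87ab49b4687987887787e86a87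2871b8b867b82b81866b7fb84b83b8086286186086485fb7e85b85ab7cb7b8b9856b77b29b21b79b78b7684f84e84db70b75848b74b6bb6ab69b689e084b84a849b6d8478468458449d79d69d5b5db5cb5b83b83a8399ce9cdb57835834b39b4db4cb4bb42b41b3eb3db3cb3a82fb3b82e82d82c86eb36b3582a829873828827826b3781d821b3381bb2db2fb2e81781681589a811812b2b85580c852851850b27b26b25806897b1bb22b19b18b17b1680580480380280198d98cb05b03b01b10b02b0fb0e7f37f27f1981a6d7fca6f97d97c97b97a9799789777fbaaf7fa7f97f87f77f67f57f4af7af6af5ab3ab27db7da966965964963962961960aebaeaa4ba4e7d1ae97d07cf957956955954953952951adfadd7c2a717c17c07bf94994894794694594494394294194093f93e93d93c93b93aac8ac6ac5ac4ac3ac27ac7ab7aa7a97a87a77a67a57a4a28a29a9ca9ba9aa99a57a58a98a54a55a97a96a95a94a937d9a92a91a90a8faa6aa5aa4aa2aa1aa0a9fa9ea9d78c90b78b78a78978878778678578478378279779679579479379279179078f78e78da76a75a74a8d770a87a8ca85a84a83a82a81a80a7fa7e76f76e76d76c76b76a7697687678dd8dc8db8da774773772771a6ba6aa69a647eba68a6775a7597587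578caa657537528c68c58c48c3a5ea5da5ca5b74c74b74a749a489f3a47a46a45a44a43a42a41a3ca4974073f73e744743742741a407387378a58a48a3a2aa3d7327317ad7aea34a2b9a672d72c99989689589489389289172b72a88e88d88c72988a7287277c3a26a25716715714881880710a0aa1ba1aa11a10a0da0ca0b70b70a7099b5a08a077087079ba706705704a096fb6ffa05a026f99fa6f89fd9fc9fb9f96f46f36f29f79f66ee6f06ef9f29a26e96e89a099f99e9eb9ea9e96e29df9de9dd9e69db9da9d99d86e16e06df6de6dd6dc83d83c9d19d09cf6d76d68369cb9ca6d26d170d70c9bf9bd9bc9bb72e9b79b69b49b39b26cd6cc6cb6ca9af6c96c86c79b06c19ad6bf6be6f59a99a89a76b97249a49a56b86b76b66ea9a16b26e66e56e46e399a99299199098f98e6ae6ad6ac7fd97f97697497397297197096f96e98498398269e69d7ee7ed6a98d16a86a77e87e77e67e57e46a66a56a46a36a26a16a069f96896791a68d7d77d67d57d47d37d295b9599586896887cc7cb7ca7c97c87c77c67c567988794e94c94b94a67267167066f66e7b97b87b77b67b57b47b37b27b17b07af89d89e93393293193092f92e92d92c92b6637a266266166065f65e65d65c65b65a6599008ff8fe8fd8fc8fb8fa8f98f8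8f78f690c90a90990890790690590490390290164c64b64a64964864764664564465064f64e64d8d98d88d78d68f18e68e58e48e38e28e18e08df8de63763663563463363276063c63b63a6396388ce8cd8cc8cb6286276268c88c762462374f74e74d8be8bd8bc8bb61e61d61c61b8ac8ab8aa8a98af8ae8ad6156146136126168a78a660e60d7347338a089f60960882b89989889088f88b88988860560481360360260172071f71e6005ff5fe71a5fd5fc5fb8848838825f05ef71187f5eb5ea83183087687587487086f86d86c86b5e65e55e45e38685e25e15e08695da8658635d85d781885e85d85c5d28588578595d15d05cf80d8548535cb80a80980880784c84384284184083f83e5c75c65c56d88388375c15c05ec8338325bc5e85e782582482382282081f81e5b75b65b55b45b281c5b181a8195af5d55d45d381481080f80e5ab5aa5cc80b5ca5c95c88007ff7fe5a45a37ec7ea7e97e37e27e17e07df7de7dd7dc7f07ef59869b69a5a15a059f59e69569469359d59c59b59a5997d868c68b68a7ce7cd58b58a58968458558468168067f67e67d67c67b5787c467857657557456a5697be7bd7bc7bb7ba5675665655646696686676666656647a37a17a079f79e79d79c79b79a79979855d55c55b55a55955855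755677877777677578178077f77e77d77c77b77a77954c54b54a54954854755075f75e75d75c75b76676576476376276153d53c53b54354254154053f53e75675575453575175053453362061f74874774674552f52e52d52c73973d73c73b73a52652552473673552252160a73072f51e51d72672572372272171d71c71b7197187175175165155145135f551251151050f7137125095086d370f70e5046cf6ce7037027017006fe6fd6fc4ff4fe4fd4fc4fa6fa4f96f76f64f76bc6bb6ba6f16ed6ec6eb4f34f26b36e76b16b06af6db6da6d94ec4eb50a6d56d44e74e65056d05035025015006c66c56c46c34df6c26c04f86bd4f64f54f46b56b44d84f04ef4ee4ed6ab6aa4d469969869769669269169068f68e69c5975965954d24d14d04cf5904ce4cd4cc58c6876866854c24c14c06836824bd4bc4bb58057f57e57d57c57b57a4b167a4ae6776766754aa4a95714a84a74a64a049f49c67467349966d66c66b66a49749649556055f55e65865765665565465365265149048f48e48d48c63d54f54e54d64364264164063f63e48348248162e62d62c62b62a62963163062f47b47f47e47d47c62562262147747653061a61961861747247147052852761161060f46a60c60b46946860760646451b51a5195185fa5f95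f85f75f65f45f35f25f145c45b45a4595c25ee5ed4554545bd5e95bb5ba5b95b85df5de5dd5dc44d5db5d95b05d65ae5ad5ac5ce5cd4455a85a75a65a55c45c34414404565bf5be45345245145044f44e5b344b44a4494484474465a94344434425a24d359459359259158f58e58d4cb4ca42f4c842e42d42c42b4c358858758642342258358258141f41e41d4b74b64b54194b34165794134af5774ad4ac4ab57357257056f56e40b40a40940840456d56c4013ff56b4034025683fa5635625613f93f84924915555545535525513f33f23f14884874864854845465455443eb53953853753653a3ea3e93e85325313e53e447352b52a5293df46e46d46c46b52352051f3da46646551c46346246146045f45e45d50e50d50c50b3d13d04e85075064e54e44e34e24e14e04fb4054de4dd4dc4db4da4d94f13c34d64d54ea4e93cf3ce3cd3cc3cb3ca3c93c73c63c53c44d73c23c14314304c94c74c64c54c43b54293b43b33b24254244bf4be3ac3ab4ba4b94b83a93a841a4b43a53a44b23a14144b041241141040f40e40d40c4a54a44a34a239939844c4a149b49a49e39249d39739539439349849449338a3893f53f448b48a4893843ef3ee3ed3ec48047a47947838037f47547437c3e23e13e046f3de3dd3dc3db4673d9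3d83d73d63d53d43d33d245845743f43e43d43c43b43a43939643843743643544443343237036f36e36d36c36a3693683673b73b642a42842742635d35c35b3ae3ad42142035641c41b3543534184173503a24153a039f39e39d39c39b39a4074063fe3c83fd3fc3fb4003493483473463443433423f73f633b3873863853f03833823813e73e633537d3e337b37a3793783773763753743733723713c03bf3be3bd3bc3553bb3ba3b93b832c32b32a32932832732635f35e3b13b03af31e3593583573aa36b3a73a63153513a334f34e34d34c34b34a39139038f38e31a38d38c38b30f30e30d30c30b33c38833a33933833733637e33433333233133032f32e32d3663653643633623613602fc2fb2fa2f932132031f35a31d31c31b3452f22f12f031635231431331231131034134033f33e33d2e72e62e52e43063053043033023013002ff2fe2fd3253243233222dc2f72f62f52f42f33193183172d72d62ed2ec2eb2ea2e92e830a3093083072cf2e22e12e02df2de2dd2f82db2da2d92d82ef2ee2c72d42d32d22d12d02e32ce2cd2cc2cb2ca2c92c82d52c62c52c42c32c22c12c02bf2be2bd2bc2bb2b82b92ba2b62b72b52b02a029f2b12b428a27f2962972862952912a82a729228728c2702772a12b32b229328429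c26a2692992982ac2ad2aa29429e2a62a925d28f28e2522a42452af25e2502a52ab23e29d23b25f23a2392ae2332602612582302512572a224f22b2742732722712a322724421e25b22a29b29a25323621d21a21926326227c27d28228929021326c20c21227b27825625525426828d2792882761fc20b2102001f82492481f620128b26e1f01ef1fd24023f2852151fb2832812802081e62671e41e327e1e021427a2071dd1dc22c27526b2111d726f2262061ff1d422222122021f26d26620f20a2652641d01ce21623d23125c25922924c21c1c51c825a24d21b1c123822f2251bd20420320224624b2241b624124e23c1b31c224a1cb2471b71be1ac1f21aa2432421a51a41ec1b41b21e91e81c92371c623523419b19a2321981ca22e22d1951da1d91d82281c01d52231d31d21d12181c421718c18b1f71de1e720d1811e520e1cf17c1f92091d61781f42051721bb1ba1b91b81f51fe16e1eb1fa1ea16c16b17917d1831f317e1f11731631621a61ee1ed15e1a216d1a019f19e19d1821e21e11571df1971961db19419319217b19018f18e18d1cd1cc14b1751671661651761741ad19c1c71361351ab1ae1c31911271af1bf1231851891841a91bc11f17016f1b51a11b11b01191241311881871861371a81a711010f1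5f1a311c15c15b15a15915819915615515415315215115013010314d14c18a0ff1320f912112012511a12f1171151141131121111380ec13a11813c16418017f0e80e714916814f1430db12d0e012b12a0e20d417a0d31451691770d014714617111e11d15d0cc14416a1391420e314114013f13e13d16116010e10d10c10b10a10910810710610510414e1021010e914a0ba0e40de0b20d11480cf0ce0dd0cb0ca0c90f20c80c70c60c50a913b0eb0ea1001341330a40a30fd11612909e12c0a00fc0f609c12e0da0d90d80d70d60d512812608f0fa1220f80f70cd11b0f50f40f30f10f00ef0ee0c40c30c20c10c00bf0be0bd0bc0a50fe07d0a107909b09a0990980fb08e08d08c08a0890880870860ed0a80a70a60bb0e60e50670b80df09f0e10620dc0b60b50b40b30970960950940930920910900d20b10b00af08b0ae0ad0ac0ab0aa08508408308208108007f0680b907c0660650b706106005f05905805705605505406f06e06d06c06b06a06907e0a207b07a06406309d07807707605e05d05c05b05a07507407307207107005305205104003f04e04d03e03b03a03903503403303204404304204105004f04c03d03c04b04a04903803703604804704604503102402f02e02302102001f01d01c02702602503002d02202c02b02a01e02902801401a01301101000f01501b01901201801701600900d00800700a00e00c00b004003006005001002000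
def a3 : ℕ := nat_lit 0xd9cd82d7cd7dd95d9dda5d81da7da6da3d9bda4d7adaddacdafda9dabd68d46d5dd0dd33db0db5daad15d10d34d69d44db1d48d60d36d37d0ad01d53d4ed6ad45d14d39d66d0ed35d6dd6fd67db4daed6bd1cd65db2db3d55da8d5bd6cd6ed32d06d5ad29d57d0bce0d84d77d85d78d80d8cd97da2d83d88d7ecdcc9acf6c96d93cf4c60da0c86d79d74caec4fd72cebd7bc9bd8eccbce5c55c59d8dc8ccc9c5ac61c5bd94c95da1d8bd96cefc9dc9cceec64cdec87c88ce2cdfd89cd5d91d92d86d98d9ed76ce8ceccd7cdbcdac8acc6c89d73cacc49cbec7cc48cd3cbdcb1cd8c9ec98cedd7fc94c92ceacf3cf8cf2d9ad8ace9cddc85d99caad87d9fcbfd71d90cc7cf7cf0d75c4eca9abbcc5d8fcc3c7bcc2c41c43c57cb9c11d17d08d62b9cd5fd18d16c0cd07d43d40d1dd30d56d19d13d31c37b9ed51b36bf0d3bba2d70d3ad3ed12d64d2ed2dc20d20d2fc07d38ba0d23c35ba1c33b47b45bf2b3cd52b8dd4cb8ed09d2bd02bc4d00cfec27b89d0cd26d22c30b40c1fcfab3bb17bc7b3ab3d959b3fd21b94b91d59b95d28bebd0fd04c09b48b42c19c0fb18b2e8bec2bb9dd1fd42d41d54d63c2cd1eba3d61d47d1bc2ad1ac0ab8fc0bbc3c10d4dbfed2cd2ad3cd3dd5cd11c28c29c00c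06c04beabe8b92d25cffbc2b27b3ebfdbe0b82b2db6abfcbdfbc9bdeb6cb35c01ba5bb1b9ac22c32bb7c31d3fc26c2fd4ad5ec21c08b8cbc0d49d4bd4fbe1cfbbedd50be9be7becc38c39d58d05bb3bbebfa91ed27d24bd5c1abe5b81cfcbaccfdc12be4bdbbdabd9909ac8c50c51ce7a14cd2a16cd0c67c65cbcc62a07abcc99ca0c93c83c84cc1c63b079afa15c68c5fcd9cbaaa4aa5aa2aa0c46ca5a3ab05a18b03a5e9b0c40cf9c8dca4a17a1acf1c8fc91ca8c5ecd6c81ab2c80aeaa13c6cc82ab6c8bc77c72b00c4bafe9b99b8b019b6ae99b3ccda08ce3af39b2c56c52cabc7fc54c7ec53a53c45c3faf0a04c58c76c71c6f9b5af5c3ec3dc3ca0bae898ec479b4a5caa67ce9a99dba0e9daa2fadfa31c70a0fcb6a9ca5acc4c8ec7aa97c5ca44c4ca90ab9ab3aebb08a1bc66b109bcac6c4dae0c6aac4a67a7c98fc429a87489a5ba8af8a39c6baf9c97ce1cd1cd4affce6c9fcf5af7c69abaa09a52ac7cadcb0ab1c7dcafa98c90cc8ccac5db0eaf6cc0ab5ab4a96a95a0ca9fc75c44a5ba519eb99aa9aa5978fa83a0d9f2a259fbb742b22b39d179bab0a8f9fac6eae1c73a8dac2aafa40a657eca87780b61b60b5fa6a9e0a3372099271c719a30a4ca4b2b4b53b52b51b507d1aecb02a38a36aefafdca7ccfafbcce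ab7a4fca6ae4cbbcb2c78cb4ccccb8cb5a99b38b09ce4c6db34a61aad790b30a7bca2c747d9a5678db29b28c79ae6a23b24b23ae3b21b20b1fb1eb1d9d0acca93a24ca3cb7acba85a8477eb12b11bb6893b8b89294e894932b37bb9c25871c17872c15b4dbf6bfbb9fbf9b49868b4691fba4ba7b9bb8abdc90cbef97681cbe3b4a873968b4ebbac03bf4bd7814b26905b41b228aeb6bbb2bcb89584397f8966995f78c88908006875f461a9728769708226928bdb1bb16aca2afc3ab96bb4891bb0875b6891a95c95b95d91cc2dd03b99bbc967b44bffb88b87bbbc05b93b6fb6796db32821aabaaaaa997381fbd2c1dc1e81ec1c869c1bb83963865bc68b9b7cb39b90bc1b86b858b5b1a95f864bbdb6e29cb69982a8ba8aa89a88b6386eb15b14b7986d86c95785e68c7febaeb2f61990a6868192b1a75a7429b29aa71a70a6fa6ea6da6c83fb5e83e88cbaf8a7b6588d94c899b33a60a5fc1486fbd3b80bc5b7b9008bab2b8ac650be6b97b7f8fab43928919b56b55a4a92f8fb92164e923bbf91d922925b66838a3e88397997ac18ba6b4c984b4b93097cb5c94dbcab57bcc92d8378cb8818dc8b78fc8cd8e2b76b19b258896568b3a1f2b02ae969bb8c0d96cc16c0ec34c23c36c028b49318bcbc8bceb78b84bd88feb98bf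1c2e2ad983be291b9048f92ab2aa2a98e1903b75b6d8bb2a390784c68d8f664db778f72a82a72a62a52a4b7e85988225a2a285d2a12a029f29e29db5d66c92c652918bcfbcd8f192b8e68e56439d49d39d2b71b1c88e88b6589cc8c58c38b22ac9c79c69c59c49c39c29c19c068a95e96fbb596296bbf8bf7954bf5bddbd4bf3bee9b1c13c249ae93f9169ab9aabd0bab9569a6ba96938f89a26649a099f99e99d99c99bb7d999998997996995994993b5a94493abadbd68e364098b98a989988297986296a37a05a8c55571eadc71f7bea3479ca3ba3c55373caf26ff7d7aa8ad2700ad09bd6faaaea199ba791a1caedab87e17e36c0a9e9bb7017f0a929beabeac0abf95acb36f1a809a777b9b779f52b781950266b0ca32a637226db7ea72359450e7519916ab58871d7de9ad6c458f6bd7469909399389379362852847d2b0aa11a35a497efa2e9de9d8742776a4e7757d8a41792a45a42a47794afac4aa43abda03ac1a4d9dc7db9ac91591491391227e91029590e27aaf46c3a79c3b7479f76fcae5a029fc7d46f7a58743a0a744a28a48a50a019a39f19f48f528f2942939d98f02828ee8ed2922812808e92758e79d79d66fd98da269fd7cc6f66e76aaa2a7c473028e8d88d78d62658d42648d28d18d08cf6d9a2771aa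2c7368c9ad871b7bc9cb7999ca8c22838c0291ca1acda109f9a57a9b778a29797a94a12a209c98b12907e4ae279aa555507937958a8a667137546d56d48a228b7607127ca71189c89b7e5a627b87e7adbadeb0bb0fb0dac5ad77bd9cfa64a689ce755a2276277728d28c765a3d9e9a2b7a175074187d28a2892882872867daad1ac37ddaeeb04b06745a5da86a82a8177c27faa1afc27d27ba9da9177a279278277276a7f9e67cd21226d9ea58d55178e27477976127327227127026f26e9f620e26c20926b26a269268267add7bb562798a6ba6976654683b83a839a3fa2d7a383583474e74d83183082f27c82d82c82b82a82982882782658c7d37dcacfaac7cbaa7aa381daf181b7b1a77818817816815ae781381281159055e7af80d80c7b080a809808807806805804803802801ad67b4a7d7637fc7fb7fa7f97f82377f62612327f326025f96092e48b611b645f59495f666d89765389a8af9655dd9665d65d9940874823917877b2c9269745b35df902824933b4f7d0228bd185c8e082089e5a24754bf60c6768db6167c27c124a21897d88f8c68425c46978984c75fa6227ff60768f81a80b80e7ae7ad7ac7ab25e7a925d25c7a625b23683662588062f95363e69c97bb708ad8c48408b663d8a99208aa92496ab31b7a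856b2a78c78b78a24e25923478625825778322e951b625dcb1361886b9558638548b888792992777425524925425376f76e23576c25225176922d22383d8845f27fd8888538a029924875d75c75b2177597587575c388a8a575324794587f66b83383274c74b25024fbaa90893b8708fd8ff92a87e74073f24d69a97748965464f7382438ca5ee6835bf7322428da5ed68472d72c72b24c72972824b66666769494894b696b5b97e980941b598c78ccb5863063f2462452448a689f89d24162161724023f70b23e23d23c23b23a2392384c468e9619719756858e490623396e23022f9018df22c22b22a2299581c71bf2274c54936512262252248de22222122021f21e21d21c1c321b21a21994a66a8ce6316d76d68a48a36d36d26d161f6cf6ce6cd6cc2316ca6c96c86c769068b93e90b4926c19646bf6be93c6bc6bb6ba6b96b86b76b64c86656b36b26b16b06af6ae6ad6ac9438dd6a96a81f36a61e26a41db1df6a121521469e21379d3f773dada50c7b97215637249a4ace4fb6c67b27029f5a7e6c59bf689211ad5a786fe72e7344ea5324d752041842157257055f6795835957c552942941a67221067020f1cd7e89df74f6da4285927257266b49a16636621fe66020520d65d20c20b65a20a9cd53aa2154473a7e69d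d6eba54739a469f364c64b1e16491fa2086462072069d552a50b98c71779e79663c63b2031f22026372011f16342001ff6d87187a020462d62c26362a6291cc6276267a26241fd7b570f5826d061e1fc61c1fbad3a7a77d70e7c36156141771f97ed3f055260e1ee7c65074e96091ed7b35866056046031f81f76005ff1f65fd1f51f47b6426591ad97e97ebad45877645451f01ef73572f1ec1eb1ea5311e91e817f1e75e41e61e51e41e37d558e7e277f3f61e07df1dd1dc7e01da1d91d81d718017a1d64275611d51d41d31d21d11d01cf1ce7ba7565c25c15c07335305bd5bc5bb5ba5b95b81de5b65b55b47d65b25b15b05af5ae5ad5ac5ab5aa57c5a85a75a65a55a45a37c95a11a859f1cb59d1991ca59a1c91c83a74946779474586685f881093d5de85882558b58a1c69425f360658518a6786204443b14b44984b25a94a54ba4b65783af5765751b04ca67c49d67b38846f3b03a64b356a5694b55671c55651c46958415cd4c967a80f55d1b555b1bc1c25581c11c098148097860f8578ab54f54e54d54c1b11a75491be1bd83c5f16555431bb1ba5401b91b853d1b71b66572565382165365355341b46815e95be52f52e1b31b29526426755285275261221af48a5221a367f45751e1ae4be51b51a5195185171331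ad5141ac5121ab1aa1a99464c66986411a61a51a460b4741a21a11a019f19e19d4ff19c19b19a6911261981961951941931921341914b819018f18e18d18c18b68260a4e84e74e64e54e44e31974e14e04df4de4dd4dc4db4da4d94d86804d64d54d44d34d21614d01834ce18218141c5735606b57b750d6ed7034c34c217e17d7c751c4bd4bc14e57a4004f142a57956857f56b57d4b135a4af0e54ad4ac4ab4aa4a94a80d216a57b3524063e34170e60e141b57149c49b49a49957e49717c17b5966ec6c249149017148e1791787ee52373b48817648617517448317317255447f17047d16f16e26247947847716d7c850647347216c16b56e46e13b46c14816946916042046646516846346214a16745f16616545c16416316259351f15f15e15d15c15b15a45015915815744c15615515315215115014f58114d14c14b44043f43e43d15443b43a43943843743643543443343243113842f42e1371361354b76746695ce5f942513242313167d46741f1281304cb49e67341967e4a14163aa4140a24120fe4100ed40e0fb12f40b09d12e11b3a34a312d12c12b12a1294b93ff3fe3fd3fc3fb3fa3f912769b5db3f51253f31241236103ef1213ed12011f3ea11e11d2983e63e511c4a23e23e111a1193de1181173db1163d9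1151143d61133d411211111010f10e10d10c3cc10b10a1093c81081071051041031021013c03bf1063bd3bc3bb3ba3b93b83b70e93b53b40e80e758056d5773ae0e43ac0e34153a90e259756c3a50e04073a20df3a00b939e0de39c0b70dd0dc0db0da0d90d80d60d50d43910d738f38e38d38c38b38a0d356f3873860d10d03830cf0ce3800cd37e37d0cc37b0cb0ca3780c93760c83740c70c60c50c40c336e0c20c136b0c00be0bd0bc3663650bf36336236136035f0a535d0a40a34b03593580a10a009f35409e4a435109c34f09b34d09a09909809734809609534509409109034109333f33e33d33c08f33a08e08d33708c08b33408a33208908832f08708608508432a08308208007f08132432332232132006806731d06606506406331831731606231406131206005f05e30e05d05c05a05b3093083073060593040580573010560552fe0542fc0530520512f82f704003f2f403e2f203d03c0922ee2ed03b2eb03a2e90392e70380370362e32e20350342df0330320312db0242d90232d70222d52d40212d202001f01e2ce01d01c2cb0142c90130122c601101000f2c20092c00080072bd0040032ba0012b50002b62b8b54b72b73a76a1eac9a1da069c8a009ff9fe9f09ef9ee9ed9ec9f89e79e59e49e39e29e1a8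ea73a7275f3e798798590f8f38f28ec8bf8b08f48d98868858a187c87b87a8798789359348c18ef8eb8ea86a91186782e86690d86286186085f8e885585285185084f84e84d85a84a84884784684584494f8d58d362b47a7f57f27f17aa7a87a77a59e878878578453977377177076b76a74a74978973e72a7277c077275e75271671571473773171070d70c70a7097087077067057047f77a476d7876fb7f46cb6f96f87827686f56f46f36f27cf6ee6ea6e96e87676e66e56e46e36e26e16e06de6dd6dc7bf75a5376a069f69d85b68867166f84b65e65c65b65984964764564465f62e63a63863663363266162361d61b6486126026015fe5fc5fb6a76396355f05ef60d6085ec5eb5ea5e85e75e55e35e25e15e06a564a5da6a25b75d85d76a35d55d45d35d25cf5cc5cb5ca5c95c85c75c65c566e62859e59b5995986f05895665646df5595575566ef54854755a54254153f53e53c53b55c53352d52c54b57452451d51551351151050f5a054a50a5095085215055045035025015004fe4fd4fc59c4f94e24f84f74f64f54f44f24f04ef4ee4ed4ec4eb5841891881871861851844cf4cd4cc5d15e64c14c04964955d048d48c61348748548448248148f47e47c47b4764714704a646a46446045e45d45b45a4594d14684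5645545445345245144f44e44d44b44a43c4494484474464454bb44344244146114946b14714614514414314214114013f13e13d13c46d13a13943042d42c42b4f351642442241d40c40940540440340240141e3f84fa3f43f23f15253ee3ec3eb3e93e83e44083e03df3dd3dc3da3d83d73d53d33d23d13d03cf3ce3cd3cb3ca3c93c73c63be3c53c43c33c23c11000ff4110fd0fc40d0fa0f90f80f70f60f50f40f30f20f10f00ef0ee40f0ec0eb0ea3b63b33b24a04ae3ad3ab3a849f3a43a139d39a3993983973963953903943933923894a738538438238137f37c37a37937737537337237137036f36d36c36a3643693683670bb0ba39f0b839b0b60b50b40b30b20b10b00af0ae0ad0ac0ab0aa0a90a80a70a635e35c35b41335735635535340a35034e34c34b34a3493473463443402ef34334233b33933833633533333133032e32d32c32b32932832532732607e07d07c07b07a07907807707607507407307207107006f06e06d06c06b06a06931f31e31c31b31a31931531331131030f30d30c30a30b3053033023002ff2fd2fb2fa2f905004f04e04d04c04b04a0490480470460450440430420412f62f52f32f12f02ec2ea2e82e62e52e42e12e02de2dd2dc03002f02e02d02c02b02a0290280270260252da2d82d62d32d12d02cf2cd2cc01b01a0190180170160152ca2c82c72c52c42c300e00d00c00b00a2c12bf2be0060052bc2bb0022b92b7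
def a4 : ℕ := nat_lit 0xdb5db4db3d87d86db0dafdaedaddacdabdaada9d71da7da6da5da4da3da2da1d52d4fd9ed9dd9cd9bd4ad49d3dd3bd42d35d94d51d92d2ad50d24d22d21d8cd1fd8ad1ed20db2db1d18d17d83d82d81d13d7fd7ed0ed7cd0cd0bd09d78d08d11d05d02cffcfeda8cf9cf8cf7cf3d6cce9d6ace2d68d67cd8d65cd6ce1ce7ce6ce5cd0cceccbccacc7cc5cc4ce4cc2cc1cbfd54cbdda0d93d90d9fcb1cb0cabcbbd9ad99d48c9fd46c9ec9dca0d96c97c93ca7c91d98c90d97c8dc98c8bc89d36d95c87d33c85cd9c84c82d2ec80c7dc7ed91c7bc7ace3c76c75d8fc72d8ed8dd88d8bd89c67d1cc66c69c68d85d84c62c61d14d80c5ed76c5bc5cd7dc59d7bd7ac55d79d77c50c4ed75c4cc4ad74c48c45d73d72c79c78cb6c53d70d6fd6ec37c36c33d6dc2fc2dc39c2bc2ac32c28c27c22d6bc20d62d61d60d58d27d69d63c11c10c0ac08c07cdbc04d31d66c00d64bfec0ebfcbfbc16d5fbf8d5ec1cc1ad5dd5cbebbf1d5bbe8d5ad59be5d57d56be2d55be0d53bded4bbdcbe7bd8beecfbbf4bd4bd3bced4ed4dbe9bc4bc8bc2d4cbc0bbebbcd3fbb4bb6bb0bacc12bd6d43d47d45d44ba3c9bba2ba4d39d41b9eb9dbb7d40b9ad3ed3cb96b97d3ab94d38b92d37b8fd34b8dd32d30b8ad2fb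88d2db86d2bd2cb82d29d28cfdcfcb6fd26d25b6dbcdd23b67c14c30bafc2eba7b8bbccd1ad19d1dd1bb49b48b4ad16d15b45b9bd12b56d0fd10b40d0db93bc7b7cd0ab91cfab39bb9d07b36d06ba6d04b32d03bf0d01bdbb3cd00b7fb3eb18b27b2eb85bd5c1dc1eb14b0acf0b08cf6cf5b00b04cf4cedafdc6fcf2c6dcf1af9cefceeaf6ceccebaefafeafcafbceaaf7ce8af5c3cc3dccdae8cccb10ae0ad2cd1af3c70accca2ce0cdfac4cd4ac2abcac7cdeab9cddcdcab5abacdaab8ab7af8cd7afacd5ab0cd3cd2aadb07ccfb06aa8ae4cb5aa3aa2cc8c49b03cb7a9aa99cc9a96cafcc6cb9a97cc3a95aaecc0ab1cbeaafcbca86cbac47aa5aa4cb8aa0ca1c3ecb4cb3a7bacdacba6bcb2c73c6aa63a64a5ecadc57a5aa9ccaea52caca53caaab3ca9a4dca8a44aedc51a61c94ca5a36ca6a39a3aa2fca4c6ea85a24ca3ae7a7da23b11c6cc4db0ec99c9cc9aa18a17a19c96c95a14c5fc92ab2a49c8ec8fa0fc8cc58c8ac54a0ac88a08c86a4cc6bc83a04c81a43c7fc3fa5b9fbc7ca51a0cc44a0dae6c569f29f3a259eba59a83a9fb74a729e2a3fa11c779dcc74a67a8d9daae1a1ac719d7ad8adaaf49d6b619d3a71a279d0adeb5bad6ad49ceb57c5d9c9a06a6ea6f9c7a5f9f5a1ca05b0d9bcc63c65c649b9a15c60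a13a12ac69b6c5aa0ec439b4c46a0bae9c52a4aa3bc4fa07a1fa1bc4ba03aaaaa6c409faac0a9b9f1b29a8bc4199a9a59b19c19a7b219c399599d9aa9e09b0a0198fc429b29a9a7cc3b98d988ba8c19b0fba5b4c97d97ec3a97ac38bf9bf7972c34bef983973c3596cc25c31c24c23bffc2cc01c21c29c1fb63c1596596496dc2696bbba969968967b3ac1bbabb7d957bf5956ae2b69c1894cb5c94a94994db64946b65944b5a945b59943c1793f966962940bd1c13bd0936934932c0bb42ac5c0f92cc0d928b2c92692596ac0c91ec05c09c03c0291fc0691dbbfb99be1bfdbdfbe3bfa975912b3098abf690bb2fbdabd9bf3bf2904bd7b7597496fbc5b2bbedbec8febe6beabe48fa8f9917916919918a8eb6ba8cb2891491391090cbddbae909b76907906905903902baab15bd28dd8dc93b93aa76a75a748d5b73b5f8d2b52b53a6d8cfbcf8cda69a68b6c9518c8bcabcb8c5bb88c2b50bc98bc959b84bc6b778ba9008b9921920bc1bc3b818b58b491abbdb8c8b2b38b989238ac8ab8fbbbbb878a995d8e6b718ee8e2a3cb37bb2bb3892a37bb5a3589789589688da30bb1a2ea2da2c88990a8ff887b5e883b79badba9881a2187eb349858b0b4eb33b68b9fba1ba0872b46b9cb44b43b7086fb95b3fb7eb80b3bb9092fb8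eb35b54b4db89b31869b1a8bf86087886b85eb83b2d85c87986d859b4f856b7ab7bb2a9f09ef88584f8ecb7884c90887b90f9589e58f2846b7287cb1c88f8759ddb6e83fb6a9d99d8b66b6283d83ab609d2838b5d9cfb588369cc8999cab55867b5182d938829b20828b2395a825877865b4b822873b47871820b4186eb3d81eb17b24b1b86887d876864915b1db16814b229a6b259a492783180b9a099f80db1e806811b2689c81d815802b1f826817800890819b198beb137fd7f8aa97f9b127f2986a1e984b029829819807eab0bb0c7e797bb099799789777e3aaca9eb01b057dd7e1a9d7dfaf0affaeeabdaecaebaeaad0af2af17d7acf7d59607db7daa417d97d89c0a5c9e6ae5ae37cc7cb9537c9a667c17bf7beadbadf7bbaddadc7b87b9ad9ad5ad7ad37b57b4acead17d67b27b1a78a777ab9c5937aca7a5ac9933ac879b930a0992e92dac392b7c3796ac19a3abfabe797a48795a55a54ab6abbab4791790a4ea90a8fa92a919aba8aa89aab785a889e77fa7f5a87aa7a2aa849e9a82a81a80aa1a7fa7e7e0a57a29a98778777a45a94a9377578d78e8f58f48f39e48f178c8efa3e78a9ec788787786784783a4078077f77ea3d77c77b77a779a7aa797607af8d98d88d78d6a737598d3a708d18d0a6c8cea6a8cc8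cb7c5753a657508c6a628c48c3a6074a7d0a0098e7cea5d7cda58a56744743792a50a4f741a4b8b1a1d8af8ae8ada47a46739a4276f7817658a58a48a378b76b7c477d72e7a199972889a9cb723a34a32a3371f893a388919919df88ea3188c71988aa2b717a287159ee713a26747a2271171ba209ae9e19e87079f89fe9be9ad9de7009baa169b86fea109b59f76fc9fd7a8a029af9c86fb9bd9ac6f67046f49ff6f29fc6f19f97066ee9f67038579f470d6e779e8528516ea9ed6e27899ea72a70a8497cf6dd9e38458446db7228418409db83e9d56d86d79d48399d18379cd72d8348338329a28306cd6f99c66ca7ad6c99c49c26c79949bf6c56c69bb6ff9b76c39b39986c070b6bd9906cf9936b99979a881381299b81072673099e6b29a180a8098086b399c6ae72b6be99674c99271d74898c6a86a690e98998b6a06a490d6a27f39877f17f07ef7ee7ed6997eb97f6967e897c7e67e57e497669197090196e69297169095f95e95c95b96393e96168c68b7d268d8c08488bd8bb95595468495268068167b8ca8a092a67295066f94f94e66c7bc94b7ba94794866866794294166593d93c6648da66282b7ac93965c7a986a7a77a69357a46587a289d65579f85379d79c93179a79979892492992265064f8b691c91b64d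8f68f78f08a28ed84d8eb8ea8e99118e88e76a38a78e58e48e389f8e18e08df8de8fd8fc63d8f87747737727717708a864b64a6498a16476466456446438a664164063f63e8db75f62e75d62d62c75a8d47587577567557548c96236878c774f74e74d8016898c16887fe8826866858b88b76168b374073f73e73d73c73b73a8aa64c63667664273473367964880e67589e83560380484b5fd89b5fb80f5fa7248988425f672089471e7ff5f487f71a88b5f18885f088661d8846188805fe5f360685570c81b84a5e35e287a85b5e08628585de5df8748218705dc86c8665d982e5d75d68635e88615d285f85d5e66ef85a5f96ec6eb8505cb65f8546e66e56e45cc84e5c76026df6de8476dc8436da6d983c83b6d66d56d46d36d26d16d08185ba82f5b65b782c82a5b48278238245b381f67a5b181c5af80381a5bb5b95b08166b86056096b560780780c6b15a85a780560061e61a6195a17fc59e7fb59c7f67827f459d7f759b69e69d69c69b69a7ec5935947e96956946937de7e27dc58f58e7d17d47d358c74b7497517467457ca6836827c77c857c57e57f57b7c66c273267867773672f6745797c25666707c066e66d7bd66b66a5607b77b655e7b37b055d7ae55a6606e865e65d7aa65b65a6597a35546567a065465365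265179479355078f73876e76d76c73176a76976876776673576476376276177663c54363a54254154c73754a54954854754654554475e75c75b53962a53862862762662558b75258858762061f6ac71458a5896ab6aa71258674261561461361261161060f57554b57056e60a6b65746b470e6b751772c6e05136ad51271072950f7277256ed50d50e7215f571c70f50b71871652d52a5295ec51151d51c6f55026f04fe4ff7097084fc7057017024fb6fd5db4f96fa4f76f86f75035014f86f35165d05cf5775cd6e36e95ca4f04ef6e15c65c55c45c35c25c15c05bf5be4e55bc6bc6ce6bb4e16cb6cc4df6c86c45786c16ba6bf4e34dc4db5ab51e5206b06af5a64d652f52e52b6a94d14d26a76a16a569f4ce4cd5985975965956976984c74c659068f68e4c468a62461c61b6226216175855845835825814b767d67e4b567f67c57a6735b25ce57660e6085734a557160c56f60b4b056c56b56a4b14b256767156556456356256166949266666348f55b66155955855755655565755355255164e4d354e48863760d63563463363263163062f63b63963847f53f47e48348248148062b62947a4795354c24c14bf4be5305a45a35ef4c05a25ee5ed4ac46e5265255245234a84a65a94a25aa5ea5e94634624665186045d14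5b45c6015ff5eb4595fc5f75f84585f250a47147046f4674534645d55e75d444f5e45e544d5e15dd4fa5da5d35d84514494484ae4f24f15c95c84ee4434ec4eb4ea4e943f4e74e65bd43b5ae44e5b84505b54384395ad5ac44c4364694755a543347254f59f5a042e42d59a59942b4cb4ca4284c859259142658d4c353453352c5325314bd4bc4bb4ba4b94b858041a57d4214b356856956d4124f34105284ab4aa40b5224a75215724a440751f41541349f49e49d49c3fe3fc41641849749649549449355f49149055c48e48d48c48b48a48954d4303ef4853ee53d53c53b53a54053e3ea3e93eb5375363e64234224d74203e24d450950850752740d3de3dd46a4d84085065193d950451b51a3d53d345f3d845d5145153d151050c3e33cf3df3da5053cb4f64e05004e24fd4da3c73c94f54f44053c54454444ed3c24414404e83bf3bd3ca4e43cc4dd4de3bc4d93ba3e54d53b84314873b44d04cf3b24cc3b14294c93af4c54254244774764b447441f41e41d41c41b4b63ac4983aa4994a13a04a04af39d4ad39b40e46d40c4a940a3994684a33a34473a13973944014003ff49b38f49a38c3a53f93f83f73f63873f43f33f23f13f048648438338247b47d47c37f3e74784343ab45747337b37a45546c46b377376454465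45e3733d64613d44603d245a37c45636f36d43a45243c44a36e44b36c4463693c344236736643e39643d4373634353614323b73b635d42f35b42c42a35a4273ae3ad4193e44173a93a83a73a63fa35640634f40441434c39e41139c40f39a4093504033be3474023433923413463fd34833f3fb33d38a3893883f533a3393843ed3ec3363803e837e3343d03e13e03313373dc3db32e3743d737237132c3ce3c83cd3c632a3293c43273c13c03653553bb3233b936035f35e3b531e3b33b03593583573a43643543533523143983a231134d39f34b34a30f38e39539030e30d39330b39131a38d30838b30633b38638530337838133537d30030437930232f37532d37032b36b36a2fa36832632532436232232132031f35c31d31c31b3402f12f22ee2ed3153512ea31234e3103493453442e534230a30933e30733c2e13323383302e23332e02fe2fd2fc2fb3282f92f82f72f62f52f42f33183192d62ef3173162d32d43132e92e82e72e630c2e42e33013052ff2ce2cd2dd2dc2db2da2d92d82d72f02d52eb2ec2c62c52d02cf2df2de2c32cb2ca2c02c82c72d22d12be2cc2bd2c12c92bb2c42c22b92bf2ba2bc2b82b72b62b52ad29e29a2b12962842902b427d2912772862a82a728c2702922872952a12932692b328a29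c2652b22992982602b02a22942a02a42ab2ae28f28e2452a625229d25a23b2a32a925b2af25028225923425d2582ac23023326123822b2aa2292572402732722262a521e24e22723e22821a29f26826721829b26425621627a29725f20c27f25c28528928127e27526325525425328b20828321126e24d20e1f420f2492041fd1f028d1fc2011fa1f627423f26c1e61e52882121e32792152361e128027b1df1de27c1dc1db2071e92781d727626b26d2711d42052062222212201d526f1d01f821b26a2192662172622371ca21323a24f1c524a24c20d25e20b20a20925122d2232242482031ba2431be1bd1bc2472441c62421f921c1ac2411a924b1cb1bb1a72461b31b11b01ec1ab1ae22c19f19c23d23c19a23919923519823223119522f22e1a019e19622a1d621f2251d319018f21d1cf1ce1cd1cc1f32141821c817f1fb2101c41c31c21c11c01bf2001ff1fe1f22021b917017317217117e1ef17d1ee1ed1af1ea1641f71eb1621f51611f11a616c16b16a15c1681da1e81d91591e71571e41e21e01581d81dd15a1531521911d21d118e14d18c18b18a18913e14118613c1471371c91351331c71b41b217c17b17a1791781771381751211b71b61b51b811e11f1311a51a41a31691a11121151651ad1101aa1a811b1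0e1191161a210b19419d19719b10810910a19319212d10514f14e18d10214b1131491181840f81450f51430f31870f00ff18813d1850fb0eb0f91761830e71810e518013216d13012f0dc1510df0da0d61291281271261251241231221740cf16e16f0cd0e31600cb15e1480c915d1660c714a1671111630cc15f0c30c215b1541551560c10d91500be10314c0bc10013f0de0fd0ba13b0b11391460af0f61440ad1420f20ab1400ef0ee0b70b213a0a70e90a31360a21340e411c0e20e10a012c0fe0dd12e09c12b10609609512a0910d40d30d208e0d012008c11d10f11a0891170871140c60c508510d10c10708309f1040801010bb0fc09a0b80ed07707d0b40b30ec0fa0740f70720f40730f10aa07906e0ea07c0a50670e80e60a10e00bf09e09d0db0600b909909805e0d80d705d0640920d505a08f0d10580ce08b0560ca0570c80860c40840c00520810bd07f07e0b50a607b07a0a904a0b60760480b00ac0ae0470700440a806d04e06b06a0690680a406606509303d06203a09b05f09709403705b09003508d08808a03405405308205105004f06c02f04c02c07804907507102904506f04304204104003f03e06302202106103903805c03605905501d03203103004d01a02d04b01802a04601602702602502402303c03b01101f01e03300f01b02e01902b00b02801501401301202000701c00e00d00501700a00900301000200c001008006004000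
def a5 : ℕ := nat_lit 0xd8cd9dd9bd85d98d82d83da7d81da3da6d7cd78d8ddaedabd67d6cdacd65d54d5ad55d48db4d6adb3d6fd70db1d3ad39d34d33d31d2ed59d4bd58d26da8db5d1dd1cd44d19d18d3ddb2d15dafdb0dadd16d14d68d6ddaad0dd4ed4cda9d07d5cd04d5dd0fd00d21d99d9acf0d7dda4cf2d9ccdfd7eda5ceada2cd7cd4cebceece8cd2cddd74d76cc9da0d91d8fcc3cf6d9fda1cbecc5cd9cbbcbfd7acd5d79d90cf8cf9d9ec9cc9bcedd89c99c98c95c96c94cf1d86c8fc8dd97d96c8ccaecdbc87d95d94c86d93c83cdcd92c81cadc7fcc4caac8eccdd8ecc8ce4c77c76d71c68c67c9dd8bd8ac64cf5d88d87c61d80d84d7fc62c60ccace0d73cf3d7bc59cb1c5acabc50d77ca9c4cd75ca8ccbc4fd72c5cc45cfdcfcc70c6fd49d4ac39d56d1ac35d0ed6bd3ed6ec2cd61d45c29d62d66c2fd60c27c2ac20d24c1cc10c0ed10d69c0cd5ed2fd36c06d51c22d64c00d4dd63bfdd5fc26bfbbfac08d27bf5d02d11d5bd25bebbead52d2ad57be5c37c34d4fd53be0be7d50c03bdebddcb7c14bf6cb4bd1be1d0bbfebe6d37d2cbc3d09d29d06d03bb7c3abb2bb1badc13baaba4ba3c32d1ed47d46ba0d43d42b9dd40d41d3fb9eb9cc2db96d3cd28d3bd38b94b95bc4c0bd35d32b8db8ad30c07d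2db88d2bb86bc8b8ebc0b97c79c78d23d22bf1c24bcfb6fb6ecfbcfabcbb56b4eb4dc0fc36d20d1fb48b9fd1bba1d13d17d12b46b45c2ecffc11d0ad0cb3fbc9c56b40bc1c30c52b37d08d01bbeb33d05b47bbcbf2b36baeb41cfeb43c43b19c41b1bb1ab15c3db63b13ca6cf7b09cc1c69cf4cc0b00c9eaffc53ce9c5dc91cefaf9ce6cecaf6ce7cd1af0c74af7cd8afbce5aeaaf4c1dce3ae5ae4ae0b10af3aefad2cb6ca2accc5bce2c6ace1ac3cdec88abcabbccec82cdaab6ab5cbab06aeccd6ab2cb0cd3ab0cd0ccfaaeaadab7cb5cccaa8aa7c49c75aa2b05beebedbeccc7cc6a97a96cbccafcc2a93b07b04cb2cbda8fcb9cb8ab8a85bdaa87a86a80a7da7cbd4acda79cb3a77c73ab1a6bac4c6ea6ac57c7da5ea58a57c89caca52c54c7ba55c4ebbdc4aa47bbaa3ba39ca7a3aa38b0aa61ca5ca4a2fa63c47ca3a24af1ca1a22b12a1ca1bb02ca0c9fa17c63c9ac65c93c97c92a15a14afaa11c7ac90c8ac8ba0ea0fa53a28ac7c7cc85a07a05c84a16c80a03c7ea01a5da02a08a4fa10a12b7eb7db7cb7ba46a26b78b77a3daa1a74a73b72a62a49c72c71afcadfb6b9dbb699de9dcad89d7b64c3c9d5a759d4b5fa31ade9d0b5bad79cead49cac6db559c8acab529c6a60b4fc6cc6b9bcb0da18a19c66c4bc5fc5e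9b8c44ac8c46c55c58b3eb3d9b69b5b01b399b1c51c48a4c9aec4d9b9a43aaba2a9b09afa48a29b2a9a0a3eb27b26a2ba4a9c49b799fb20996b1e998a33c40c3fc4298fb17990c3e98dc3bba8988c18984983b4bb0cb0bbb4c3897abe3c02befbe2972ba5b3ac33c3196d96cb6dc21b99c2b969c23c28967c1ec17963babc25c1695eaedc01aebc1f973957964ae6c1bc1a954977ae1c19b6cb5d94badcadbadaad9b66b5a944951b58941c1596294093f966bd3c1293ab53935b42b8f932980bccc0d92c924923abfabe920c0ac0991f91ebdcbf7c05c0491b921bffbcebfc918bf9bf8916b3091298bbf4bf390aaa590c90bbf0b759059049769719008ffa9aa998fcbe9be88f98fdbe4a92975a90bdf8f4a8d92e8eea8a8f08e9bd9bd8bdb8e38e2a828e4bd78dfa7ebd6bd58dc93bbd28ddbd0a76b61b74b738d5a718d4a6f936937950bcdbca8ce92d94c9458e68cdbafb71bb3b508c2bc7b848bd8bc8baa59bc6bc58b7bbf96ab91bc28b48b8b818b6a4db35a4bb24b70b2cbbbb7a95c8acb318aaa418c88c5b28b7689abb9bb6bb8bb589389297ba34b1ca32b5e8c3bb088c88e8c6b25b2fb2bb9088db79883bac881ba995392a87d98787bba7ba6875b49b4aba2b89b9bb9a871b7fb98b80b92b93a0d86f86e887931b8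2b8c867b8b872b87b83b858c186687a8888638698688709f89f79f69f59f48ab9f29f18528518869ed8a19eb9ea89f8b091196e8f39e48479e284a8959dfb688adb67b6a83f9d9840b6583db62b6083a9d2899b5c837b599cd834838b579c9b5482db51939b239c39c28299899bf873874b4c876877b32b44b22b3cb3b9b481f9b2b38b2eb2db348228218a281d81981c8208b18898af9298189a1b29b2180799d99c89b99a999b1d82ab1f802994803890800b16b187feb14955aa97f89c0b11a1e7f37f2b0fb0e7ef981ac597f97e97d97ca35b087e57e6ae2a9ea917e3ae9b03a9d7de7dd9e6afeafd7daa54af8968af5ace7d7ae7af2ad17d396095faee95da4595b7f97ce7dfae87cb98cae3a217c8ad5a6c7c094e94da67add7bb949948947946a66ad67b47c7ad3ad0acf7b193d7d6a7aacb9c57aba6da6eac97a5933ac6a0979c79ba8ca68ac2798a209a3797796926925ac1ac0793ab3abdabaab9790794ab4792919aaf917aac78b91478caaa9e77867857fb7f7aa4aa3aa677e77d90777faa0a9f77a9027e2a9ca9b777a94a987d9778a957768f78f68f5a8e9e58f28f1a897a7a8b76c76b8eb76da887688e7a65766a81a84a83762763a7f8dea78a7b7af76075f8d88d78d6a72a7075a7598d17a67c1a69a647557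bc7c676fa40765a2ca3f8c4a30a5fa0074b74a748a5ca5b745a5a743a50a56a4e744a517428b29a69e89a473c9dda449f3a4273975375175073474e8a39ab9ec7309e97a172e89c99ba3c9d18988978969e0894a37a3671e99288fa2da27a2e71c71a9a59fda0a9ee71571ba25712a237ca7137c3a1f70aa1d9fe8797079ba9bba1a9bd9bea04a139f9a0ca0b86d6fd7177aa9fb9faa069ff7006ff9fc7276f86fb7086f66fa6fe85b85a85985873b8566f58547a09f09ef6e384f84e73184c84b9e173e7f49e36dd8456de7226db8419d89da6d99d683c72d9d36d69cb9cf8366d79cc6d58326cf83082f7099c770b7ae9979c18286c88268257017029ad9ac9a79b36c39aa9a86ca6c49a99a26be6c16c96c08137407286b56c27c46b380c80b80a80980899e80672b6ae9939956ac9916ab98e7cc7fc90e6a695a98a90d6a16a084898698569d7f098269b7ed7ec7eb7ea7e97e87e797897969397490169269195897096f68e7db96b8fb7d896593c68b7d49617d27d16896a29596857fd9568806809529428ca67b80e87e7c28cf94f66f7be7bd8cb94a66a7b97b86697b668194367f7b293e7b08db82b6627ac93886a65d65c8ef8d09346597a37a289e85365665579d93092f65279992b92892764f91c92291a65091d64e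78e78d91391564964878864a91090f6457836a568764390690990863f6409037798fa8fe8f863d63c7737727717708c96378ea8ed8ec6336348e87678e58c76308e08e162f8da8d962b62a75c75b8d38d26276707568cc6838a86368a78a66208a474d61e8c08bf61b8be6186198bb8b58b98b36168126148496778ae85760f8a962462360c6218a560a60984d8a060689d83b72c80572a5ff81186267a72572472384372172071f89161a88b88488a5f45f286b5fe8855ef87f8826845f05ee6755e870c82c87c82e85f8787065e15fb70382382486586485c86c5dc86085d5e38615dd85e8555d75da5e25d96f06136ee5ce5db6eb5cc6e96616e76e66e56e48506e26025c76df8448465c58425c483e6d88358398336d45c25c16d15be8316ce6cd5e45e581b8158275b45de5df81a81e80f8168145b58175b36bc5b05b95b15ab5b26798105a980d6b25a66b06af8045a48017ff6866a96a86a77fa78259d59c7cf7f67f559969e7f169c7ee5956996986976965966947e47e17e058e68f7dc68d68c7d568a7d05897816aa7cd7117545817b57c97b367e58067c7c57266b667873d57070e56b5686726717577bf56466d66c5827ba7b756066755f57c6646637ad6e855b55a65e7a97a855765a7a465865779f79e55255379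a65179179578f55058b54c78778a78954854978464478058754577b77c54477577454053f63963876e75253c76976a53b63176476153962d62c75e75d53662875858562573873753273574f53074c52d52e74971d74674752974157673f6ef52461156f73a52253373651f73373251d52072f5786046036e160152f7297165125107045fa5775f85f75f65f571952a71850b71071470f58650a50957450670d5e75e66cb6cc6f96f27054fc6c56c66f76fc6ec6f36f14fd6f44fb5d54f85014f94f34fa5cf6ed4f16ea5cb4ee5c95c86e04ec6dc6da5c36d36d25c04e96d04e84e65bb5ba6ba4e04fe4ff6bf6c76bd6b76b96bb4df4da4de4dd6b84d86b45a85a76b14d56ad58a4d75a15a059f59e6a46a34cd59a69f59859769569a5945934c95914c858f69058d58c64c5a36884bf6425ed6264bb58366b68267d4b757e4b666557b4cb4b26055f96154a85ea5735725716766104a24a149e67449c4996735675664bc66e4945624b866866649255d55c66065f48d48e65b55655555465365448964d54f4c348664b4c148264664748154664163e47f54254163b63a47c53d63563253a62e47953762953547760d62247461f60061c61d4704755f361746e4ac5264a761252360e46860760b4696084674af51a47345f5174ae5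155145135fd4715fc45950e50d50c5f15ec5eb4c04575e94564545035025d344e5b65b75d85e05d65d05d25d444d44744b44a5d14455cd4f04ef5ca4425c64eb4445bf5bd4405bc43f43d44c44f4505b85af5ad5ac4384395ae4355aa5a24335a54344d34d24d142f4cf4ce59b4cc57a4ca5925904284c64274c454e42354b5085884204bd56558441c4b956157f57d41a42a42957941641551b5164ad52740e4aa4a95755254084a54a44a356e56d40440156c49d56a3fd3fb5694983f949641d5633f655e49149048f5585593f13f748a5513ef48754d4243ec48354a5474805433e947d53e47b47a5384785343e452b5315193e551152c3e35283dd46c40d46a51e52151c3e23db3da4124624114605183e03d245c45b45a50f4585075053d05043cf3cd4054e14e25004f74e34f54f43c73c94f63c44f24ea3c24ed3c34e74e53c04e43be3bd3c84db4dc3bb3ba4d94d44d63b94314304d03b442d3b342b4b44b34c74c53af3ae4854c23ab3b14be3a941e4954ba3a64b53b54183b04b14b03a23a146346141040f4ab46b39a40b40a4094a64074064514a039539349f4003ff38f49b38c49a3fa49738948b4933f53f438a3f248c3884883823ed4843eb3ea47e3e83e73e647247646f46637d45e37c3de46d3dc465464376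37a37539e39d3d43d345d3d145545337045236e36d39644843a44936a36944644144336843e36643c43b36343743643236135f3b641942e42c35b42141742642535735d42235a41f3533a741b3a535c3a341441334f34e3d63d539c39b40c3993983473ca4033434023923913443fe33f3483fc38b3f33f83f038733c38533b3833ee38138037f37e3e13df3343d83333783773d93d732f32e34b3713ce32c3cc3cb32936b3c63c53c13273bf3243643bc3623b83223b731f3ac3a43b23aa3593203ad31e3553543a83523513503a039f31231137234a34938d39730d31839039434234131938e31733d38638430633930533733633537b3793013003303743732fd36f2fb32a36c3283672f932536532336032135835e3562f431c2f52f134034533e31631531431334d34c2e830f2f23462f030b2ef3092ee30733a3382e22e13023323312de2fe32d2fc32b2fa3262f82db2f631b31d2d830e31a30c30a3082ed2ec2eb2ea2d93102d72e62d62e42d53043032cd2df2ff2dd2dc2f72ca2e92f32e72e52e32d42d32c92d12c82c72ce2e02cc2cb2da2d22d02cf2c02c52bf2c32c22c12c62c42bb2bd2bc2be2ba2b92b82b72b62b52ac2b329b2b129728528927d2b428327b28827327228d2a528b2a327e2942a026a29e26c28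f2b226528e2982b02602582a129325225025a29c2992a62452a423e2ae2a928723b2af25b2ab25c28123525e2a22ad23d2aa23724b22f23323c22d22c2a82a721f27026f24226d29d23229f21a26821b24a29a21724826221529621327f20c2822842902592952072042552542532922002911fb1fa20924c2792662492632011f628c1ef1fd26e1f01e923f28a27c27628623a1e41f427a20a2801e127726b1e71e62781e22752741dc1e01e51df2271d52251fe22322222122027121e1f81d02672691ce20f2642162611c925f2121c621021820e20d25d1c123624d1be2572061bc2561b92022472511b62242431b324f24e1af21d1f72461aa2381f31f21b72412441b41ae1a61a51b02401e823123022923919a22e23422a22819c19b22b1991da19619e1981d62261d418e1d21d121c18c2191c41cc1cb1822141c81c72111c51cd1c317920b1c01772081722051bb1ba20316f1f11ff1b51ee1fc16b17e1ea1f91ed1ad1ac16c1f51621a81731ec1eb17d16015f15d1a019f1d81581de1dd1e31db1d71591d915715115615514f19018f1d314c1cf18b14e14918814413d1851461831ca18113417f1b11a417c1301261c21231bf1761321201a71bd17111e1b816e11c1ab1b211b16911616711a1111641631a91611a31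a210f1a110e10c12d19719d19519319210610810919410419118a10218d1030fe1890fb0f81841451870f61420f50f10fc13e18613c11813a0ec1381370e81351800e51750e317b0dd12e15a0e60d80d50e11280d317a1251241780d20cf17411f17011d16d16a1660cc13b1171680cb0c80de11216511015e15c0c415b0c20d91521530c01540be15014b14d0bd1000ba14a0b813f1480fa0b21470f71431410ae0f30f21400ab0b40ee0ed1390eb0a80e91360a312c1330a113109e1290a40a211312f0dc0db09610a12b09409112a0d41271220d108f1210ce0cd11911508a0c91140870990c510d08510b0831070bf10510108007e0ff09b0fd0b707d0770ef0b30f90b10750af0f40720ac0f00700a90ea06e0a60680e00e70df0e406709f0e209d09c0b90600c60980970da05d0d706305b0d60900d008e05908c08b0ca0560880c70540c30530c10820810bc0510bb0b607c07b04f0790780b50490b00480730ad0460aa06f0a704304d04206a0410a50a006603f03d09306206109a03905e09503c09205a08d03505708903308608405207f05007a02f06c02d04b04a07607402907104504406d06b06904006502306405c03b03a05f03802203605801d05503203101b04e02e04c02c02b01904702802702602501403e03702102001301203401c03001a02a01800c01600a02401f01e01100800f00e00d01700501500901000300600b004007002001000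
def a6 : ℕ := nat_lit 0xd8bd98d89da3d9dd95d97d9ad84d85d7dd96d77d74d6fd6dd69d6edb2d70d63d4ed4dd47db1d45d44daed65db4dafdaadb0d41d30d3cd5bd2cd25d23d5dd1ddb5d1bdb3d43d87d86dacdadd3ad34d15d40d3fd10dabd39d38d5ad37d07da9d04d5cda8d28d2bcfada2da7da4da6cf0ceecedda5ce0cdfcefd99cf1da1cf4cf2ceccf6cf5d8dd75d91d7acc9cc8cc6cd2cd5cd4cd3cbccbacb8cb2da0d9fcaecadd4ad49c9cd9ec9ad9cd9bd88d42d94d80d7fcd7d3dd92d3bd83d7cd7bd79c88d35d82c95ca9c83d93cdec8fca8d90d72cafcacd73cb5c77d8fc74d8ec71c6fc6cd1fd1ed8cc64d8acddc99d18d17c96d81c94c5fc92c5dd7ec8ed0ec8cc58cb9c8ac54d08d78c86c6dd76c81c53c7cc7fc44c3fcb7c3dc3cd71cf9cf8cf7d5fd5ed62cf3d61d64d6cd66d6bd6ad60c35c2cc21c29c25c23c1fc24c1bce2ce1d68d67d2fd1ac0cc0bc09c03c01d3ebffd55d54d53d56c31bf9c34bf7bf6bf3c30c2ed59d58be9d57be7be6beabe4be3bfabe1bfdbdfd52bddd51d0bd50cfdbd3d27c1dc1ed4fbdebced2ad4cd4bd29bc1bc3d32d2dca7ca6ca5ca4bd6babba9ba7c9fc9ec9dd48ba0d46d19c98c97d16d33d14b9bd12b99c90d2ed0fc8dd0db93d0ab91d36c87d06b8cbdcd31c05d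03b87d00b85bd8d01b81b7fb7dbd4d26b6eb6dd24c73b67d22b63d21c6ed05d20c6bc6ac02b4ec67c66ba1d1cb9fb46c61b9cd13b44d11b43c5bb95b3fd0cbd9becb3bd09d02bedc51c50b8eb35b57b56b89b31b3ab2db2fb22b1acffbdab25b17b16cfeb14cfccfbbd2c3ac39c38b07b06cebccfafec32cd1ccbafbccaafaceaaf8af7ce8af5af0affce7ce4ce6aecce9aeace5cb3cb4ae5ce3ae3c19b0faf2aeead0acdaf1acbc11c10c0fc0ec0dcdccdbabacdaab7ab6abbc82ab4cd9c69cd8ab2cd6ab1cbeaafaaecc0cd0aaccceccdaa7ae8cccb01afcaa0a9eae6c52c56a97cc3cc7a95cc5cc4a93cc2cc1a91cbfa8fcbdcb1cbbc84a84c43c57c7dae9ca3a7bc78cb6c3baf4ae7bcfcb0a69a68bcbbcaa87a86a5ca98a56a53caaa51caba4fa50a4caeba43abda90a3cbb8bb7a37bb5a35a30bb2bb1a2ea2ca2aa7da23ca2a22ca1ba8ca0ba6ba5a1cba3ba2c65c9bc63a15b9dc60c93a13c91b98a12b96c5aa0ec8ba0bc89a9cb8fc4fa07c85a8cab8c4ba03c80a01c7ea819fc9fac7b9f9c7a9f6c799f2a99ac19fda82a9a9e99e6b74b73b72b719dd9dcc76c75b6cb6bb6a9d99d8c72a669d6adcc70ad5b61b609d2b5eb5d9cfadb9cead7ad3c4dc4cabfb54b53b52a6da89abec68b4db4cac59be9bab48a16c629b8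c5ec5cb429b79b5c599b4aa59b3c55c49a59b38b379afc4e9cc9ca9acc4a9c0c479a8c489a3a5a9c99a29ab99a9b2c429a6997c4699ea8a99b994993a2d990c45a2b98ec41c4098dc3ea79b12986984c18982980b0cb0b97bb09979c37c36976975970b02bf296dc26c3396bbf1c2fc2d969c2bc2a967c28bd1963c17c13c2795ec1695fc22bbdc20bd7bf4bd0beec1c954c1a955ae1ae0adfadeaddb64b5b947948945b59943b62941b58940961c1593e965c1493ac12acaac9ac8ac7930b4b92dac392bb7a922b55b4fbbb91fc06c0a91db8ac08c0791bc0491cc00bfe918bfcbfb916bf898991090e957bf5909b3d95995690596ebf0903bef901b908feb77b7bbc6beb8f9be896abe5968be2bbabe0a8e8f1b8b8edb20b5095abc9bc88e3bdb8e1b78b84973958a7ebad8dcbd5978b13a78964a76a75a74a738d3a71a708d18d0b51a6c8cea6abcdbcc8cbb668e58cc8c6a628c38f08c08bd8e4bc78bbb2bb398fc8b7bc58b88fdbc48b4bc2bbfbc08b3917bbe95b8b18ad9299209248aa8fabbc95c8f68a78a48a289fbb989a893a39a38bb6891bb4a3488ea32a31bb388cbb0b1cbafb19bae8ba90088a888882881bacbaa880928a1fa1ea1dba4a1ba1a877873a17b47b9e871b9ab97a1187086eb9486d86cb928b9a0986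8b8d8ef92e864b88863b868ea86185fb79b8385db82b8085a859b7e85692587eb7c9268558508628eb84d84c907b76849848b759e59e49e38458449e0841840b70b6f9db83eb69b6883db659519d4839b5f9d1837b5cb5a981b34833b33b2a9c89c79379c582a828914827b30933b4a8239bc824b49821b45b4181fb40b3eb3cb269b181cb3683481ab32b28816814b2e81eb248be80eb2cb29832818807b21806826b1fb27813803b2389b801b1eb1d88b7ffb1b7feb18b159777fb7f6aab7f3987b117f1b107efb0e9cdb0d7ec7eb7e897cb0a7e5b08a7a98cb05b047e1a807de7e2b037dcaa1b007daafda94af9a92af67d7acea77af37d3ad17d4aedaef7d1a42a4ba88aa4a7faa8aa3ae2ae47ca7ee9d595094f94e94d7bc94b7ba7b9ad9ada7b6ad87b4ad6942ad4ad27b1acf93d7d57e6acc9397a99c67a69357a49bf79c931ac679aa05ac4798ac2797a48a207959f19f4a46793ac0794a47abc790ab9ab3ab578f7dbab0a4daad78a9c27d07867f4aaa784aa97827ce7cb77eaa677c9ea7cdaa277aa9f7f0a9da28777a9ba54a58776a44a967d97d8a418f58f48f3770a8da60a0676ca8b76a9eda007f97cf8e7766a65a5da85762a838e07df8de8dda7c7e48da75e8d875c75b75a8d4a72758a6fa6e757a6b755a64a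678ca76e751764a6374e7b2a6174b76da5f7499a5a5e745a5ba29a0aa55a57742791a52a4e78da4a73e7c477ba497787c3a45775738a407358a5a3f8a3a3e7318a0a3d79f89d89c996a3b899725724720895894a3a71ea3671c88fa3371aa2f992a27748a26743727714718712a25a24a2170f9f387d87c87b708706705a19701875702a186ffa14a106fda0fa0da0c74786a6faa087a76f86f7a04a029ee9ff6f39fe6f19fb6fc6ee9f89f76eb70e9f59f079d8536f56e39ef6e27889ec9eb6df6de9e89e78476dc9e29e18436da9df9de6d99da9d77ed83b6d69d36d59d08366d29ae9cb9a18316ce7ac6cb82d6cc82b9c46c89c39c199c8259bb9bd6c49b96c39b69a76c19b06bf9ad6c09a06b99aa6c79a99996b674c6b46d09a480d6d180b6bc6b06af99f99d7296ad9986ac9956ab99198f7fd6a998b6a48e96a16a598a69f91198869d98590298395283c97f97e69769897d69493b97a8db6929719746908df97268e96f91996c8f88f796668b93c96096268a95d9138e890c9067cc90b9537c969b7c77c669a8af8ab7c26707c066e66d7bd94c66a94a9496677b79466959447b38c493f7b06937ae66082f65d7aa93865b8679366599347a37a26567a089e65485493265292f68f92c92a64f92792192364e8b591e91a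68d8b268964991564784e68891264590f69e90d64368768590a63f9088ae90469c8ac8ff8fb8a963b7736396388f26378c98c18ee6338ec7696a27678e66308c77638e276176062b8d96298d78d68d56278d28cf7568cd7546246358c86216688c56648118c261b8bf88986b6538bc6508878b664d6796468b067664067563e63d8a860d7368a67347337328a173072f72e72d6045ff72a80561e8867268988975f77225f88965f58925f48905f288d61a8846185fc5ef8855ee8837115eb87f85770d5e75e470a5e587a5e187987861d7038748765dd8725dc86f85c5da8695d88668655d98525d28605e085e5cf5ea85b5cd5e98586ea65e6e86e75d55c95c885184f6e15c684b84a5c58465c484283f6d85c183a8386d45bd83580c80f6cf8306cd82c82e5b55b48298155d65b38228205be81d81981b5b15df80a5ac5b88175aa5bc8125a98106b36b25a58098085a48048028006aa7fc59f5a059d7f77fa59b7687f85997f57837f27797c87c55947e97ea5917b57e77af7e358e7e07997dd78e68c7d67d278c78778068677f68468368259668067f59767d67c59567a74067857073d73b56856b5676717c15647bf7be5625927bb66974f7b866659074d66355b6617ad5596e97ab5577a859a7a55556577a155279e74679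b58d74479679274154c58b58978b54878973f78559878154558773c77d73a73954077453e77277176f53c75263476b63263176562f62e62d62c75f53675d62875962662575353356375056055e72870455874a71955371755155057554957454754656e54460e73760c60b60a60960860760660572c51460251551272b51052f71652d50e5f972172350c71f71d50b71b52a5097157135ed5057106ef6ec5e870c5e670970b4fd4fc7076f26bd4fb7006fe5066fb6f66f94f96c66e64f45006f44f25046f04f16ed5cc5cb4ed6e56e44ec6e06dd6db5c34e86d75c05bf6c26d36b75bb5ba4e06ba4f74df6ca6c96c54e66be4dd4ff4d94e46bb4d86b86b55a85a74d56b16ae5a35a24d26a76a84cf6a64cd6a365a6a064467e68167b6994c666b69666558f69165158c64b58a64a5886415865855845834c95815804cb57e57d4c84ca4b75795785774a86156134a55725716774a261049e4a167349949c6746724964d066f62266c4c562055f61f49055c66248d65f61c65c4cc65848a61965561761654f4864c364c4824c161464861261164260f54354254163c47c63a53d63653b53a53953853762a5354976234944934925fd48e5fb48c48b5f14895284ab4834a648148052252152051f51e51d51c51b51a45f47345c5166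0160345a6004595fe4715fa4585f65f34565f05085075db5ec5d050350244e5d35af44d5e35e25de4545d744a5b74464525d44455d15ce4f04ef4425ca5c74eb4ea4e95c24e75b24e55ad43a4484395b95b643d5b04374504355ae5ab4d74d65a64d44315a142d56559e4ce59c55657f57b58257c4c75935614c454d4c254a4c04bf4be4bd42f4bb42a4b942757a4b642941c41a4b24b14b04af4ae4ad40e52740b4a95764085255734074a356f56c40140456d49d5693fb3fd56a49853456642c5325315303f555d3f252e55a52c52b55452948848754e3ec42452654b52452347f47e47d53f47b3e74794783f93f83f73f65183f350f3f13f046e46d3ed40c3eb4694684674664654643d63d44614605193d23e05173d151351150d45750a4554fa4534f53ca4db3c95014fe3c83cd4f83c64e23c44f64f34444434ee44144043f43e4de3c53bc4e34e13bb4dc3cc4da4344334324d33b64bc42e4d149542b4ba4b54284b84264254844234224214203b541e3b34b43b04b33a93a73a641641541441339e41139c40f4ac39a46b4aa3994094a74a440639649f3933954a04003ff38e49a38d49b3fa47747647547449138547248f47046f3ef3ee46c48546a3803e93e847a37e38a3893883e238645d3843783dd3813db3da374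3d83d746337246237145e45b3d03cf3ce44b43636c45144f44c36a44943c4473c33c23c13c036536936343b43836e3b93603b743041f3b441d3b23b141b3af3ae3ad3ac3ab3aa41935c4184173543533523a23a134d39f41234b41034a40d40a39834640540234440339239134333f3fe3fc34838b3e53e43e33873e13f43df3373823dc3ea3353e633c33b33237a3383de33032f3753d932d3d53d337032b3ba3293cb36b3c73be3683263243bf3253bd3623223b835f35e35d3a835b35a3593583573563553a53a43a331631531234e3a031039d39b34938c30d39734539439034230930a38f33e30737d37c30433937938330237f30130537b2ff3773762fd3732fb36f2fc36d3282f93673643662f836132132031f31e31d31c31b31a2ef3183173513502eb2ec34f2e834c2e62e734730c2e43403412e333d2e233333a2e03363342de3312df32e32a32c2dc3273232f72f62f52f42f32d72f12f03192d52d43133142d12d231130e30f2cf30b3083062cd3032fe3002cc2fa2db2da2c92d82f22c72ee2ed2c52e92ea2c42e52ce2e12dd2c22ca2d92bf2d62c62d32d02c32cb2bc2c02c82be2bd2c12bb2ba2b92b82b72b62b52b42b32b22b12b02af2ae2822ac28027827627427127928126e26d26b2a12a029f26826729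c29b26426326229725f25729425325124f24d28f24824b24424228a28923c23a2392852362352ad2a52ab27f23225c23122f22e2a62aa22a2a92282a822c21f2a721e2592a42a321b2a226a21929e29d26621729a29929821421329625e20b27d20a20926f2072952562552022932002921fb29120829024c28d24a1f228e1f11f51ef28c1ee28b1eb2401e823e1e72881e42872861fc1e22842832111e027e27c1dd27b27a1df2731d72771e327521222620d2242231da1d21d127227021d1cf26c1ce2691cd2652161c92612602272342101c41c32251c125d25b25a24e2581c81c22041b82541b72521ff1fe1b42382501be1bd1f81ad1aa2461b31a82492471a52452431ed1a22411bf1e923f23d19b19a23b2292371c623322d1952301981ca22219219d22b1c71d51d418d22122018c21c21a2181cc1831db2152061d61e117c20f20e20520c1811ea1fa1f91791bb1ba16f2032011b61b51fd1f41781731771721ae1f71631621f616c1f317e15f1f01a41a31ec17a1a019f1581d81571e61e51821dc1521551de15015b1d918019018f14c1d31d018b18a14618813d1441851491cb1991c019117f1a717d1c51361a11bc1b21b01761201321b11af1241701b916e1271a912312211f16816711111a1101ac1ab1371601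a615e12615c19310a10919e19c10c19610510719710419413414e14d18e14b14a18412f1471890fa1860f90f71411400ef0ee18710013b0f21390e916117b13514f1331741310e814812e0d90e10d50d80e612816d15d0d117116b16a12117516911e11d0d30d21650d01180ce1161151140c60c516616410f10e10d1560c115a1590c01530be15415110310210113c0ff0fe0fd0b40dd1451430f81420b20f50b00ac13a0f10aa13f13e0ed0ec0eb0ea1381300e71290e50e40e30a412c09e0df0990fb09d0db09512d12a09109412b0d411c11b1251190cf11708b08f0cb08d0880c80861131120c408408310b1080811060bd07f0bb0ba0b90b80980b60760fc0790f60b10f40730750710f30700f00a90a806d06a0a50e20a30a20a10a009f0e00dc06209b05f0de0b709705d0da0d605b0630d70900cc08e0ca0570cd0590550c90540c70530c30c20820bf0510bc07e07d07c07b07a0b304b0490b50ae0470af0460ad0ab06f0430a704204d0a606906806706606506409209c03b03909a03809605c09303608a03408c03308908708503108005004f04e06b04c07802b07702907407202802706e06c04104003f03e03d03c06102006005e01e05a01d05805601c05203002f02e02d01804a01704804504402602502402301201103a01003703503201b00d00c02c02a01601501400802202101f00f00601a01900b00a00401300700e005009003002001000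
def a7 : ℕ := nat_lit 0xd8ada7da1d84d9ada6d7fd9dda3d81d82d94d92d8fdb4db0d6ad65dadd6cdb3d4bd53d46daed67d54db1d6ed6fd3fd41d6ddaad5eda9d57d5ada8d5cd58d1cd1bdb5d63d2dd17d4ad15db2d14dabdacd12dafd36d34d33d32d2cd29d2ed3cd26d23d25d2bd28d24cf0d98d99d95da2ce8da5cedcdbd9ccd7da4cead89cd1ceccf2ccfd93cc8d8ecc6d90cc3d8dd91cc0cbed9bd9fcbbccecc5cbdcadcd3caada0d86cf7c9bc9ad9ecdfcd4ca8c97d96c92d97cefcf8d77ca7c94c95ca9cacd7ecf3d7dd7cd7bcddcf5cdad78d88d7ad73cc2d79d72cccd76d74d71d75ccace4c80c66ce1c64d8cd8bc83c81c61d87c60d85d83c5ed80c76c88c7fc87c86c85c7dc7cc7bc90c8fc8cc72c77c99c75c8ac8ec7ec7ac78c79ca2c74c39d3dd49c34d30c31d35d60c2cd70d3ec29d69d61c26d64c20d6bc16c28c2fd21c1ac32d1ec0bd45c09d31c06d68d2fc08c00d66c22bfdd44d4dbfad62bf8d5fd51bf5d27bf1d22bead5dbe8d5bd50be5d59d2abe2d56be0d55d4fbddd52bf7bd8be7bd4c12bf3beebd0bdfbc8bfcbe4bc3d4ed37bc0d4cd38d43d3bc38bb5bb8bd5cfbbd2bbcba2c10c0eba0d48d47d03b9dd42b9cd39d3ab9ad40c2bd08d07d00bb7d06bbed01bc2d10d0ed0dd0cc36d1ac04d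19d20d0fcffd0bd0ad09cfecfccfdd04d11d02cfabcad05c2ec13c24b71b67b87b4cc0db8ab88b48d1fb47d1db89b45d18d16b44d13b6eb86b8fb8eb8db8cb84b77b82b81b6db7bb98b96b95b94b68b6fb9fba4b75b92b76b83b97b85b78b79b7eb80b7fbacb7dbabba9b09cf9ca6b04c84affcf6afdce2cf4afcce5c71af9cf1c91af6ceece6aefcebaeec6faf5cd6aeace9afbae7ae6ae4ae3ce3b02b0ead1ce7acfaccc70cb6ac7c9eac3c9dc6aabbce0ab9cdecd9ab5cdcab4c82ab7ab8ab2cd8aecab0cd5cb0aadcd2aaccd0cbaaa7ccdaa3cb5aa1ccba9fa9dcb4a99a9aa96cc9a95cc7cb8a93cc4cafa91cc1a8fcbfcb2a86cbcb06a83a82a81cb9a7fa7bca3cb7acbca1a77cb3a6aaafa64ac2a62c73a5dcb1a5ba56a98a52caec89a4fcaba4ec8ba4bca0a42a41a49ca4c8da36ca5b08a2fa38a39a61a3fa3da7cc3ec3ca79c3ba1ea43a1aae0c4aa17c9fa16c9cc4ba14c98c96a13c93af8c51c45c50c4fc4ea4cc48a51a9bc5bc5ac59c58b0dc69c63c68c6cc5cc44c57c46c55c54c40c3fc41c3da59c52ac0c42c43c56c47c49a8ea70a71c6ea3bc4cc5dc53addb0badeadbc4dc6dad6ad7ad9af1ad49e59e39e29e09db9da9d99d79d69d59d89dc9f49c7ac99e4a06a009f1a039bcc6ba05a049b9c67c659b8c62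c5fa01a09a02a08a079eb9ea9fb9fa9e69f2a1da11a0fa0e9e19dea19a1c9e79e9a0ca0b9f3a0a9f59ef9eca0d9f79fd9e89ff9fc9f09ed9ee9f89fea27a10a12a26a259f69f9a24a23a22987985983982c18b8b97cb6b97ac3abb4975bdc971c3796fc1996e96cc3596bc33c30c1f969c2db99967c2ac23964962961b6395ec27c2595dbff95bc21958956c1ec1d954c1cc1b95394dba594bb6ab6c948b69946b64944b65b66941b6295193fc1793ec1593c93ac14bd3935b53931c1192f92e92cc0fbcc922b7a92592695c91ec0c91dc0ac02c0391bc07c0591ac01918bfebce916bfbbf991190f90d90bbf6908907906bf4904bf2903bf0901bef8feb90becbedbc58f9bebbe98f8be68f7be38f6be1b7497e9808ec8eb8ea8e88e4bde8e28e1bdbbdabd98dfbd78de8dcbadbd68dbbaa8dabd18d88f38f48d48d2b72b738f29348ef94f8cdbcf8cc92b94a9438c7bcd8c5bcbbb08c18bf8bcbc98bbbc78b9b7c8b78fcbc68b68fb8b4bc4b918b3bc1bbf8b2b93bbd8b0bb98ab8aa9239208a9ba7bbbbba8a6baf8a1bae8adb70892bb1bb2891bb697988f88d89489588cbb38c388a8a488889f8878ffb1cb19b18b15b14b1397792787cba8b38b31875ba6b32872ba3ba1871b9eb9bb1ab37b1bb36b35b27b2eb2db2bb42b4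0b3fb51b4bb4ab4eb41b43b50b23b1db25b22b3cb3bb16b1eb26b17b2ab55b2cb39b4fb21b29b1fb20b28b3eb3db2fb24b30b3ab61b52b60b5fb34b5e897b3389ab56b5db5cb5bb57b5ab59b5884784684584383f83e83d83c84484284085682db5486786a86684f84e860848854864822b4d865821b49b4686386986884c85d85987b86f86e84a87487784d87885c86c85e84986b85787e85085885185285587985b86286d84b87a86188688585a85f88487f8708838828818807f77f57f47f2b127f1b117efb10b0f7eda8c7e9a8d7e7b0c7e5b0aa357e4a217e2b077e07df7ddb057dcb03b017dab00afe7d9afa7d8af77d67d5af47d3af3af27d27d1af0aedabdaeb7cf7cdae97cbae87caae5ae27c5ad37c0a6c7bdae17bbadfa677b8adc7b6ada7b4ad8a667b3ad57b1ad2ad07b0ace7afacd7aa7a87a77a5acaa6e79d79bac879aac6ac5798ac4a687967c3795a20abeabf793a46ac1792a45790abcaba78fab6ab378eab178daae789788787785aab784aaa782aa977faa877d77caa6aa5aa477aaa2aa0779a9e777a28a9c776a57a54775a97a94a92a90773a74a75a6f7eb76da6d76b76aa8ba8aa89768a88767765764a87762a85a84761a80a7e760a7da7aa7875da76771772759a73758a727707a47bf755a6ba697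ba7c9752750a6574ea6374da2e74aa60749a5f747745a5ea5c743a5a742a58a55741a53a50a4d73ea4a73b73aa3c739a48a47a44737735a40733a2c7a2731a3e72fa2a79e7a072a7279dd7227219df71fa31a3271ea3aa3771ba3471aa33a30718a2d717a2ba2999699599298f98e98d98c9919a370aa1f9b199899d9aa9ac700a1b9ad6ffa18a159909b09af99a9a89a59c59b69b59c69c49bb9be9b799b9979c19939a79b39a999c9949b29a19a49c999e9bf72e99f9a09a29c39c29ab9b49999ae9a69c09d49d39d29cc9d19cb7249ca9d09cf9ce9cd6e16dd6dc6db6d96d86e06de6da6eb6ea6e46e96ca9c86f96e86f86fb6e26f36ee6e76f76c49bd9ba6f66fa6f17076fd7097026fe6e36f27056f46fc6df6ef7046ec6ed70e70d6f07036e56e670c6f570671671070871571471370f7127116a76a56a36a26a098b69f98a98969d98898669c98469a9816988f169697f69497d69397b97869197669097497368e97297068d96d96a96868b96696568a96396095f68895a6859596849579558ca67b67f68095267592967166f9508cf66c94e66a94c8cb66794966694766594594266494093d93b66165f65e65c93965b9389376599368d06578a365589d65489e93365293293065192d64f92a92864e92492164d91f91c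91991764a64864791591491364591291064490e64264190c63f90a90963e90590263d9008fd8fa63a8f58d68d78d16366358f06338ee8ed6328e98e76308e68e562f8e38e08dd62a6298d96386396278d58d366e6258ce6826238c96218c861f8c68c461d61b8c28c06188be6178bd6168ba8b88b56136128b161060f8af8ae8ac60d8a860b8a760a8a56088a26068a08536026015fe89c5fc5fb89b5f95f88415f68998985f58968935f35f289088e5f188b8898058028018007fe7fd8047ff80e80d8085e387d81b80381d80681681180b81a5dd87687381981c81482981f82c82a82482080781582781781e80c81282680f81083283182f82b82580980a83081882883b83581383483a8398388338378365c75c55c45c35ca5c65cf5cd5cc5c85cb5d85b582e5d75da5d25b35d68235d95ce5e15dc5e55e25de5c95d35d45e05d05d15ea5db5e95e85e65ec5d55e75f05eb5ef5ee5ed5a059e7fc59c7fb59b7fa7f95997f87f65987f37f05957ee5937ec5917ea5907e87e658e7e37e158d7de7db58c7d77d45897d05875867ce7cc58175457c7c67c757b57d57e7c857757457156f56e7c456c56d5667c25647c17575627be5617bc55f55e7b97b77b57b255c55a7ae5597ad7ac5577ab7a95567a65547a35527a179f55179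c79955079779479154b54a78c54878b78a54778678354578178054477e77b77853f53e77475b75c53c76f76e53b76c76953a76676353854154253675f75e53575a58475653375353175153074f52d74c52c74b52a52974874674452552474073f52373d73c52173851f73673451d73251c73051651551372d72c51151072b50f72972850d72672550c72372050b71d71c7196ae6ac6ab6aa6b16ad6b66b46b36af6b26bf4fd70b6be6c16b94fb6bd7016c06b56c86c36cc6c96c56b06ba6bb6c76b76b86d16c26d06cf6cd6d36bc6ce6d76d26d66d56d44ee4ec4eb4ea4f14ed4f24f04ef4f84f44df4f76cb4f96c64f34fc5014fe4f54f65004fa50450650350250a5055095085074d16a94cf6a84cd6a66a44cc6a169e4ca4c869b4c66994c56976954c469268f68c4c14c06894be6876864bb6264b94b86834b64b567c67d68167e4b34b04ae67a4a74a66794a44a36784a267767667367449e49f4a04a149667249567049366d66b49266966848f66348d66266048c65d65a48a65848965665365048748548448264c64b48164964648064364047e62c62d47c63c63b47b63763463147962e47862b62847662447462262047147061e61c46f61a61946d46b46a61561461146860e46760c46460960746146045e45d45b6056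0445a6034596005ff5fd4585fa5f75f45a65a45a35a25a95a55aa5a85a75b05ac44d5af5e45b15df5ab5b45b95b65ad5ae5b85b25bc5be5bb5ba5c25bd5c15c05bf44444244144544344644943944844a5b744744e45144f44b45245445745345645543042d5a142c59f42b59d59a42959742759642659459258f42442258b58a42058841e41d58541b58358241a58057f41757a41541357941157840f40d40c40a40940857657540757357257056856956a56b4004014024034044063f85675653f65635603f43f255d3f155b5583f05555533ee54f3ec54e54d3eb54c5495463e95433e854053d3e65395373e45343e35323e03df52f52e52b3dd5283dc5275263da5225203d83d751e3d53d351b51a3d25195183d151751451250e4d74d54d44d84d64d94dc3c94db4dd4ff3c74da4e04e34e14de4e44e64e94e54e84e73c33c23c13c43bc3c53c64e24053ca3cb3cd3d03cf3ce3b64d33b33b24d24d04ce3b04cb3af4c94c73ad4c33ab4c23aa4bf3a84bd4bc3a64ba4b73a43a34b43a14b239f4b139d4af39b4ad39a4ac4ab3994aa4a94a84a549843849949a49b49c49d39239439339739539838949738849438549138449048e48b38248838148648337f47f47d37e47a37c47747537a37947347237746e46c375469373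46646537246337146245f45c43443343243536c43643745036a44c43a43b43d44043f43e36836736336943c39636d37036f35e43135c35b42f42e35a42a42835742535642342135341f35241c35041941834e41634c41434b41234a41040e40b3fa3fc3bb3fb3fe3fd3ff34233f34334434634734933b3f93f73393383f53f33363ef3ed3353ea3e73333e53313e23e13303de32e3db32d3d93d63d43b93b83293ba3cc3283c83bd3c03bf3273263233be35532c32b31f3b731e3b53b43b131c31b3ae3ac3623153a93a73133a53113a23103a039e39c38b30d38c38d30c38e38f39130b30839031a30f30538a30338738630238338030037d2ff37b3782fd3763743613602fa36e36b3663652f82f93642fb2f62f535f35d2f335935833e2ee2f02f12ec3542ea3512e834f34d33d2e53483453412e32e43402e62e133c2e033a3372de3343322dd32f2dc32232a3243252da3213202d831d2d63173182d53192d33162d13142d03122cf30730e30930a2cd3063042cc3012fe2fc2ca2f72c82f42c72f22ef2c52ed2c42eb2e92e72c32e22df2c12db2bf2d92d72be2d42d22ce2bc2cb2bb2c92c62b92c22c02b72bd2b62ba2b82b52b42b32b22b12b02af2ae2ad2ac2ab2aa2a92a82a72a62a52a42a32a22a12a029f29e29d29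c29b29a29929829729629529429329229129028f28e28d28c28b28a28928828728628528428328228128027f27e27d27c27b27a27927827727627527427327227127026f26e26d26c26b26a26926826726626526426326226126025f25e25d25c25b25a25925825725625525425325225125024f24e24d24c24b24a24924824724624524424324224124023f23e23d23c23b23a23923823723623523423323223123022f22e22d22c22b22a22922822722622522422322222122021f21e21d21c21b21a21921821721621521421321221121020f20e20d20c20b20a2092082072062052042032022012001ff1fe1fd1fc1fb1fa1f91f81f71f61f51f41f31f21f11f01ef1ee1ed1ec1eb1ea1e91e81e71e61e51e41e31e21e11e01df1de1dd1dc1db1da1d91d81d71d61d51d41d31d21d11d01cf1ce1cd1cc1cb1ca1c91c81c71c61c51c41c31c21c11c01bf1be1bd1bc1bb1ba1b91b81b71b61b51b41b31b21b11b01af1ae1ad1ac1ab1aa1a91a81a71a61a51a41a31a21a11a019f19e19d19c19b19a19919819719619519419319219119018f18e18d18c18b18a18918818718618518418318218118017f17e17d17c17b17a17917817717617517417317217117016f16e16d16c16b16a1691681671661651641631621611601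5f15e15d15c15b15a15915815715615515415315215115014f14e14d14c14b14a14914814714614514414314214114013f13e13d13c13b13a13913813713613513413313213113012f12e12d12c12b12a12912812712612512412312212112011f11e11d11c11b11a11911811711611511411311211111010f10e10d10c10b10a1091081071061051041031021011000ff0fe0fd0fc0fb0fa0f90f80f70f60f50f40f30f20f10f00ef0ee0ed0ec0eb0ea0e90e80e70e60e50e40e30e20e10e00df0de0dd0dc0db0da0d90d80d70d60d50d40d30d20d10d00cf0ce0cd0cc0cb0ca0c90c80c70c60c50c40c30c20c10c00bf0be0bd0bc0bb0ba0b90b80b70b60b50b40b30b20b10b00af0ae0ad0ac0ab0aa0a90a80a70a60a50a40a30a20a10a009f09e09d09c09b09a09909809709609509409309209109008f08e08d08c08b08a08908808708608508408308208108007f07e07d07c07b07a07907807707607507407307207107006f06e06d06c06b06a06906806706606506406306206106005f05e05d05c05b05a05905805705605505405305205105004f04e04d04c04b04a04904804704604504404304204104003f03e03d03c03b03a03903803703603503403303203103002f02e02d02c02b02a02902802702602502402302202102001f01e01d01c01b01a01901801701601501401301201101000f00e00d00c00b00a009008007006005004003002001000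
def a8 : ℕ := nat_lit 0xda1da6d8ad9ad84da7da4da3d9dd82d81da2da5d79db0db4da9dafdaedaadb5d5fd5ed67dadd46d68db2d3fd6dd6ed70d6fd6cd53d6ad5ad57d29d60d62d36d63db3d1bd6bd4ad17d34db1d33dacdabd66d65d1cd15d14d64d5bda8d48d69d19d61d37d01d0ad09d96d95d97d98d94d88d92d77d9bd9ed80d7fd7bd8bd8dd75d8eda0d9fcf4cf2d7ad91cd2cd1d90cc9cdccdbd93cd0cbdcc2ccecf6cf5cebccfd87ca7d78cdfd9cc9ace0ceecf9cf0cefd99c92cf3cedcf7c95c94cf1d74d8ccf8d85d83ceacdacd3cddc9bce8cc6c8acc5d8fc7ccb6c81cacc7bcecce5ce7ce9ce1c66c88d7ed89cded76c87d86c86d7dd7ccd8cd7c68c64c63c61c60cd6cc7d72d71ce2c9cc96ce6c99c77c89d73c4bc48c55ca3c3ece3c54d42d35d3bd4ed4dd5dd3dd5cd38d41d40d43d3cd23d4cd32d20d2dd21d05d22c16cfbd08d1fd44d47d1ad2fd55d54d31c04d13d12d0cc0cc0bd30d59d58d52d4bd4fc15c12c33c2fd56c31d0bd2cd2abfbbfad50bebbeac07c06d51bf9bf8bdfbe9be4bd6d27bd3bd2bf4bf7c37c36be7c35c34d25c27c26c2cc29d49bb5c38c3acfdc1abeec2ac10ba2c11d07d2ed45d04bb7c39d06d3ad39c2bd3eb9ac32ba0b9fb9db9cc2dd2bd02d1dd18d16c22bfcc09c08d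26c20b89b92be8d28d24b82bacbd5d03b88bc2b81b6bc28c1fc17c25c6ec23c21c0db4cc0ad11b8fd1eb8ed10d0fb8dd0ed0dc01c00b4eb4ab48b47b45bffbf0b90cfecfab91bc6c19ba3ba1b9ec18ba4d00b6fbc7cffb3eb2eb32b2dbdbb27b18b3cb3bcfcb14c1bc1dca4c97ca5cb1cb0caecadccbc90cc8afeccaafbc8bca9c93ca0ca8c72cabcaac6faeec6dc85c6cc80c71ae8c3baf3c3cca2c51c4dc70ce4ccdad2ad1cccc9dc9fac8ac7c6bcd5cd4c69c83c82cbfcbeab7cd9ab4abac5fc5ec58abcabbc84cc4cc3cbccbbcb2ad0acfcb3acbb03afdc57aa2ca1a98a9ccc1cc0cb9c7dcafaaeaadcb8a97a96ab6ab5cbab07aacaafc43a84aa0a95aa4cb7c78a7bcb5cb4aceaa3bcfb06a8db0db0cb0bb05b04c49c52a99b00affc75af0aefaedaf9abdaf6aebab3b10b09c98b08ca6a36a3aa39a38b0abafbaebadc79ae3baaae6a1faf7ae0a1ac4cc50c9ec4fc8fc8ec4ec8dc8caf8c91a13b02a19a17a16a14afac7ec53c56c67c65c62aecac2ab9c7fc76aeaa04a0ba9fa0cc7ac749fb9faa25a23a0aa569f4a0da83a9b9eba5bb749e49e3b719dec4aa03a51b6cc73ae19dab0eaf5b66adc9d6af2adab61a719d3b5eb5dadb9cfb5aad9b58b0fa1cac0ac99c7a70a6eaaaa20c5da09c6aac6c5ca08c5bc5aa07c59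ab29be9bc9bb9b99b8c47aa6c40c3fa5ca5ab12a1ba18a15b11a3bc459dca5f9b4c46c449c9a599a3b299c3c429a599a9ae9aa9a8b21a8b99d9959c1b1c9ad9acb19c4198e9b3b15c3db13b38b34bb9b57b68bccbcbbcabb0bb8bb6bdebcebc9bc8bf2b98970bc4bc3c30bf196bc2eb93bbeb9bba7bbcb67965c1cb63961bc1bc0c24bbfb8cbbbb87959c1e956ba9963962bab960b6aba694e94daddb65b5cb62b59949948ad6947946ad3c14c13bf6bf5bd194093fbf3939b54c0fc0eb4b930932931b8b925b55922928bbdbfebfdc02b8a91dc05be1be0c03bbab4491f91ebdcbe6be5bdd98ab5091296693eb3d909bd7bd0bef96fbd9b84905904becb778febc5bedbe3be2bd89179168fa8f991c91ba8ebcd92bb208ed910913976975a85bdab788e19039749068e0a7da7cbd4a7aa7993d93c8f38d88f5a738f2b60b528d2b518d0a6ca6ba6a8f1980a67a6697f97e97d97c97a98bb30972971b3ab75b39b2ba58a57b7ba55a5496d96cb6d95f95e95d96a96995c988983a48a47a46a4596896795b91aa40a3fa3ea3d984b33bb3bb2bb1979bb489189989689589489389297ba2da2ca2ba2aa29a28a27a26b7ea24b7da22a21b4fba887c987b56b37ba5b97b36b96b95b35b94b99877875874872871b79b83b85b7cb4db4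9b4693492fb86b6e86586490f87886086d86cb80b7f85d88586b88287eb7a8568b99279f09ef8798ec84fb7690884c84a8bf8bb9e5b73b728469859e0842b70840b319dbb6983e9829d7b649d59d4b5f8399d19d0b5b9ce9cd98689789ab2c86ab5393882d82cb28915b1d8c089eb43869b42b41868b40b3f824822821b2fb168be87d876873b24b1bb1a828b2381eb22814834b26832b2a9a280e83080899eb1f811806b2583581b816996b1e80182799289881a98fb1798d98ca60aab7f6a4aa1d9cc9e1a3ca499d8981a68a65a64a63a62a2ea61a37978977a87a86a807e1a5ea5db01aa17dca53a52afca4da4ca44a43aa8af47d5ae5ae4af1ae2a50a4fa4ea4ba427d0ae97cd7d7ae77d47d37d29529517c294fadfade7be7bd94aad8ad7ad5ad47b97b89437b77b6acdaccaa7a78a777b27b1aca9c67a97ab7aaa0679fac4ac3ac5a0579a79c79ba8c92a929abe9f1795ac1924923abf921920ab1ab0ab8a90a8fa41791790a94a939c278aa88aa97f5a89a007867857e37d690aaa59ea77ca7fa9ea9da8177b77a9008ffa9a8fd8fc8fba92a9178d77578fa74773a76a72a697fb7a48eea8a9ed76a7847fa7877698e67ec7e28e38e2a82a7e7e07618dd8dc8db7b0771a7575d7748d58d4770a6f758a6d8cf8ce8cd7eb8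cb8ca7fc7ea7e97e87e77e67e57f87f79c09e79b27de7dd9e68ba9f28b88b78b67db7da7d17d97f37f28af7f07ef8ac8ab8aa7d88a88a78a68a58a48a38a28a18a089f9bf89d72d89b9caa349919cba33a32a31a30a2fa3572372272071f71e88b88a8898888878869f88848839f68818807219f59b1a1e70a7099ee9ffa129b0a11a109afa0fa0e7027006ff9fd9fc9f79c89bd9ba7a86f9a02a016f77067059fe6f36fc9f96f170471474770e6eb9f385579e6e770c6e48509ec7896e29e96e09e86de7498479e26dc7f18439df6da9dd83f9d983d83c83b83a9d28388378369999a67249a48319a07ad6fb9c59c46cd6cc6ca9ab99374c72e9b76fa9b69b56c56c49a970b7019989906bd6ce6c79976b99a76d26d199c6d06b49a180d6b67306d36b199f6af99b80572c6bf8029948007257fe7fd8c98f08e96a48c28c198991169f8b18b08448ae8ad7ee7ed8e58cc8c88c78c68c58c48c37e490c8e49738df6908bd8bc96e8b58b48b28a995790b9649559549538b395a68869295868c68b68a7c967e67d67c7c57c47c39506726717bf94c94b66d66c7ba94594494294166866766693b93a8da6647ae82f66093693593786765b65d65c8ef7a37a27a17a093385465492d92c92e6536527977969267947937929199188f6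64d8f86a678b91484e6478e890e90d8ea64664578169969177e77d90790290163e7787777768f78d68f463a8d98d376f6a96a576c76b8eb8e76a36327667656987637628de76075f6388d762963b75a7598d17577567557546a86a76976966956946938266a16a084874885968f68e74474374268d74069e69d73d73c73b69c73973873773673567873373273180b72f82589c8046036027297287276077ff83389088f87f88e88d88c5fa5f75f65f571971871771671585a7137127116015f885870d85281d87b87a5e55e386286185b60687081c86f86e5de5dd85e82e8238665d88635d65e75e085f5d285c5ea5cf61d5e95cd8576ea65f5cb8535ec5ca8515c884d6e184b5c68496dd8456db8416d96d86d76d66d56d480a8138128105ba81882b82a5da8295b65b58175d982081f5b36735e45df8035af8195bd5b85ac8155bc5aa80c67480f5a76098095a58076ae6046ac6ab6aa76e75375278c76d7f976859b74b74a7f473f73e73a59769a78076475175074f74e74d7ce77f7df7467457417cc7cb7ca59d7cf59458f58e58c58368257f57e57d7c87c77c657b5796797345736766756b56c27c17c056756666e7bc7bb5635625807b57b47b355e7af6636626617ac6e95597a67a57a755855765865765665579d79979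855165064f64e78e64c5a159c64964878878378254764364259364063f77963d63c75b77253e75e6376365a063463376763163062f54153854362b62a75c62862762662559f59e59259157a59061e6ee59a59961a61961858d61661561461359861161060f60e60d57260b5716b260872670351e6ad72b72a7105175145135fd5fc5fb71d51c70f71c71b71a50e50d50c5f15f05ef5ee5ed6e65156f06ed5026f551d7086c17074fe4fd6f46c06fe6fd4fb56c6cb6c66f84f76f65055004f46f25044f26ef56d6ec4ef6e86e54ed6e35c76df5c55c45c35c25c15c05bf56b6bc6b84e56cf4e16bb4f96c96c84df6c35694ff4db6be4e44d96ba56a6b75684d66b35a66b05a45a35a264b63562462368964a6a261c61b61269b4cb4ca68764162262161f6866856176844d24ce4cd4c74c64c44bd5846834ba4b966968168067f4b567b62067a4b14b04aa57557467760c60a4a54a456e5ce5db5be5ab5b25a967066f49749666b66a4934b74b666555d55c55b55a65e65a65948c55555455355265155048854e4d354c54b4d154954864454654554462c47e62e54053f63953d53c53b53a53962d5375365354d04cf4b44c54b352f52e52d4cc52b52a5294ad5275265255245234a95214b24a36055e65f94654664625186004645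eb5ff5fe45c45b45a50f5f45f35f245850a5095085074a15d55d14535e844f5d45b15e25e144d5dc49f5b74485d74524465d34a05d049e4435cc4ee5c94ec4eb4ea49d4e84e749c5bb5ae43b44a5b94395b449a4504365b049b5ad4994985a84d54d454d58b54a53453358a58952c59659542a42958858753158643142e42d42b42142658541f41e58258141b56055f57c5325305205785774144135284104ab57652240b40a4a657056f51f4075064f34fa4f14e94e64da4de4d84d75655643f841c56141a49149048f48e48d55648b48a48954f3ee48648543048348248148047f54247d47c47b47a47947841942c41841747347247147046f46e40f46c46b46a41640941551a51b5163d95193d73d83d43d345d5125115103d150b4064564554045034f63cb4dd5013c94fc3fe4024e23c54f84034f54014004f04424413ff43f43e3fd3c64e33bc4e03fc3cc4dc3fb3fa4334324c34843b54c24c14764c04c94c83b13b04be3b73b63ac3b24bf3aa4bc4bb3a84944b84924774754744694674af4ae3a039f4ac46d39c39b40c4a84a74683994a245739745444744b44544444044c43d4384354343a94953a73a63f53f43f33f23f13f03ef4873ed3ec3eb3ea3e93e83e73e63a53a43a33e23e13e03df3de3dd3dc3a23a1463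46046137437345f45e3714593983cf3ce39543745136c44e38e39443c4493933923c23c13913bf39038f43a38d38c38b3b842542442f35d35c42242842735a35835e4233564203f941d3f73f63e53e43e33db3da41241134d34c40e40d34a4083d04053463cd3c73c43c33c03be3bd3c83bb3ba3b935435335238738638538438338238138037f37e35135037b37a37937837734f34e3d63d532d3d234936f3483473ca34534434334236734136534033f33e33d3603203ad3b43b331e3af31d3ae31b3ab31a38a38938837d37c37637539e39d31039a37036e36d39636b36a36936836636436336236131631533a33933833733633531431333233133031231137230f32b30e30d30c30b32630a3093083072f735f2f535b3592f335735531931831733c33b33433332f32e34b32c32a3293283273253243233222ed2ec3043033022eb2ea2ff2e92e82e72e62e52e42e33212da31f2f431c2f22f12f02ef2ee3063053013002fe2fd2fc2fb2fa2f92f82d42d32e02d22d12d02cf2db2f62d92d82d72d62d52e22e12df2de2dd2dc2c62c52c42cb2ca2c92c82c72ce2cd2cc2be2c22c12c02bf2c32bd2bc2bb2ba2b92b82b72b62b52af29f2a029428a2b429728427f2952862772a82a728729227028c2912a12b22b326929629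c29b2932992982ae29d2ab2b129a2a52a226025525428d2a328b2b023e23d2a62aa25e2ad2372362512572ac26125d23323025823a2392a922a23427423f2202712a424e21e24425a24f26a29e21925f26626525326326227e29026728527d20b20c26c20827a28025628f28e26425228121526b26f2131f824b2102032021f324624526d2432421f72402732892881e71e62792782122832821e227527c2141e027b1dd2071db1e81e32761d72111fc2262051d41ff1ec1d32721d126e21d20e20921a26821821721625023224d23822824a1c521c1c225b25c1c121b25922e1bd2251ba2492482012002231fe1cb2271c91fa1c824c2411ac1f51f42471b81a81f01ef1ee1ed2221ad1c719f22c23c23b19c19b22b2351992311ca19822f19522d1a219d1922291bf18f22422118d21f1d01c31ce1cd1cc1fd1df1fb1f91ea18220f17c1cf20d20a1781d61be2061bc1702041b91f21b71b61b51831b31811b11b01af17f1eb1f61641631a91f11611a61a51a41a31da18015c1e91591d91e51e41571e11de1551521dc15b1501d817a14d1d518e1d218c18b18a18914113e18614713c1b41c61b21a11ae1371351c41271911791c01771211751381731721711bb16f16e13616c16b16a1691331151121651ab1aa1101a712e1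5f15e12c1a019410b19e10919a12a19710710519612b19312912819014c14b1141001481851461451441431421880ff0f01870ee1840ed13a13917417e16d17d0e61680e90e70e212f1600da15d15115614f14e17b0e112512412312217612011f11e11d0e00dc11a1191181170df16714a0c71660c51620db10e10d0d815a0c11580d61540d71530d50d41021011491400b90bb0b50b70fa0f90f80f70b30f50f40f30f20b613f0aa13d13b0a90eb0ea1320a41311340a20a50a013012611c11609a09811b10f12d09510c10610810410309e09d0d10d00cf0ce0cd09c0cb0ca0c909b1130861110970c309610a0940930910900bc0fd07d0fe07a0fb0f10fc0760f60790b10b00af0780ad0ac0770ef0ec06f0a706c0e40e80670e50650e30640d30d20cc0c80de05f0dd0c40c20d90c00bf0920be0bd06208e08d08c08b0610890880600c605e08405d05c05b05a07f04f0ba04e04c0b80b20ae0ab0b404b07407304a0710490a804406d0a606b04206903f0a303e0a109f06308f08a08709908508308208108003b05805703a05503903803703603007e07c04d07b07507207002c04702b02a06e02706a02502406806603d03c05905605405305205102103402001f01e05002f02e02d04804604501801704301504104002302203503303203101101001b01a01902902800b02601401301201d01c00700e00d00c01600a00900800f006005004003002001000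
def tb : List ℕ := [a0, a1, a2, a3, a4, a5, a6, a7, a8]
def bw : List ℕ := [nat_lit 1, nat_lit 2, nat_lit 3, nat_lit 4, nat_lit 5, nat_lit 7, nat_lit 8, nat_lit 9, nat_lit 0x69162532123526196]
def t0_0 : T := (.node (.node (.node (.node (.node (.node (.node .nil (nat_lit 0) (nat_lit 129) (nat_lit 1)
  .nil) (nat_lit 1) (nat_lit 112) (nat_lit 3) (.node .nil (nat_lit 2) (nat_lit 96) (nat_lit 5) .nil)) (nat_lit
  3) (nat_lit 101) (nat_lit 7) (.node (.node .nil (nat_lit 4) (nat_lit 128) (nat_lit 8) .nil) (nat_lit 5)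
  (nat_lit 85) (nat_lit 11) .nil)) (nat_lit 6) (nat_lit 112) (nat_lit 12) (.node (.node (.node .nil (nat_lit
  7) (nat_lit 88) (nat_lit 15) .nil) (nat_lit 8) (nat_lit 117) (nat_lit 16) (.node .nil (nat_lit 9) (nat_lit
  144) (nat_lit 19) .nil)) (nat_lit 10) (nat_lit 69) (nat_lit 21) (.node (.node .nil (nat_lit 11) (nat_lit 72)
  (nat_lit 22) .nil) (nat_lit 12) (nat_lit 101) (nat_lit 23) .nil))) (nat_lit 13) (nat_lit 129) (nat_lit 6)
  (.node (.node (.node (.node .nil (nat_lit 14) (nat_lit 128) (nat_lit 25) .nil) (nat_lit 15) (nat_lit 66)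
  (nat_lit 22) (.node .nil (nat_lit 16) (nat_lit 104) (nat_lit 28) .nil)) (nat_lit 17) (nat_lit 232) (nat_lit
  29) (.node (.node .nil (nat_lit 18) (nat_lit 133) (nat_lit 30) .nil) (nat_lit 19) (nat_lit 133) (nat_lit 31)
  .nil)) (nat_lit 20) (nat_lit 256) (nat_lit 35) (.node (.node (.node .nil (nat_lit 21) (nat_lit 56) (nat_lit
  38) .nil) (nat_lit 22) (nat_lit 49) (nat_lit 38) (.node .nil (nat_lit 23) (nat_lit 88) (nat_lit 40) .nil))
  (nat_lit 24) (nat_lit 248) (nat_lit 41) (.node (.node .nil (nat_lit 25) (nat_lit 117) (nat_lit 42) .nil)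
  (nat_lit 26) (nat_lit 145) (nat_lit 14) .nil)))) (nat_lit 27) (nat_lit 272) (nat_lit 45) (.node (.node
  (.node (.node (.node .nil (nat_lit 28) (nat_lit 84) (nat_lit 15) .nil) (nat_lit 29) (nat_lit 211) (nat_lit
  717) (.node .nil (nat_lit 30) (nat_lit 120) (nat_lit 49) .nil)) (nat_lit 31) (nat_lit 120) (nat_lit 50)
  (.node (.node .nil (nat_lit 32) (nat_lit 216) (nat_lit 51) .nil) (nat_lit 33) (nat_lit 248) (nat_lit 53)
  .nil)) (nat_lit 34) (nat_lit 149) (nat_lit 55) (.node (.node (.node .nil (nat_lit 35) (nat_lit 245) (nat_lit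
  62) .nil) (nat_lit 36) (nat_lit 272) (nat_lit 63) (.node .nil (nat_lit 37) (nat_lit 40) (nat_lit 65) .nil))
  (nat_lit 38) (nat_lit 32) (nat_lit 65) (.node (.node .nil (nat_lit 39) (nat_lit 264) (nat_lit 67) .nil)
  (nat_lit 40) (nat_lit 68) (nat_lit 22) .nil))) (nat_lit 41) (nat_lit 226) (nat_lit 29) (.node (.node (.node
  (.node .nil (nat_lit 42) (nat_lit 104) (nat_lit 69) .nil) (nat_lit 43) (nat_lit 232) (nat_lit 70) (.node
  .nil (nat_lit 44) (nat_lit 264) (nat_lit 72) .nil)) (nat_lit 45) (nat_lit 261) (nat_lit 76) (.node (.node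
  .nil (nat_lit 46) (nat_lit 164) (nat_lit 26) .nil) (nat_lit 47) (nat_lit 289) (nat_lit 27) .nil)) (nat_lit
  48) (nat_lit 288) (nat_lit 79) (.node (.node (.node .nil (nat_lit 49) (nat_lit 97) (nat_lit 28) .nil)
  (nat_lit 50) (nat_lit 102) (nat_lit 28) .nil) (nat_lit 51) (nat_lit 195) (nat_lit 734) (.node (.node .nil
  (nat_lit 52) (nat_lit 227) (nat_lit 736) .nil) (nat_lit 53) (nat_lit 227) (nat_lit 737) .nil))))) (nat_lit
  54) (nat_lit 136) (nat_lit 81) (.node (.node (.node (.node (.node (.node .nil (nat_lit 55) (nat_lit 136)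
  (nat_lit 82) .nil) (nat_lit 56) (nat_lit 200) (nat_lit 83) (.node .nil (nat_lit 57) (nat_lit 325) (nat_lit
  95) .nil)) (nat_lit 58) (nat_lit 232) (nat_lit 86) (.node (.node .nil (nat_lit 59) (nat_lit 264) (nat_lit
  89) .nil) (nat_lit 60) (nat_lit 165) (nat_lit 92) .nil)) (nat_lit 61) (nat_lit 229) (nat_lit 100) (.node
  (.node (.node .nil (nat_lit 62) (nat_lit 232) (nat_lit 102) .nil) (nat_lit 63) (nat_lit 261) (nat_lit 101)
  (.node .nil (nat_lit 64) (nat_lit 288) (nat_lit 104) .nil)) (nat_lit 65) (nat_lit 21) (nat_lit 105) (.node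
  (.node .nil (nat_lit 66) (nat_lit 280) (nat_lit 106) .nil) (nat_lit 67) (nat_lit 241) (nat_lit 41) .nil)))
  (nat_lit 68) (nat_lit 280) (nat_lit 110) (.node (.node (.node (.node .nil (nat_lit 69) (nat_lit 86) (nat_lit
  40) .nil) (nat_lit 70) (nat_lit 210) (nat_lit 51) (.node .nil (nat_lit 71) (nat_lit 242) (nat_lit 52) .nil))
  (nat_lit 72) (nat_lit 242) (nat_lit 53) (.node (.node .nil (nat_lit 73) (nat_lit 309) (nat_lit 118) .nil)
  (nat_lit 74) (nat_lit 248) (nat_lit 114) .nil)) (nat_lit 75) (nat_lit 280) (nat_lit 117) (.node (.node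
  (.node .nil (nat_lit 76) (nat_lit 248) (nat_lit 123) .nil) (nat_lit 77) (nat_lit 309) (nat_lit 108) (.node
  .nil (nat_lit 78) (nat_lit 312) (nat_lit 124) .nil)) (nat_lit 79) (nat_lit 277) (nat_lit 122) (.node (.node
  .nil (nat_lit 80) (nat_lit 305) (nat_lit 124) .nil) (nat_lit 81) (nat_lit 112) (nat_lit 49) .nil))))
  (nat_lit 82) (nat_lit 118) (nat_lit 49) (.node (.node (.node (.node (.node .nil (nat_lit 83) (nat_lit 179)
  (nat_lit 763) .nil) (nat_lit 84) (nat_lit 310) (nat_lit 135) (.node .nil (nat_lit 85) (nat_lit 211) (nat_lit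
  767) .nil)) (nat_lit 86) (nat_lit 211) (nat_lit 768) (.node (.node .nil (nat_lit 87) (nat_lit 243) (nat_lit
  770) .nil) (nat_lit 88) (nat_lit 243) (nat_lit 771) .nil)) (nat_lit 89) (nat_lit 243) (nat_lit 773) (.node
  (.node (.node .nil (nat_lit 90) (nat_lit 152) (nat_lit 128) .nil) (nat_lit 91) (nat_lit 184) (nat_lit 129)
  (.node .nil (nat_lit 92) (nat_lit 152) (nat_lit 130) .nil)) (nat_lit 93) (nat_lit 341) (nat_lit 149) (.node
  (.node .nil (nat_lit 94) (nat_lit 216) (nat_lit 133) .nil) (nat_lit 95) (nat_lit 312) (nat_lit 153) .nil)))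
  (nat_lit 96) (nat_lit 312) (nat_lit 135) (.node (.node (.node (.node .nil (nat_lit 97) (nat_lit 248)
  (nat_lit 138) .nil) (nat_lit 98) (nat_lit 280) (nat_lit 143) (.node .nil (nat_lit 99) (nat_lit 213) (nat_lit
  147) .nil)) (nat_lit 100) (nat_lit 216) (nat_lit 159) (.node (.node .nil (nat_lit 101) (nat_lit 248)
  (nat_lit 161) .nil) (nat_lit 102) (nat_lit 211) (nat_lit 796) .nil)) (nat_lit 103) (nat_lit 277) (nat_lit
  160) (.node (.node (.node .nil (nat_lit 104) (nat_lit 277) (nat_lit 165) .nil) (nat_lit 105) (nat_lit 0)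
  (nat_lit 105) .nil) (nat_lit 106) (nat_lit 256) (nat_lit 67) (.node (.node .nil (nat_lit 107) (nat_lit 293)
  (nat_lit 66) .nil) (nat_lit 108) (nat_lit 296) (nat_lit 166) .nil))))))
def t0_1 : T := (.node (.node (.node (.node (.node (.node (.node .nil (nat_lit 110) (nat_lit 257) (nat_lit 72)
  .nil) (nat_lit 111) (nat_lit 296) (nat_lit 168) (.node .nil (nat_lit 112) (nat_lit 294) (nat_lit 171) .nil))
  (nat_lit 113) (nat_lit 226) (nat_lit 85) (.node (.node .nil (nat_lit 114) (nat_lit 226) (nat_lit 86) .nil)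
  (nat_lit 115) (nat_lit 258) (nat_lit 87) .nil)) (nat_lit 116) (nat_lit 258) (nat_lit 88) (.node (.node
  (.node .nil (nat_lit 117) (nat_lit 258) (nat_lit 89) .nil) (nat_lit 118) (nat_lit 296) (nat_lit 180) (.node
  .nil (nat_lit 119) (nat_lit 296) (nat_lit 171) .nil)) (nat_lit 120) (nat_lit 264) (nat_lit 174) (.node
  (.node .nil (nat_lit 121) (nat_lit 296) (nat_lit 178) .nil) (nat_lit 122) (nat_lit 264) (nat_lit 184)
  .nil))) (nat_lit 123) (nat_lit 226) (nat_lit 102) (.node (.node (.node (.node .nil (nat_lit 124) (nat_lit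
  292) (nat_lit 166) .nil) (nat_lit 125) (nat_lit 293) (nat_lit 182) (.node .nil (nat_lit 126) (nat_lit 293)
  (nat_lit 187) .nil)) (nat_lit 127) (nat_lit 133) (nat_lit 81) (.node (.node .nil (nat_lit 128) (nat_lit 134)
  (nat_lit 81) .nil) (nat_lit 129) (nat_lit 163) (nat_lit 805) .nil)) (nat_lit 130) (nat_lit 132) (nat_lit 82)
  (.node (.node (.node .nil (nat_lit 131) (nat_lit 326) (nat_lit 194) .nil) (nat_lit 132) (nat_lit 195)
  (nat_lit 811) (.node .nil (nat_lit 133) (nat_lit 195) (nat_lit 812) .nil)) (nat_lit 134) (nat_lit 328)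
  (nat_lit 198) (.node (.node .nil (nat_lit 135) (nat_lit 292) (nat_lit 200) .nil) (nat_lit 136) (nat_lit 227)
  (nat_lit 816) .nil)))) (nat_lit 137) (nat_lit 227) (nat_lit 817) (.node (.node (.node (.node (.node .nil
  (nat_lit 138) (nat_lit 227) (nat_lit 819) .nil) (nat_lit 139) (nat_lit 259) (nat_lit 821) (.node .nil
  (nat_lit 140) (nat_lit 259) (nat_lit 822) .nil)) (nat_lit 141) (nat_lit 259) (nat_lit 824) (.node (.node
  .nil (nat_lit 142) (nat_lit 324) (nat_lit 209) .nil) (nat_lit 143) (nat_lit 259) (nat_lit 827) .nil))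
  (nat_lit 144) (nat_lit 168) (nat_lit 189) (.node (.node (.node .nil (nat_lit 145) (nat_lit 357) (nat_lit
  214) .nil) (nat_lit 146) (nat_lit 197) (nat_lit 91) (.node .nil (nat_lit 147) (nat_lit 200) (nat_lit 191)
  .nil)) (nat_lit 148) (nat_lit 360) (nat_lit 192) (.node (.node .nil (nat_lit 149) (nat_lit 328) (nat_lit
  217) .nil) (nat_lit 150) (nat_lit 328) (nat_lit 194) .nil))) (nat_lit 151) (nat_lit 232) (nat_lit 196)
  (.node (.node (.node (.node .nil (nat_lit 152) (nat_lit 296) (nat_lit 221) .nil) (nat_lit 153) (nat_lit 288)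
  (nat_lit 221) (.node .nil (nat_lit 154) (nat_lit 328) (nat_lit 222) .nil)) (nat_lit 155) (nat_lit 296)
  (nat_lit 200) (.node (.node .nil (nat_lit 156) (nat_lit 264) (nat_lit 204) .nil) (nat_lit 157) (nat_lit 296)
  (nat_lit 210) .nil)) (nat_lit 158) (nat_lit 296) (nat_lit 211) (.node (.node (.node .nil (nat_lit 159)
  (nat_lit 195) (nat_lit 853) .nil) (nat_lit 160) (nat_lit 264) (nat_lit 227) .nil) (nat_lit 161) (nat_lit
  227) (nat_lit 855) (.node (.node .nil (nat_lit 162) (nat_lit 293) (nat_lit 223) .nil) (nat_lit 163) (nat_lit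
  293) (nat_lit 231) .nil))))) (nat_lit 164) (nat_lit 293) (nat_lit 224) (.node (.node (.node (.node (.node
  (.node .nil (nat_lit 165) (nat_lit 264) (nat_lit 228) .nil) (nat_lit 166) (nat_lit 272) (nat_lit 110) (.node
  .nil (nat_lit 167) (nat_lit 273) (nat_lit 116) .nil)) (nat_lit 168) (nat_lit 276) (nat_lit 110) (.node
  (.node .nil (nat_lit 169) (nat_lit 312) (nat_lit 236) .nil) (nat_lit 170) (nat_lit 312) (nat_lit 239) .nil))
  (nat_lit 171) (nat_lit 276) (nat_lit 241) (.node (.node (.node .nil (nat_lit 172) (nat_lit 242) (nat_lit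
  136) .nil) (nat_lit 173) (nat_lit 242) (nat_lit 137) (.node .nil (nat_lit 174) (nat_lit 242) (nat_lit 138)
  .nil)) (nat_lit 175) (nat_lit 274) (nat_lit 140) (.node (.node .nil (nat_lit 176) (nat_lit 274) (nat_lit
  141) .nil) (nat_lit 177) (nat_lit 308) (nat_lit 250) .nil))) (nat_lit 178) (nat_lit 273) (nat_lit 117)
  (.node (.node (.node (.node .nil (nat_lit 179) (nat_lit 280) (nat_lit 246) .nil) (nat_lit 180) (nat_lit 272)
  (nat_lit 246) (.node .nil (nat_lit 181) (nat_lit 312) (nat_lit 252) .nil)) (nat_lit 182) (nat_lit 280)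
  (nat_lit 241) (.node (.node .nil (nat_lit 183) (nat_lit 312) (nat_lit 251) .nil) (nat_lit 184) (nat_lit 242)
  (nat_lit 161) .nil)) (nat_lit 185) (nat_lit 309) (nat_lit 155) (.node (.node (.node .nil (nat_lit 186)
  (nat_lit 308) (nat_lit 252) .nil) (nat_lit 187) (nat_lit 280) (nat_lit 253) (.node .nil (nat_lit 188)
  (nat_lit 150) (nat_lit 127) .nil)) (nat_lit 189) (nat_lit 148) (nat_lit 128) (.node (.node .nil (nat_lit
  190) (nat_lit 342) (nat_lit 262) .nil) (nat_lit 191) (nat_lit 179) (nat_lit 868) .nil)))) (nat_lit 192)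
  (nat_lit 342) (nat_lit 264) (.node (.node (.node (.node (.node .nil (nat_lit 193) (nat_lit 342) (nat_lit
  267) .nil) (nat_lit 194) (nat_lit 308) (nat_lit 268) (.node .nil (nat_lit 195) (nat_lit 211) (nat_lit 879)
  .nil)) (nat_lit 196) (nat_lit 211) (nat_lit 880) (.node (.node .nil (nat_lit 197) (nat_lit 344) (nat_lit
  273) .nil) (nat_lit 198) (nat_lit 309) (nat_lit 153) .nil)) (nat_lit 199) (nat_lit 308) (nat_lit 276) (.node
  (.node (.node .nil (nat_lit 200) (nat_lit 273) (nat_lit 278) .nil) (nat_lit 201) (nat_lit 243) (nat_lit 887)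
  (.node .nil (nat_lit 202) (nat_lit 243) (nat_lit 889) .nil)) (nat_lit 203) (nat_lit 340) (nat_lit 282)
  (.node (.node .nil (nat_lit 204) (nat_lit 243) (nat_lit 892) .nil) (nat_lit 205) (nat_lit 275) (nat_lit 895)
  .nil))) (nat_lit 206) (nat_lit 275) (nat_lit 897) (.node (.node (.node (.node .nil (nat_lit 207) (nat_lit
  340) (nat_lit 288) .nil) (nat_lit 208) (nat_lit 275) (nat_lit 900) (.node .nil (nat_lit 209) (nat_lit 305)
  (nat_lit 292) .nil)) (nat_lit 210) (nat_lit 274) (nat_lit 143) (.node (.node .nil (nat_lit 211) (nat_lit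
  275) (nat_lit 905) .nil) (nat_lit 212) (nat_lit 184) (nat_lit 259) .nil)) (nat_lit 213) (nat_lit 341)
  (nat_lit 298) (.node (.node (.node .nil (nat_lit 214) (nat_lit 344) (nat_lit 264) .nil) (nat_lit 215)
  (nat_lit 344) (nat_lit 262) .nil) (nat_lit 216) (nat_lit 312) (nat_lit 268) (.node (.node .nil (nat_lit 217)
  (nat_lit 304) (nat_lit 268) .nil) (nat_lit 218) (nat_lit 344) (nat_lit 301) .nil))))))
def t0_2 : T := (.node (.node (.node (.node (.node (.node (.node .nil (nat_lit 220) (nat_lit 280) (nat_lit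
  283) .nil) (nat_lit 221) (nat_lit 273) (nat_lit 283) (.node .nil (nat_lit 222) (nat_lit 304) (nat_lit 251)
  .nil)) (nat_lit 223) (nat_lit 280) (nat_lit 278) (.node (.node .nil (nat_lit 224) (nat_lit 280) (nat_lit
  284) .nil) (nat_lit 225) (nat_lit 312) (nat_lit 294) .nil)) (nat_lit 226) (nat_lit 309) (nat_lit 158) (.node
  (.node (.node .nil (nat_lit 227) (nat_lit 243) (nat_lit 939) .nil) (nat_lit 228) (nat_lit 243) (nat_lit 941)
  (.node .nil (nat_lit 229) (nat_lit 309) (nat_lit 307) .nil)) (nat_lit 230) (nat_lit 309) (nat_lit 300)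
  (.node (.node .nil (nat_lit 231) (nat_lit 280) (nat_lit 305) .nil) (nat_lit 232) (nat_lit 309) (nat_lit 310)
  .nil))) (nat_lit 233) (nat_lit 338) (nat_lit 256) (.node (.node (.node (.node .nil (nat_lit 234) (nat_lit
  292) (nat_lit 167) .nil) (nat_lit 235) (nat_lit 292) (nat_lit 314) (.node .nil (nat_lit 236) (nat_lit 292)
  (nat_lit 178) .nil)) (nat_lit 237) (nat_lit 328) (nat_lit 315) (.node (.node .nil (nat_lit 238) (nat_lit
  328) (nat_lit 317) .nil) (nat_lit 239) (nat_lit 293) (nat_lit 180) .nil)) (nat_lit 240) (nat_lit 292)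
  (nat_lit 320) (.node (.node (.node .nil (nat_lit 241) (nat_lit 257) (nat_lit 184) .nil) (nat_lit 242)
  (nat_lit 257) (nat_lit 172) (.node .nil (nat_lit 243) (nat_lit 258) (nat_lit 201) .nil)) (nat_lit 244)
  (nat_lit 258) (nat_lit 202) (.node (.node .nil (nat_lit 245) (nat_lit 324) (nat_lit 324) .nil) (nat_lit 246)
  (nat_lit 257) (nat_lit 174) .nil)))) (nat_lit 247) (nat_lit 290) (nat_lit 206) (.node (.node (.node (.node
  (.node .nil (nat_lit 248) (nat_lit 324) (nat_lit 326) .nil) (nat_lit 249) (nat_lit 289) (nat_lit 176) (.node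
  .nil (nat_lit 250) (nat_lit 289) (nat_lit 322) .nil)) (nat_lit 251) (nat_lit 289) (nat_lit 210) (.node
  (.node .nil (nat_lit 252) (nat_lit 288) (nat_lit 178) .nil) (nat_lit 253) (nat_lit 258) (nat_lit 228) .nil))
  (nat_lit 254) (nat_lit 324) (nat_lit 222) (.node (.node (.node .nil (nat_lit 255) (nat_lit 296) (nat_lit
  320) .nil) (nat_lit 256) (nat_lit 321) (nat_lit 318) (.node .nil (nat_lit 257) (nat_lit 164) (nat_lit 188)
  .nil)) (nat_lit 258) (nat_lit 421) (nat_lit 333) (.node (.node .nil (nat_lit 259) (nat_lit 161) (nat_lit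
  189) .nil) (nat_lit 260) (nat_lit 357) (nat_lit 336) .nil))) (nat_lit 261) (nat_lit 360) (nat_lit 339)
  (.node (.node (.node (.node .nil (nat_lit 262) (nat_lit 324) (nat_lit 217) .nil) (nat_lit 263) (nat_lit 358)
  (nat_lit 339) (.node .nil (nat_lit 264) (nat_lit 324) (nat_lit 342) .nil)) (nat_lit 265) (nat_lit 358)
  (nat_lit 345) (.node (.node .nil (nat_lit 266) (nat_lit 325) (nat_lit 217) .nil) (nat_lit 267) (nat_lit 324)
  (nat_lit 347) .nil)) (nat_lit 268) (nat_lit 289) (nat_lit 349) (.node (.node (.node .nil (nat_lit 269)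
  (nat_lit 227) (nat_lit 974) .nil) (nat_lit 270) (nat_lit 353) (nat_lit 203) .nil) (nat_lit 271) (nat_lit
  227) (nat_lit 976) (.node (.node .nil (nat_lit 272) (nat_lit 360) (nat_lit 354) .nil) (nat_lit 273) (nat_lit
  325) (nat_lit 357) .nil))))) (nat_lit 274) (nat_lit 324) (nat_lit 359) (.node (.node (.node (.node (.node
  (.node .nil (nat_lit 275) (nat_lit 325) (nat_lit 222) .nil) (nat_lit 276) (nat_lit 289) (nat_lit 360) (.node
  .nil (nat_lit 277) (nat_lit 328) (nat_lit 359) .nil)) (nat_lit 278) (nat_lit 258) (nat_lit 227) (.node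
  (.node .nil (nat_lit 279) (nat_lit 259) (nat_lit 988) .nil) (nat_lit 280) (nat_lit 324) (nat_lit 328) .nil))
  (nat_lit 281) (nat_lit 259) (nat_lit 991) (.node (.node (.node .nil (nat_lit 282) (nat_lit 320) (nat_lit
  328) .nil) (nat_lit 283) (nat_lit 258) (nat_lit 204) (.node .nil (nat_lit 284) (nat_lit 259) (nat_lit 996)
  .nil)) (nat_lit 285) (nat_lit 291) (nat_lit 1000) (.node (.node .nil (nat_lit 286) (nat_lit 353) (nat_lit
  207) .nil) (nat_lit 287) (nat_lit 291) (nat_lit 1003) .nil))) (nat_lit 288) (nat_lit 320) (nat_lit 209)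
  (.node (.node (.node (.node .nil (nat_lit 289) (nat_lit 357) (nat_lit 207) .nil) (nat_lit 290) (nat_lit 290)
  (nat_lit 208) (.node .nil (nat_lit 291) (nat_lit 291) (nat_lit 1009) .nil)) (nat_lit 292) (nat_lit 290)
  (nat_lit 361) (.node (.node .nil (nat_lit 293) (nat_lit 321) (nat_lit 369) .nil) (nat_lit 294) (nat_lit 290)
  (nat_lit 211) .nil)) (nat_lit 295) (nat_lit 291) (nat_lit 1016) (.node (.node (.node .nil (nat_lit 296)
  (nat_lit 200) (nat_lit 334) .nil) (nat_lit 297) (nat_lit 325) (nat_lit 225) (.node .nil (nat_lit 298)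
  (nat_lit 328) (nat_lit 342) .nil)) (nat_lit 299) (nat_lit 325) (nat_lit 216) (.node (.node .nil (nat_lit
  300) (nat_lit 296) (nat_lit 349) .nil) (nat_lit 301) (nat_lit 320) (nat_lit 342) .nil)))) (nat_lit 302)
  (nat_lit 264) (nat_lit 352) (.node (.node (.node (.node (.node .nil (nat_lit 303) (nat_lit 289) (nat_lit
  362) .nil) (nat_lit 304) (nat_lit 325) (nat_lit 379) (.node .nil (nat_lit 305) (nat_lit 259) (nat_lit 1058)
  .nil)) (nat_lit 306) (nat_lit 357) (nat_lit 373) (.node (.node .nil (nat_lit 307) (nat_lit 296) (nat_lit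
  360) .nil) (nat_lit 308) (nat_lit 325) (nat_lit 384) .nil)) (nat_lit 309) (nat_lit 296) (nat_lit 381) (.node
  (.node (.node .nil (nat_lit 310) (nat_lit 296) (nat_lit 365) .nil) (nat_lit 311) (nat_lit 354) (nat_lit 356)
  (.node .nil (nat_lit 312) (nat_lit 360) (nat_lit 372) .nil)) (nat_lit 313) (nat_lit 308) (nat_lit 249)
  (.node (.node .nil (nat_lit 314) (nat_lit 273) (nat_lit 243) .nil) (nat_lit 315) (nat_lit 308) (nat_lit 251)
  .nil))) (nat_lit 316) (nat_lit 344) (nat_lit 388) (.node (.node (.node (.node .nil (nat_lit 317) (nat_lit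
  309) (nat_lit 390) .nil) (nat_lit 318) (nat_lit 308) (nat_lit 392) (.node .nil (nat_lit 319) (nat_lit 309)
  (nat_lit 252) .nil)) (nat_lit 320) (nat_lit 273) (nat_lit 253) (.node (.node .nil (nat_lit 321) (nat_lit
  312) (nat_lit 392) .nil) (nat_lit 322) (nat_lit 274) (nat_lit 279) .nil)) (nat_lit 323) (nat_lit 273)
  (nat_lit 244) (.node (.node (.node .nil (nat_lit 324) (nat_lit 304) (nat_lit 249) .nil) (nat_lit 325)
  (nat_lit 305) (nat_lit 247) .nil) (nat_lit 326) (nat_lit 304) (nat_lit 250) (.node (.node .nil (nat_lit 327)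
  (nat_lit 341) (nat_lit 248) .nil) (nat_lit 328) (nat_lit 305) (nat_lit 290) .nil))))))
def t0_3 : T := (.node (.node (.node (.node (.node (.node (.node .nil (nat_lit 330) (nat_lit 312) (nat_lit
  276) .nil) (nat_lit 331) (nat_lit 177) (nat_lit 257) (.node .nil (nat_lit 332) (nat_lit 437) (nat_lit 397)
  .nil)) (nat_lit 333) (nat_lit 408) (nat_lit 400) (.node (.node .nil (nat_lit 334) (nat_lit 178) (nat_lit
  259) .nil) (nat_lit 335) (nat_lit 341) (nat_lit 401) .nil)) (nat_lit 336) (nat_lit 344) (nat_lit 403) (.node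
  (.node (.node .nil (nat_lit 337) (nat_lit 340) (nat_lit 301) .nil) (nat_lit 338) (nat_lit 376) (nat_lit 406)
  (.node .nil (nat_lit 339) (nat_lit 340) (nat_lit 403) .nil)) (nat_lit 340) (nat_lit 341) (nat_lit 262)
  (.node (.node .nil (nat_lit 341) (nat_lit 374) (nat_lit 406) .nil) (nat_lit 342) (nat_lit 305) (nat_lit 294)
  .nil))) (nat_lit 343) (nat_lit 376) (nat_lit 410) (.node (.node (.node (.node .nil (nat_lit 344) (nat_lit
  341) (nat_lit 413) .nil) (nat_lit 345) (nat_lit 340) (nat_lit 413) (.node .nil (nat_lit 346) (nat_lit 341)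
  (nat_lit 301) .nil)) (nat_lit 347) (nat_lit 305) (nat_lit 417) (.node (.node .nil (nat_lit 348) (nat_lit
  344) (nat_lit 416) .nil) (nat_lit 349) (nat_lit 274) (nat_lit 284) .nil)) (nat_lit 350) (nat_lit 243)
  (nat_lit 1109) (.node (.node (.node .nil (nat_lit 351) (nat_lit 369) (nat_lit 421) .nil) (nat_lit 352)
  (nat_lit 242) (nat_lit 271) (.node .nil (nat_lit 353) (nat_lit 376) (nat_lit 423) .nil)) (nat_lit 354)
  (nat_lit 341) (nat_lit 425) (.node (.node .nil (nat_lit 355) (nat_lit 376) (nat_lit 426) .nil) (nat_lit 356)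
  (nat_lit 337) (nat_lit 274) .nil)))) (nat_lit 357) (nat_lit 304) (nat_lit 303) (.node (.node (.node (.node
  (.node .nil (nat_lit 358) (nat_lit 341) (nat_lit 282) .nil) (nat_lit 359) (nat_lit 304) (nat_lit 276) (.node
  .nil (nat_lit 360) (nat_lit 274) (nat_lit 305) .nil)) (nat_lit 361) (nat_lit 275) (nat_lit 1130) (.node
  (.node .nil (nat_lit 362) (nat_lit 274) (nat_lit 281) .nil) (nat_lit 363) (nat_lit 275) (nat_lit 1136)
  .nil)) (nat_lit 364) (nat_lit 336) (nat_lit 435) (.node (.node (.node .nil (nat_lit 365) (nat_lit 275)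
  (nat_lit 1142) .nil) (nat_lit 366) (nat_lit 307) (nat_lit 1147) (.node .nil (nat_lit 367) (nat_lit 369)
  (nat_lit 439) .nil)) (nat_lit 368) (nat_lit 373) (nat_lit 286) (.node (.node .nil (nat_lit 369) (nat_lit
  306) (nat_lit 287) .nil) (nat_lit 370) (nat_lit 307) (nat_lit 1153) .nil))) (nat_lit 371) (nat_lit 336)
  (nat_lit 446) (.node (.node (.node (.node .nil (nat_lit 372) (nat_lit 341) (nat_lit 288) .nil) (nat_lit 373)
  (nat_lit 336) (nat_lit 293) (.node .nil (nat_lit 374) (nat_lit 376) (nat_lit 289) .nil)) (nat_lit 375)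
  (nat_lit 306) (nat_lit 291) (.node (.node .nil (nat_lit 376) (nat_lit 307) (nat_lit 1164) .nil) (nat_lit
  377) (nat_lit 306) (nat_lit 431) .nil)) (nat_lit 378) (nat_lit 306) (nat_lit 295) (.node (.node (.node .nil
  (nat_lit 379) (nat_lit 312) (nat_lit 295) .nil) (nat_lit 380) (nat_lit 434) (nat_lit 451) .nil) (nat_lit
  381) (nat_lit 275) (nat_lit 1216) (.node (.node .nil (nat_lit 382) (nat_lit 373) (nat_lit 433) .nil)
  (nat_lit 383) (nat_lit 312) (nat_lit 430) .nil))))) (nat_lit 384) (nat_lit 312) (nat_lit 417) (.node (.node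
  (.node (.node (.node (.node .nil (nat_lit 385) (nat_lit 312) (nat_lit 434) .nil) (nat_lit 386) (nat_lit 370)
  (nat_lit 412) (.node .nil (nat_lit 387) (nat_lit 370) (nat_lit 429) .nil)) (nat_lit 388) (nat_lit 325)
  (nat_lit 326) (.node (.node .nil (nat_lit 389) (nat_lit 360) (nat_lit 327) .nil) (nat_lit 390) (nat_lit 288)
  (nat_lit 323) .nil)) (nat_lit 391) (nat_lit 325) (nat_lit 324) (.node (.node (.node .nil (nat_lit 392)
  (nat_lit 288) (nat_lit 320) .nil) (nat_lit 393) (nat_lit 320) (nat_lit 325) (.node .nil (nat_lit 394)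
  (nat_lit 194) (nat_lit 331) .nil)) (nat_lit 395) (nat_lit 192) (nat_lit 331) (.node (.node .nil (nat_lit
  396) (nat_lit 453) (nat_lit 463) .nil) (nat_lit 397) (nat_lit 424) (nat_lit 466) .nil))) (nat_lit 398)
  (nat_lit 453) (nat_lit 467) (.node (.node (.node (.node .nil (nat_lit 399) (nat_lit 392) (nat_lit 469) .nil)
  (nat_lit 400) (nat_lit 384) (nat_lit 469) (.node .nil (nat_lit 401) (nat_lit 328) (nat_lit 378) .nil))
  (nat_lit 402) (nat_lit 360) (nat_lit 472) (.node (.node .nil (nat_lit 403) (nat_lit 321) (nat_lit 378) .nil)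
  (nat_lit 404) (nat_lit 328) (nat_lit 347) .nil)) (nat_lit 405) (nat_lit 392) (nat_lit 476) (.node (.node
  (.node .nil (nat_lit 406) (nat_lit 356) (nat_lit 472) .nil) (nat_lit 407) (nat_lit 357) (nat_lit 345) .nil)
  (nat_lit 408) (nat_lit 389) (nat_lit 471) (.node (.node .nil (nat_lit 409) (nat_lit 392) (nat_lit 481) .nil)
  (nat_lit 410) (nat_lit 357) (nat_lit 483) .nil)))) (nat_lit 411) (nat_lit 392) (nat_lit 484) (.node (.node
  (.node (.node (.node .nil (nat_lit 412) (nat_lit 353) (nat_lit 345) .nil) (nat_lit 413) (nat_lit 320)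
  (nat_lit 347) (.node .nil (nat_lit 414) (nat_lit 357) (nat_lit 472) .nil)) (nat_lit 415) (nat_lit 328)
  (nat_lit 489) (.node (.node .nil (nat_lit 416) (nat_lit 320) (nat_lit 489) .nil) (nat_lit 417) (nat_lit 290)
  (nat_lit 365) .nil)) (nat_lit 418) (nat_lit 360) (nat_lit 474) (.node (.node (.node .nil (nat_lit 419)
  (nat_lit 258) (nat_lit 350) .nil) (nat_lit 420) (nat_lit 259) (nat_lit 1288) (.node .nil (nat_lit 421)
  (nat_lit 356) (nat_lit 364) .nil)) (nat_lit 422) (nat_lit 390) (nat_lit 351) (.node (.node .nil (nat_lit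
  423) (nat_lit 357) (nat_lit 371) .nil) (nat_lit 424) (nat_lit 392) (nat_lit 497) .nil))) (nat_lit 425)
  (nat_lit 320) (nat_lit 500) (.node (.node (.node (.node .nil (nat_lit 426) (nat_lit 357) (nat_lit 501) .nil)
  (nat_lit 427) (nat_lit 357) (nat_lit 364) (.node .nil (nat_lit 428) (nat_lit 392) (nat_lit 502) .nil))
  (nat_lit 429) (nat_lit 353) (nat_lit 474) (.node (.node .nil (nat_lit 430) (nat_lit 290) (nat_lit 381) .nil)
  (nat_lit 431) (nat_lit 291) (nat_lit 1316) .nil)) (nat_lit 432) (nat_lit 290) (nat_lit 363) (.node (.node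
  (.node .nil (nat_lit 433) (nat_lit 352) (nat_lit 506) .nil) (nat_lit 434) (nat_lit 291) (nat_lit 1324) .nil)
  (nat_lit 435) (nat_lit 321) (nat_lit 375) (.node (.node .nil (nat_lit 436) (nat_lit 389) (nat_lit 494) .nil)
  (nat_lit 437) (nat_lit 322) (nat_lit 366) .nil))))))
def t0_4 : T := (.node (.node (.node (.node (.node (.node (.node .nil (nat_lit 439) (nat_lit 356) (nat_lit
  371) .nil) (nat_lit 440) (nat_lit 389) (nat_lit 367) (.node .nil (nat_lit 441) (nat_lit 390) (nat_lit 367)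
  .nil)) (nat_lit 442) (nat_lit 384) (nat_lit 368) (.node (.node .nil (nat_lit 443) (nat_lit 392) (nat_lit
  368) .nil) (nat_lit 444) (nat_lit 322) (nat_lit 370) .nil)) (nat_lit 445) (nat_lit 323) (nat_lit 1351)
  (.node (.node (.node .nil (nat_lit 446) (nat_lit 321) (nat_lit 377) .nil) (nat_lit 447) (nat_lit 322)
  (nat_lit 376) (.node .nil (nat_lit 448) (nat_lit 328) (nat_lit 376) .nil)) (nat_lit 449) (nat_lit 418)
  (nat_lit 521) (.node (.node .nil (nat_lit 450) (nat_lit 322) (nat_lit 505) .nil) (nat_lit 451) (nat_lit 417)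
  (nat_lit 466) .nil))) (nat_lit 452) (nat_lit 456) (nat_lit 380) (.node (.node (.node (.node .nil (nat_lit
  453) (nat_lit 454) (nat_lit 380) .nil) (nat_lit 454) (nat_lit 389) (nat_lit 529) (.node .nil (nat_lit 455)
  (nat_lit 328) (nat_lit 490) .nil)) (nat_lit 456) (nat_lit 328) (nat_lit 505) (.node (.node .nil (nat_lit
  457) (nat_lit 386) (nat_lit 487) .nil) (nat_lit 458) (nat_lit 389) (nat_lit 386) .nil)) (nat_lit 459)
  (nat_lit 390) (nat_lit 387) (.node (.node (.node .nil (nat_lit 460) (nat_lit 210) (nat_lit 395) .nil)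
  (nat_lit 461) (nat_lit 469) (nat_lit 452) (.node .nil (nat_lit 462) (nat_lit 464) (nat_lit 396) .nil))
  (nat_lit 463) (nat_lit 440) (nat_lit 451) (.node (.node .nil (nat_lit 464) (nat_lit 469) (nat_lit 540) .nil)
  (nat_lit 465) (nat_lit 408) (nat_lit 543) .nil)))) (nat_lit 466) (nat_lit 404) (nat_lit 400) (.node (.node
  (.node (.node (.node .nil (nat_lit 467) (nat_lit 440) (nat_lit 545) .nil) (nat_lit 468) (nat_lit 376)
  (nat_lit 548) (.node .nil (nat_lit 469) (nat_lit 369) (nat_lit 548) .nil)) (nat_lit 470) (nat_lit 344)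
  (nat_lit 447) (.node (.node .nil (nat_lit 471) (nat_lit 376) (nat_lit 553) .nil) (nat_lit 472) (nat_lit 336)
  (nat_lit 403) .nil)) (nat_lit 473) (nat_lit 344) (nat_lit 413) (.node (.node (.node .nil (nat_lit 474)
  (nat_lit 340) (nat_lit 416) .nil) (nat_lit 475) (nat_lit 408) (nat_lit 557) (.node .nil (nat_lit 476)
  (nat_lit 369) (nat_lit 406) .nil)) (nat_lit 477) (nat_lit 408) (nat_lit 559) (.node (.node .nil (nat_lit
  478) (nat_lit 373) (nat_lit 412) .nil) (nat_lit 479) (nat_lit 405) (nat_lit 552) .nil))) (nat_lit 480)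
  (nat_lit 405) (nat_lit 554) (.node (.node (.node (.node .nil (nat_lit 481) (nat_lit 373) (nat_lit 564) .nil)
  (nat_lit 482) (nat_lit 408) (nat_lit 565) (.node .nil (nat_lit 483) (nat_lit 336) (nat_lit 568) .nil))
  (nat_lit 484) (nat_lit 373) (nat_lit 569) (.node (.node .nil (nat_lit 485) (nat_lit 373) (nat_lit 553) .nil)
  (nat_lit 486) (nat_lit 404) (nat_lit 573) .nil)) (nat_lit 487) (nat_lit 369) (nat_lit 569) (.node (.node
  (.node .nil (nat_lit 488) (nat_lit 344) (nat_lit 556) .nil) (nat_lit 489) (nat_lit 305) (nat_lit 430) .nil)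
  (nat_lit 490) (nat_lit 306) (nat_lit 434) (.node (.node .nil (nat_lit 491) (nat_lit 373) (nat_lit 421) .nil)
  (nat_lit 492) (nat_lit 376) (nat_lit 546) .nil))))) (nat_lit 493) (nat_lit 274) (nat_lit 420) (.node (.node
  (.node (.node (.node (.node .nil (nat_lit 494) (nat_lit 372) (nat_lit 433) .nil) (nat_lit 495) (nat_lit 340)
  (nat_lit 435) (.node .nil (nat_lit 496) (nat_lit 374) (nat_lit 421) .nil)) (nat_lit 497) (nat_lit 373)
  (nat_lit 439) (.node (.node .nil (nat_lit 498) (nat_lit 408) (nat_lit 440) .nil) (nat_lit 499) (nat_lit 408)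
  (nat_lit 583) .nil)) (nat_lit 500) (nat_lit 305) (nat_lit 432) (.node (.node (.node .nil (nat_lit 501)
  (nat_lit 340) (nat_lit 425) .nil) (nat_lit 502) (nat_lit 374) (nat_lit 426) (.node .nil (nat_lit 503)
  (nat_lit 374) (nat_lit 429) .nil)) (nat_lit 504) (nat_lit 472) (nat_lit 588) (.node (.node .nil (nat_lit
  505) (nat_lit 307) (nat_lit 1554) .nil) (nat_lit 506) (nat_lit 337) (nat_lit 444) .nil))) (nat_lit 507)
  (nat_lit 405) (nat_lit 591) (.node (.node (.node (.node .nil (nat_lit 508) (nat_lit 337) (nat_lit 447) .nil)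
  (nat_lit 509) (nat_lit 406) (nat_lit 436) (.node .nil (nat_lit 510) (nat_lit 338) (nat_lit 438) .nil))
  (nat_lit 511) (nat_lit 339) (nat_lit 1586) (.node (.node .nil (nat_lit 512) (nat_lit 340) (nat_lit 446)
  .nil) (nat_lit 513) (nat_lit 374) (nat_lit 439) .nil)) (nat_lit 514) (nat_lit 400) (nat_lit 440) (.node
  (.node (.node .nil (nat_lit 515) (nat_lit 406) (nat_lit 440) .nil) (nat_lit 516) (nat_lit 408) (nat_lit 442)
  (.node .nil (nat_lit 517) (nat_lit 338) (nat_lit 445) .nil)) (nat_lit 518) (nat_lit 344) (nat_lit 445)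
  (.node (.node .nil (nat_lit 519) (nat_lit 402) (nat_lit 559) .nil) (nat_lit 520) (nat_lit 337) (nat_lit 450)
  .nil)))) (nat_lit 521) (nat_lit 401) (nat_lit 591) (.node (.node (.node (.node (.node .nil (nat_lit 522)
  (nat_lit 440) (nat_lit 449) .nil) (nat_lit 523) (nat_lit 408) (nat_lit 604) (.node .nil (nat_lit 524)
  (nat_lit 438) (nat_lit 449) .nil)) (nat_lit 525) (nat_lit 344) (nat_lit 450) (.node (.node .nil (nat_lit
  526) (nat_lit 438) (nat_lit 451) .nil) (nat_lit 527) (nat_lit 472) (nat_lit 453) .nil)) (nat_lit 528)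
  (nat_lit 468) (nat_lit 453) (.node (.node (.node .nil (nat_lit 529) (nat_lit 368) (nat_lit 590) .nil)
  (nat_lit 530) (nat_lit 344) (nat_lit 568) (.node .nil (nat_lit 531) (nat_lit 402) (nat_lit 604) .nil))
  (nat_lit 532) (nat_lit 405) (nat_lit 457) (.node (.node .nil (nat_lit 533) (nat_lit 406) (nat_lit 457) .nil)
  (nat_lit 534) (nat_lit 225) (nat_lit 460) .nil))) (nat_lit 535) (nat_lit 451) (nat_lit 1882) (.node (.node
  (.node (.node .nil (nat_lit 536) (nat_lit 485) (nat_lit 527) .nil) (nat_lit 537) (nat_lit 448) (nat_lit 615)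
  (.node .nil (nat_lit 538) (nat_lit 480) (nat_lit 464) .nil)) (nat_lit 539) (nat_lit 424) (nat_lit 521)
  (.node (.node .nil (nat_lit 540) (nat_lit 456) (nat_lit 526) .nil) (nat_lit 541) (nat_lit 485) (nat_lit 504)
  .nil)) (nat_lit 542) (nat_lit 392) (nat_lit 622) (.node (.node (.node .nil (nat_lit 543) (nat_lit 388)
  (nat_lit 469) .nil) (nat_lit 544) (nat_lit 424) (nat_lit 626) .nil) (nat_lit 545) (nat_lit 422) (nat_lit
  466) (.node (.node .nil (nat_lit 546) (nat_lit 358) (nat_lit 474) .nil) (nat_lit 547) (nat_lit 360) (nat_lit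
  511) .nil))))))
def t0_5 : T := (.node (.node (.node (.node (.node (.node (.node .nil (nat_lit 549) (nat_lit 360) (nat_lit
  517) .nil) (nat_lit 550) (nat_lit 353) (nat_lit 510) (.node .nil (nat_lit 551) (nat_lit 360) (nat_lit 508)
  .nil)) (nat_lit 552) (nat_lit 392) (nat_lit 529) (.node (.node .nil (nat_lit 553) (nat_lit 352) (nat_lit
  508) .nil) (nat_lit 554) (nat_lit 392) (nat_lit 630) .nil)) (nat_lit 555) (nat_lit 360) (nat_lit 483) (.node
  (.node (.node .nil (nat_lit 556) (nat_lit 324) (nat_lit 489) .nil) (nat_lit 557) (nat_lit 386) (nat_lit 476)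
  (.node .nil (nat_lit 558) (nat_lit 424) (nat_lit 519) .nil)) (nat_lit 559) (nat_lit 385) (nat_lit 630)
  (.node (.node .nil (nat_lit 560) (nat_lit 424) (nat_lit 635) .nil) (nat_lit 561) (nat_lit 389) (nat_lit 487)
  .nil))) (nat_lit 562) (nat_lit 421) (nat_lit 619) (.node (.node (.node (.node .nil (nat_lit 563) (nat_lit
  420) (nat_lit 635) .nil) (nat_lit 564) (nat_lit 352) (nat_lit 520) (.node .nil (nat_lit 565) (nat_lit 389)
  (nat_lit 640) .nil)) (nat_lit 566) (nat_lit 424) (nat_lit 642) (.node (.node .nil (nat_lit 567) (nat_lit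
  424) (nat_lit 643) .nil) (nat_lit 568) (nat_lit 321) (nat_lit 490) .nil)) (nat_lit 569) (nat_lit 356)
  (nat_lit 483) (.node (.node (.node .nil (nat_lit 570) (nat_lit 360) (nat_lit 633) .nil) (nat_lit 571)
  (nat_lit 390) (nat_lit 484) (.node .nil (nat_lit 572) (nat_lit 389) (nat_lit 630) .nil)) (nat_lit 573)
  (nat_lit 390) (nat_lit 487) (.node (.node .nil (nat_lit 574) (nat_lit 456) (nat_lit 649) .nil) (nat_lit 575)
  (nat_lit 360) (nat_lit 627) .nil)))) (nat_lit 576) (nat_lit 289) (nat_lit 493) (.node (.node (.node (.node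
  (.node .nil (nat_lit 577) (nat_lit 390) (nat_lit 491) .nil) (nat_lit 578) (nat_lit 356) (nat_lit 506) (.node
  .nil (nat_lit 579) (nat_lit 390) (nat_lit 494) .nil)) (nat_lit 580) (nat_lit 356) (nat_lit 508) (.node
  (.node .nil (nat_lit 581) (nat_lit 358) (nat_lit 495) .nil) (nat_lit 582) (nat_lit 358) (nat_lit 501) .nil))
  (nat_lit 583) (nat_lit 390) (nat_lit 497) (.node (.node (.node .nil (nat_lit 584) (nat_lit 424) (nat_lit
  514) .nil) (nat_lit 585) (nat_lit 424) (nat_lit 515) (.node .nil (nat_lit 586) (nat_lit 488) (nat_lit 528)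
  .nil)) (nat_lit 587) (nat_lit 324) (nat_lit 500) (.node (.node .nil (nat_lit 588) (nat_lit 452) (nat_lit
  526) .nil) (nat_lit 589) (nat_lit 421) (nat_lit 521) .nil))) (nat_lit 590) (nat_lit 353) (nat_lit 517)
  (.node (.node (.node (.node .nil (nat_lit 591) (nat_lit 388) (nat_lit 529) .nil) (nat_lit 592) (nat_lit 422)
  (nat_lit 507) (.node .nil (nat_lit 593) (nat_lit 356) (nat_lit 520) .nil)) (nat_lit 594) (nat_lit 358)
  (nat_lit 512) (.node (.node .nil (nat_lit 595) (nat_lit 416) (nat_lit 642) .nil) (nat_lit 596) (nat_lit 422)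
  (nat_lit 514) .nil)) (nat_lit 597) (nat_lit 481) (nat_lit 528) (.node (.node (.node .nil (nat_lit 598)
  (nat_lit 419) (nat_lit 1337) .nil) (nat_lit 599) (nat_lit 392) (nat_lit 640) .nil) (nat_lit 600) (nat_lit
  422) (nat_lit 519) (.node (.node .nil (nat_lit 601) (nat_lit 360) (nat_lit 520) .nil) (nat_lit 602) (nat_lit
  422) (nat_lit 521) .nil))))) (nat_lit 603) (nat_lit 456) (nat_lit 524) (.node (.node (.node (.node (.node
  (.node .nil (nat_lit 604) (nat_lit 385) (nat_lit 640) .nil) (nat_lit 605) (nat_lit 424) (nat_lit 637) (.node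
  .nil (nat_lit 606) (nat_lit 452) (nat_lit 524) .nil)) (nat_lit 607) (nat_lit 421) (nat_lit 531) (.node
  (.node .nil (nat_lit 608) (nat_lit 422) (nat_lit 531) .nil) (nat_lit 609) (nat_lit 422) (nat_lit 532) .nil))
  (nat_lit 610) (nat_lit 244) (nat_lit 534) (.node (.node (.node .nil (nat_lit 611) (nat_lit 435) (nat_lit
  1579) .nil) (nat_lit 612) (nat_lit 440) (nat_lit 595) (.node .nil (nat_lit 613) (nat_lit 470) (nat_lit 535)
  .nil)) (nat_lit 614) (nat_lit 501) (nat_lit 586) (.node (.node .nil (nat_lit 615) (nat_lit 437) (nat_lit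
  539) .nil) (nat_lit 616) (nat_lit 432) (nat_lit 607) .nil))) (nat_lit 617) (nat_lit 464) (nat_lit 669)
  (.node (.node (.node (.node .nil (nat_lit 618) (nat_lit 496) (nat_lit 541) .nil) (nat_lit 619) (nat_lit 408)
  (nat_lit 591) (.node .nil (nat_lit 620) (nat_lit 440) (nat_lit 602) .nil)) (nat_lit 621) (nat_lit 376)
  (nat_lit 580) (.node (.node .nil (nat_lit 622) (nat_lit 372) (nat_lit 590) .nil) (nat_lit 623) (nat_lit 376)
  (nat_lit 590) .nil)) (nat_lit 624) (nat_lit 408) (nat_lit 676) (.node (.node (.node .nil (nat_lit 625)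
  (nat_lit 372) (nat_lit 550) .nil) (nat_lit 626) (nat_lit 406) (nat_lit 543) (.node .nil (nat_lit 627)
  (nat_lit 342) (nat_lit 556) .nil)) (nat_lit 628) (nat_lit 308) (nat_lit 576) (.node (.node .nil (nat_lit
  629) (nat_lit 376) (nat_lit 564) .nil) (nat_lit 630) (nat_lit 372) (nat_lit 553) .nil)))) (nat_lit 631)
  (nat_lit 408) (nat_lit 681) (.node (.node (.node (.node (.node .nil (nat_lit 632) (nat_lit 376) (nat_lit
  569) .nil) (nat_lit 633) (nat_lit 340) (nat_lit 568) (.node .nil (nat_lit 634) (nat_lit 440) (nat_lit 600)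
  .nil)) (nat_lit 635) (nat_lit 406) (nat_lit 559) (.node (.node .nil (nat_lit 636) (nat_lit 406) (nat_lit
  561) .nil) (nat_lit 637) (nat_lit 406) (nat_lit 604) .nil)) (nat_lit 638) (nat_lit 437) (nat_lit 674) (.node
  (.node (.node .nil (nat_lit 639) (nat_lit 440) (nat_lit 684) .nil) (nat_lit 640) (nat_lit 372) (nat_lit 564)
  (.node .nil (nat_lit 641) (nat_lit 376) (nat_lit 593) .nil)) (nat_lit 642) (nat_lit 405) (nat_lit 604)
  (.node (.node .nil (nat_lit 643) (nat_lit 406) (nat_lit 565) .nil) (nat_lit 644) (nat_lit 440) (nat_lit 685)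
  .nil))) (nat_lit 645) (nat_lit 472) (nat_lit 606) (.node (.node (.node (.node .nil (nat_lit 646) (nat_lit
  374) (nat_lit 569) .nil) (nat_lit 647) (nat_lit 376) (nat_lit 678) (.node .nil (nat_lit 648) (nat_lit 406)
  (nat_lit 572) .nil)) (nat_lit 649) (nat_lit 436) (nat_lit 602) (.node (.node .nil (nat_lit 650) (nat_lit
  465) (nat_lit 606) .nil) (nat_lit 651) (nat_lit 374) (nat_lit 578) .nil)) (nat_lit 652) (nat_lit 374)
  (nat_lit 580) (.node (.node (.node .nil (nat_lit 653) (nat_lit 342) (nat_lit 587) .nil) (nat_lit 654)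
  (nat_lit 440) (nat_lit 596) .nil) (nat_lit 655) (nat_lit 504) (nat_lit 597) (.node (.node .nil (nat_lit 656)
  (nat_lit 438) (nat_lit 589) .nil) (nat_lit 657) (nat_lit 406) (nat_lit 591) .nil))))))
def t0_6 : T := (.node (.node (.node (.node (.node (.node (.node .nil (nat_lit 659) (nat_lit 438) (nat_lit
  595) .nil) (nat_lit 660) (nat_lit 496) (nat_lit 597) (.node .nil (nat_lit 661) (nat_lit 408) (nat_lit 683)
  .nil)) (nat_lit 662) (nat_lit 438) (nat_lit 607) (.node (.node .nil (nat_lit 663) (nat_lit 436) (nat_lit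
  608) .nil) (nat_lit 664) (nat_lit 259) (nat_lit 999) .nil)) (nat_lit 665) (nat_lit 454) (nat_lit 611) (.node
  (.node (.node .nil (nat_lit 666) (nat_lit 456) (nat_lit 659) .nil) (nat_lit 667) (nat_lit 484) (nat_lit 613)
  (.node .nil (nat_lit 668) (nat_lit 517) (nat_lit 655) .nil)) (nat_lit 669) (nat_lit 453) (nat_lit 620)
  (.node (.node .nil (nat_lit 670) (nat_lit 454) (nat_lit 616) .nil) (nat_lit 671) (nat_lit 480) (nat_lit 650)
  .nil))) (nat_lit 672) (nat_lit 452) (nat_lit 659) (.node (.node (.node (.node .nil (nat_lit 673) (nat_lit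
  517) (nat_lit 660) .nil) (nat_lit 674) (nat_lit 424) (nat_lit 657) (.node .nil (nat_lit 675) (nat_lit 392)
  (nat_lit 652) .nil)) (nat_lit 676) (nat_lit 390) (nat_lit 622) (.node (.node .nil (nat_lit 677) (nat_lit
  392) (nat_lit 658) .nil) (nat_lit 678) (nat_lit 358) (nat_lit 633) .nil)) (nat_lit 679) (nat_lit 390)
  (nat_lit 625) (.node (.node (.node .nil (nat_lit 680) (nat_lit 326) (nat_lit 628) .nil) (nat_lit 681)
  (nat_lit 390) (nat_lit 630) (.node .nil (nat_lit 682) (nat_lit 392) (nat_lit 646) .nil)) (nat_lit 683)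
  (nat_lit 390) (nat_lit 640) (.node (.node .nil (nat_lit 684) (nat_lit 420) (nat_lit 637) .nil) (nat_lit 685)
  (nat_lit 422) (nat_lit 642) .nil)))) (nat_lit 686) (nat_lit 452) (nat_lit 656) (.node (.node (.node (.node
  (.node .nil (nat_lit 687) (nat_lit 449) (nat_lit 663) .nil) (nat_lit 688) (nat_lit 452) (nat_lit 662) (.node
  .nil (nat_lit 689) (nat_lit 481) (nat_lit 691) .nil)) (nat_lit 690) (nat_lit 464) (nat_lit 687) (.node
  (.node .nil (nat_lit 691) (nat_lit 468) (nat_lit 670) .nil) (nat_lit 692) (nat_lit 436) (nat_lit 685) .nil))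
  (nat_lit 693) (nat_lit 195) (nat_lit 696) (.node (.node (.node .nil (nat_lit 694) (nat_lit 162) (nat_lit
  695) .nil) (nat_lit 695) (nat_lit 145) (nat_lit 697) (.node .nil (nat_lit 696) (nat_lit 178) (nat_lit 698)
  .nil)) (nat_lit 697) (nat_lit 128) (nat_lit 699) (.node (.node .nil (nat_lit 698) (nat_lit 161) (nat_lit
  701) .nil) (nat_lit 699) (nat_lit 117) (nat_lit 702) .nil))) (nat_lit 700) (nat_lit 144) (nat_lit 703)
  (.node (.node (.node (.node .nil (nat_lit 701) (nat_lit 144) (nat_lit 704) .nil) (nat_lit 702) (nat_lit 104)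
  (nat_lit 707) (.node .nil (nat_lit 703) (nat_lit 133) (nat_lit 708) .nil)) (nat_lit 704) (nat_lit 133)
  (nat_lit 710) (.node (.node .nil (nat_lit 705) (nat_lit 160) (nat_lit 712) .nil) (nat_lit 706) (nat_lit 160)
  (nat_lit 713) .nil)) (nat_lit 707) (nat_lit 83) (nat_lit 15) (.node (.node (.node .nil (nat_lit 708)
  (nat_lit 120) (nat_lit 716) .nil) (nat_lit 709) (nat_lit 216) (nat_lit 717) .nil) (nat_lit 710) (nat_lit
  120) (nat_lit 718) (.node (.node .nil (nat_lit 711) (nat_lit 149) (nat_lit 719) .nil) (nat_lit 712) (nat_lit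
  149) (nat_lit 720) .nil))))) (nat_lit 713) (nat_lit 149) (nat_lit 722) (.node (.node (.node (.node (.node
  (.node .nil (nat_lit 714) (nat_lit 240) (nat_lit 728) .nil) (nat_lit 715) (nat_lit 176) (nat_lit 729) (.node
  .nil (nat_lit 716) (nat_lit 100) (nat_lit 707) .nil)) (nat_lit 717) (nat_lit 199) (nat_lit 738) (.node
  (.node .nil (nat_lit 718) (nat_lit 103) (nat_lit 707) .nil) (nat_lit 719) (nat_lit 136) (nat_lit 732) .nil))
  (nat_lit 720) (nat_lit 136) (nat_lit 733) (.node (.node (.node .nil (nat_lit 721) (nat_lit 200) (nat_lit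
  734) .nil) (nat_lit 722) (nat_lit 136) (nat_lit 735) (.node .nil (nat_lit 723) (nat_lit 232) (nat_lit 737)
  .nil)) (nat_lit 724) (nat_lit 200) (nat_lit 738) (.node (.node .nil (nat_lit 725) (nat_lit 165) (nat_lit
  739) .nil) (nat_lit 726) (nat_lit 165) (nat_lit 741) .nil))) (nat_lit 727) (nat_lit 165) (nat_lit 743)
  (.node (.node (.node (.node .nil (nat_lit 728) (nat_lit 229) (nat_lit 755) .nil) (nat_lit 729) (nat_lit 165)
  (nat_lit 745) (.node .nil (nat_lit 730) (nat_lit 256) (nat_lit 757) .nil)) (nat_lit 731) (nat_lit 224)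
  (nat_lit 756) (.node (.node .nil (nat_lit 732) (nat_lit 113) (nat_lit 716) .nil) (nat_lit 733) (nat_lit 118)
  (nat_lit 716) .nil)) (nat_lit 734) (nat_lit 183) (nat_lit 769) (.node (.node (.node .nil (nat_lit 735)
  (nat_lit 119) (nat_lit 716) .nil) (nat_lit 736) (nat_lit 215) (nat_lit 772) (.node .nil (nat_lit 737)
  (nat_lit 215) (nat_lit 774) .nil)) (nat_lit 738) (nat_lit 180) (nat_lit 769) (.node (.node .nil (nat_lit
  739) (nat_lit 152) (nat_lit 760) .nil) (nat_lit 740) (nat_lit 152) (nat_lit 761) .nil)))) (nat_lit 741)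
  (nat_lit 152) (nat_lit 762) (.node (.node (.node (.node (.node .nil (nat_lit 742) (nat_lit 184) (nat_lit
  763) .nil) (nat_lit 743) (nat_lit 152) (nat_lit 764) (.node .nil (nat_lit 744) (nat_lit 341) (nat_lit 784)
  .nil)) (nat_lit 745) (nat_lit 152) (nat_lit 766) (.node (.node .nil (nat_lit 746) (nat_lit 216) (nat_lit
  768) .nil) (nat_lit 747) (nat_lit 184) (nat_lit 769) .nil)) (nat_lit 748) (nat_lit 248) (nat_lit 773) (.node
  (.node (.node .nil (nat_lit 749) (nat_lit 216) (nat_lit 774) .nil) (nat_lit 750) (nat_lit 181) (nat_lit 776)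
  (.node .nil (nat_lit 751) (nat_lit 181) (nat_lit 778) .nil)) (nat_lit 752) (nat_lit 181) (nat_lit 780)
  (.node (.node .nil (nat_lit 753) (nat_lit 213) (nat_lit 794) .nil) (nat_lit 754) (nat_lit 181) (nat_lit 782)
  .nil))) (nat_lit 755) (nat_lit 216) (nat_lit 796) (.node (.node (.node (.node .nil (nat_lit 756) (nat_lit
  213) (nat_lit 797) .nil) (nat_lit 757) (nat_lit 245) (nat_lit 795) (.node .nil (nat_lit 758) (nat_lit 272)
  (nat_lit 799) .nil)) (nat_lit 759) (nat_lit 240) (nat_lit 800) (.node (.node .nil (nat_lit 760) (nat_lit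
  130) (nat_lit 732) .nil) (nat_lit 761) (nat_lit 128) (nat_lit 732) .nil)) (nat_lit 762) (nat_lit 134)
  (nat_lit 732) (.node (.node (.node .nil (nat_lit 763) (nat_lit 167) (nat_lit 802) .nil) (nat_lit 764)
  (nat_lit 135) (nat_lit 732) .nil) (nat_lit 765) (nat_lit 326) (nat_lit 814) (.node (.node .nil (nat_lit 766)
  (nat_lit 135) (nat_lit 733) .nil) (nat_lit 767) (nat_lit 199) (nat_lit 818) .nil))))))
def t0_7 : T := (.node (.node (.node (.node (.node (.node (.node .nil (nat_lit 769) (nat_lit 161) (nat_lit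
  802) .nil) (nat_lit 770) (nat_lit 231) (nat_lit 823) (.node .nil (nat_lit 771) (nat_lit 231) (nat_lit 826)
  .nil)) (nat_lit 772) (nat_lit 197) (nat_lit 738) (.node (.node .nil (nat_lit 773) (nat_lit 231) (nat_lit
  828) .nil) (nat_lit 774) (nat_lit 198) (nat_lit 738) .nil)) (nat_lit 775) (nat_lit 168) (nat_lit 802) (.node
  (.node (.node .nil (nat_lit 776) (nat_lit 168) (nat_lit 803) .nil) (nat_lit 777) (nat_lit 168) (nat_lit 804)
  (.node .nil (nat_lit 778) (nat_lit 168) (nat_lit 805) .nil)) (nat_lit 779) (nat_lit 168) (nat_lit 807)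
  (.node (.node .nil (nat_lit 780) (nat_lit 168) (nat_lit 808) .nil) (nat_lit 781) (nat_lit 357) (nat_lit 838)
  .nil))) (nat_lit 782) (nat_lit 168) (nat_lit 810) (.node (.node (.node (.node .nil (nat_lit 783) (nat_lit
  200) (nat_lit 812) .nil) (nat_lit 784) (nat_lit 328) (nat_lit 843) (.node .nil (nat_lit 785) (nat_lit 328)
  (nat_lit 814) .nil)) (nat_lit 786) (nat_lit 357) (nat_lit 845) (.node (.node .nil (nat_lit 787) (nat_lit
  232) (nat_lit 819) .nil) (nat_lit 788) (nat_lit 200) (nat_lit 820) .nil)) (nat_lit 789) (nat_lit 264)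
  (nat_lit 827) (.node (.node (.node .nil (nat_lit 790) (nat_lit 232) (nat_lit 828) .nil) (nat_lit 791)
  (nat_lit 197) (nat_lit 830) (.node .nil (nat_lit 792) (nat_lit 197) (nat_lit 837) .nil)) (nat_lit 793)
  (nat_lit 197) (nat_lit 832) (.node (.node .nil (nat_lit 794) (nat_lit 200) (nat_lit 853) .nil) (nat_lit 795)
  (nat_lit 232) (nat_lit 855) .nil)))) (nat_lit 796) (nat_lit 199) (nat_lit 857) (.node (.node (.node (.node
  (.node .nil (nat_lit 797) (nat_lit 200) (nat_lit 857) .nil) (nat_lit 798) (nat_lit 261) (nat_lit 854) (.node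
  .nil (nat_lit 799) (nat_lit 261) (nat_lit 862) .nil)) (nat_lit 800) (nat_lit 229) (nat_lit 856) (.node
  (.node .nil (nat_lit 801) (nat_lit 256) (nat_lit 863) .nil) (nat_lit 802) (nat_lit 146) (nat_lit 761) .nil))
  (nat_lit 803) (nat_lit 150) (nat_lit 760) (.node (.node (.node .nil (nat_lit 804) (nat_lit 151) (nat_lit
  761) .nil) (nat_lit 805) (nat_lit 151) (nat_lit 760) (.node .nil (nat_lit 806) (nat_lit 149) (nat_lit 761)
  .nil)) (nat_lit 807) (nat_lit 150) (nat_lit 761) (.node (.node .nil (nat_lit 808) (nat_lit 148) (nat_lit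
  762) .nil) (nat_lit 809) (nat_lit 342) (nat_lit 877) .nil))) (nat_lit 810) (nat_lit 151) (nat_lit 762)
  (.node (.node (.node (.node .nil (nat_lit 811) (nat_lit 183) (nat_lit 864) .nil) (nat_lit 812) (nat_lit 183)
  (nat_lit 865) (.node .nil (nat_lit 813) (nat_lit 344) (nat_lit 882) .nil)) (nat_lit 814) (nat_lit 308)
  (nat_lit 885) (.node (.node .nil (nat_lit 815) (nat_lit 342) (nat_lit 886) .nil) (nat_lit 816) (nat_lit 215)
  (nat_lit 888) .nil)) (nat_lit 817) (nat_lit 215) (nat_lit 891) (.node (.node (.node .nil (nat_lit 818)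
  (nat_lit 181) (nat_lit 769) .nil) (nat_lit 819) (nat_lit 215) (nat_lit 893) .nil) (nat_lit 820) (nat_lit
  182) (nat_lit 769) (.node (.node .nil (nat_lit 821) (nat_lit 247) (nat_lit 896) .nil) (nat_lit 822) (nat_lit
  247) (nat_lit 899) .nil))))) (nat_lit 823) (nat_lit 208) (nat_lit 772) (.node (.node (.node (.node (.node
  (.node .nil (nat_lit 824) (nat_lit 247) (nat_lit 902) .nil) (nat_lit 825) (nat_lit 340) (nat_lit 901) (.node
  .nil (nat_lit 826) (nat_lit 214) (nat_lit 772) .nil)) (nat_lit 827) (nat_lit 247) (nat_lit 906) (.node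
  (.node .nil (nat_lit 828) (nat_lit 212) (nat_lit 774) .nil) (nat_lit 829) (nat_lit 184) (nat_lit 865) .nil))
  (nat_lit 830) (nat_lit 184) (nat_lit 866) (.node (.node (.node .nil (nat_lit 831) (nat_lit 373) (nat_lit
  910) .nil) (nat_lit 832) (nat_lit 184) (nat_lit 868) (.node .nil (nat_lit 833) (nat_lit 184) (nat_lit 870)
  .nil)) (nat_lit 834) (nat_lit 184) (nat_lit 872) (.node (.node .nil (nat_lit 835) (nat_lit 373) (nat_lit
  916) .nil) (nat_lit 836) (nat_lit 376) (nat_lit 874) .nil))) (nat_lit 837) (nat_lit 184) (nat_lit 875)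
  (.node (.node (.node (.node .nil (nat_lit 838) (nat_lit 344) (nat_lit 918) .nil) (nat_lit 839) (nat_lit 344)
  (nat_lit 877) (.node .nil (nat_lit 840) (nat_lit 376) (nat_lit 878) .nil)) (nat_lit 841) (nat_lit 216)
  (nat_lit 880) (.node (.node .nil (nat_lit 842) (nat_lit 312) (nat_lit 922) .nil) (nat_lit 843) (nat_lit 304)
  (nat_lit 922) .nil)) (nat_lit 844) (nat_lit 344) (nat_lit 925) (.node (.node (.node .nil (nat_lit 845)
  (nat_lit 344) (nat_lit 926) .nil) (nat_lit 846) (nat_lit 312) (nat_lit 885) .nil) (nat_lit 847) (nat_lit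
  344) (nat_lit 886) (.node (.node .nil (nat_lit 848) (nat_lit 248) (nat_lit 892) .nil) (nat_lit 849) (nat_lit
  216) (nat_lit 893) .nil)))) (nat_lit 850) (nat_lit 280) (nat_lit 904) (.node (.node (.node (.node (.node
  .nil (nat_lit 851) (nat_lit 280) (nat_lit 905) .nil) (nat_lit 852) (nat_lit 248) (nat_lit 906) (.node .nil
  (nat_lit 853) (nat_lit 183) (nat_lit 866) .nil)) (nat_lit 854) (nat_lit 248) (nat_lit 939) (.node (.node
  .nil (nat_lit 855) (nat_lit 215) (nat_lit 942) .nil) (nat_lit 856) (nat_lit 216) (nat_lit 942) .nil))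
  (nat_lit 857) (nat_lit 177) (nat_lit 866) (.node (.node (.node .nil (nat_lit 858) (nat_lit 277) (nat_lit
  938) .nil) (nat_lit 859) (nat_lit 277) (nat_lit 946) (.node .nil (nat_lit 860) (nat_lit 277) (nat_lit 932)
  .nil)) (nat_lit 861) (nat_lit 245) (nat_lit 940) (.node (.node .nil (nat_lit 862) (nat_lit 248) (nat_lit
  941) .nil) (nat_lit 863) (nat_lit 245) (nat_lit 951) .nil))) (nat_lit 864) (nat_lit 165) (nat_lit 802)
  (.node (.node (.node (.node .nil (nat_lit 865) (nat_lit 166) (nat_lit 802) .nil) (nat_lit 866) (nat_lit 164)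
  (nat_lit 803) (.node .nil (nat_lit 867) (nat_lit 358) (nat_lit 957) .nil)) (nat_lit 868) (nat_lit 167)
  (nat_lit 803) (.node (.node .nil (nat_lit 869) (nat_lit 167) (nat_lit 806) .nil) (nat_lit 870) (nat_lit 167)
  (nat_lit 807) .nil)) (nat_lit 871) (nat_lit 166) (nat_lit 806) (.node (.node (.node .nil (nat_lit 872)
  (nat_lit 164) (nat_lit 807) .nil) (nat_lit 873) (nat_lit 356) (nat_lit 964) .nil) (nat_lit 874) (nat_lit
  358) (nat_lit 967) (.node (.node .nil (nat_lit 875) (nat_lit 167) (nat_lit 808) .nil) (nat_lit 876) (nat_lit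
  358) (nat_lit 971) .nil))))))
def t0_8 : T := (.node (.node (.node (.node (.node (.node (.node .nil (nat_lit 878) (nat_lit 356) (nat_lit
  968) .nil) (nat_lit 879) (nat_lit 199) (nat_lit 952) (.node .nil (nat_lit 880) (nat_lit 199) (nat_lit 953)
  .nil)) (nat_lit 881) (nat_lit 360) (nat_lit 978) (.node (.node .nil (nat_lit 882) (nat_lit 325) (nat_lit
  843) .nil) (nat_lit 883) (nat_lit 324) (nat_lit 983) .nil)) (nat_lit 884) (nat_lit 360) (nat_lit 982) (.node
  (.node (.node .nil (nat_lit 885) (nat_lit 289) (nat_lit 986) .nil) (nat_lit 886) (nat_lit 324) (nat_lit 987)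
  (.node .nil (nat_lit 887) (nat_lit 231) (nat_lit 990) .nil)) (nat_lit 888) (nat_lit 192) (nat_lit 818)
  (.node (.node .nil (nat_lit 889) (nat_lit 231) (nat_lit 993) .nil) (nat_lit 890) (nat_lit 356) (nat_lit 992)
  .nil))) (nat_lit 891) (nat_lit 198) (nat_lit 818) (.node (.node (.node (.node .nil (nat_lit 892) (nat_lit
  231) (nat_lit 997) .nil) (nat_lit 893) (nat_lit 196) (nat_lit 820) (.node .nil (nat_lit 894) (nat_lit 263)
  (nat_lit 999) .nil)) (nat_lit 895) (nat_lit 263) (nat_lit 1002) (.node (.node .nil (nat_lit 896) (nat_lit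
  225) (nat_lit 823) .nil) (nat_lit 897) (nat_lit 263) (nat_lit 1005) .nil)) (nat_lit 898) (nat_lit 356)
  (nat_lit 1004) (.node (.node (.node .nil (nat_lit 899) (nat_lit 230) (nat_lit 823) .nil) (nat_lit 900)
  (nat_lit 263) (nat_lit 1011) (.node .nil (nat_lit 901) (nat_lit 321) (nat_lit 1010) .nil)) (nat_lit 902)
  (nat_lit 228) (nat_lit 826) (.node (.node .nil (nat_lit 903) (nat_lit 356) (nat_lit 1013) .nil) (nat_lit
  904) (nat_lit 263) (nat_lit 1015) .nil)))) (nat_lit 905) (nat_lit 263) (nat_lit 1017) (.node (.node (.node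
  (.node (.node .nil (nat_lit 906) (nat_lit 225) (nat_lit 828) .nil) (nat_lit 907) (nat_lit 200) (nat_lit 953)
  (.node .nil (nat_lit 908) (nat_lit 360) (nat_lit 954) .nil)) (nat_lit 909) (nat_lit 360) (nat_lit 955)
  (.node (.node .nil (nat_lit 910) (nat_lit 360) (nat_lit 968) .nil) (nat_lit 911) (nat_lit 360) (nat_lit 957)
  .nil)) (nat_lit 912) (nat_lit 360) (nat_lit 958) (.node (.node (.node .nil (nat_lit 913) (nat_lit 200)
  (nat_lit 960) .nil) (nat_lit 914) (nat_lit 200) (nat_lit 963) (.node .nil (nat_lit 915) (nat_lit 357)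
  (nat_lit 1026) .nil)) (nat_lit 916) (nat_lit 360) (nat_lit 967) (.node (.node .nil (nat_lit 917) (nat_lit
  328) (nat_lit 973) .nil) (nat_lit 918) (nat_lit 320) (nat_lit 973) .nil))) (nat_lit 919) (nat_lit 360)
  (nat_lit 1029) (.node (.node (.node (.node .nil (nat_lit 920) (nat_lit 232) (nat_lit 976) .nil) (nat_lit
  921) (nat_lit 296) (nat_lit 1032) (.node .nil (nat_lit 922) (nat_lit 289) (nat_lit 1032) .nil)) (nat_lit
  923) (nat_lit 328) (nat_lit 1037) (.node (.node .nil (nat_lit 924) (nat_lit 328) (nat_lit 1038) .nil)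
  (nat_lit 925) (nat_lit 320) (nat_lit 1037) .nil)) (nat_lit 926) (nat_lit 320) (nat_lit 1038) (.node (.node
  (.node .nil (nat_lit 927) (nat_lit 325) (nat_lit 846) .nil) (nat_lit 928) (nat_lit 360) (nat_lit 1042) .nil)
  (nat_lit 929) (nat_lit 296) (nat_lit 986) (.node (.node .nil (nat_lit 930) (nat_lit 328) (nat_lit 987) .nil)
  (nat_lit 931) (nat_lit 264) (nat_lit 995) .nil))))) (nat_lit 932) (nat_lit 264) (nat_lit 996) (.node (.node
  (.node (.node (.node (.node .nil (nat_lit 933) (nat_lit 232) (nat_lit 997) .nil) (nat_lit 934) (nat_lit 296)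
  (nat_lit 1014) (.node .nil (nat_lit 935) (nat_lit 264) (nat_lit 1015) .nil)) (nat_lit 936) (nat_lit 293)
  (nat_lit 851) (.node (.node .nil (nat_lit 937) (nat_lit 264) (nat_lit 1017) .nil) (nat_lit 938) (nat_lit
  264) (nat_lit 1056) .nil)) (nat_lit 939) (nat_lit 231) (nat_lit 1059) (.node (.node (.node .nil (nat_lit
  940) (nat_lit 232) (nat_lit 1059) .nil) (nat_lit 941) (nat_lit 231) (nat_lit 1061) (.node .nil (nat_lit 942)
  (nat_lit 192) (nat_lit 857) .nil)) (nat_lit 943) (nat_lit 293) (nat_lit 1062) (.node (.node .nil (nat_lit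
  944) (nat_lit 293) (nat_lit 1047) .nil) (nat_lit 945) (nat_lit 261) (nat_lit 1057) .nil))) (nat_lit 946)
  (nat_lit 264) (nat_lit 1058) (.node (.node (.node (.node .nil (nat_lit 947) (nat_lit 293) (nat_lit 1068)
  .nil) (nat_lit 948) (nat_lit 261) (nat_lit 1070) (.node .nil (nat_lit 949) (nat_lit 261) (nat_lit 1049)
  .nil)) (nat_lit 950) (nat_lit 355) (nat_lit 233) (.node (.node .nil (nat_lit 951) (nat_lit 232) (nat_lit
  1061) .nil) (nat_lit 952) (nat_lit 182) (nat_lit 864) .nil)) (nat_lit 953) (nat_lit 180) (nat_lit 865)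
  (.node (.node (.node .nil (nat_lit 954) (nat_lit 340) (nat_lit 1077) .nil) (nat_lit 955) (nat_lit 336)
  (nat_lit 1077) (.node .nil (nat_lit 956) (nat_lit 374) (nat_lit 1083) .nil)) (nat_lit 957) (nat_lit 340)
  (nat_lit 1085) (.node (.node .nil (nat_lit 958) (nat_lit 340) (nat_lit 918) .nil) (nat_lit 959) (nat_lit
  183) (nat_lit 871) .nil)))) (nat_lit 960) (nat_lit 183) (nat_lit 872) (.node (.node (.node (.node (.node
  .nil (nat_lit 961) (nat_lit 180) (nat_lit 871) .nil) (nat_lit 962) (nat_lit 402) (nat_lit 1075) (.node .nil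
  (nat_lit 963) (nat_lit 177) (nat_lit 872) .nil)) (nat_lit 964) (nat_lit 337) (nat_lit 1093) (.node (.node
  .nil (nat_lit 965) (nat_lit 376) (nat_lit 1097) .nil) (nat_lit 966) (nat_lit 374) (nat_lit 1097) .nil))
  (nat_lit 967) (nat_lit 340) (nat_lit 1099) (.node (.node (.node .nil (nat_lit 968) (nat_lit 336) (nat_lit
  1085) .nil) (nat_lit 969) (nat_lit 374) (nat_lit 1103) (.node .nil (nat_lit 970) (nat_lit 341) (nat_lit 918)
  .nil)) (nat_lit 971) (nat_lit 340) (nat_lit 1106) (.node (.node .nil (nat_lit 972) (nat_lit 373) (nat_lit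
  878) .nil) (nat_lit 973) (nat_lit 305) (nat_lit 1108) .nil))) (nat_lit 974) (nat_lit 215) (nat_lit 1074)
  (.node (.node (.node (.node .nil (nat_lit 975) (nat_lit 369) (nat_lit 890) .nil) (nat_lit 976) (nat_lit 215)
  (nat_lit 1076) (.node .nil (nat_lit 977) (nat_lit 376) (nat_lit 1113) .nil)) (nat_lit 978) (nat_lit 341)
  (nat_lit 1117) (.node (.node .nil (nat_lit 979) (nat_lit 340) (nat_lit 1120) .nil) (nat_lit 980) (nat_lit
  376) (nat_lit 1119) .nil)) (nat_lit 981) (nat_lit 341) (nat_lit 925) (.node (.node (.node .nil (nat_lit 982)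
  (nat_lit 341) (nat_lit 926) .nil) (nat_lit 983) (nat_lit 305) (nat_lit 1124) .nil) (nat_lit 984) (nat_lit
  344) (nat_lit 1120) (.node (.node .nil (nat_lit 985) (nat_lit 340) (nat_lit 1125) .nil) (nat_lit 986)
  (nat_lit 274) (nat_lit 1127) .nil))))))
def t0_9 : T := (.node (.node (.node (.node (.node (.node (.node .nil (nat_lit 988) (nat_lit 247) (nat_lit
  1132) .nil) (nat_lit 989) (nat_lit 340) (nat_lit 1131) (.node .nil (nat_lit 990) (nat_lit 214) (nat_lit 888)
  .nil)) (nat_lit 991) (nat_lit 247) (nat_lit 1138) (.node (.node .nil (nat_lit 992) (nat_lit 336) (nat_lit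
  1131) .nil) (nat_lit 993) (nat_lit 212) (nat_lit 891) .nil)) (nat_lit 994) (nat_lit 372) (nat_lit 1139)
  (.node (.node (.node .nil (nat_lit 995) (nat_lit 247) (nat_lit 1141) .nil) (nat_lit 996) (nat_lit 247)
  (nat_lit 1143) (.node .nil (nat_lit 997) (nat_lit 209) (nat_lit 893) .nil)) (nat_lit 998) (nat_lit 279)
  (nat_lit 1146) (.node (.node .nil (nat_lit 999) (nat_lit 242) (nat_lit 896) .nil) (nat_lit 1000) (nat_lit
  279) (nat_lit 1149) .nil))) (nat_lit 1001) (nat_lit 369) (nat_lit 898) (.node (.node (.node (.node .nil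
  (nat_lit 1002) (nat_lit 246) (nat_lit 896) .nil) (nat_lit 1003) (nat_lit 279) (nat_lit 1155) (.node .nil
  (nat_lit 1004) (nat_lit 336) (nat_lit 901) .nil)) (nat_lit 1005) (nat_lit 244) (nat_lit 899) (.node (.node
  .nil (nat_lit 1006) (nat_lit 373) (nat_lit 898) .nil) (nat_lit 1007) (nat_lit 372) (nat_lit 1158) .nil))
  (nat_lit 1008) (nat_lit 279) (nat_lit 1163) (.node (.node (.node .nil (nat_lit 1009) (nat_lit 279) (nat_lit
  1166) .nil) (nat_lit 1010) (nat_lit 306) (nat_lit 1162) (.node .nil (nat_lit 1011) (nat_lit 241) (nat_lit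
  902) .nil)) (nat_lit 1012) (nat_lit 337) (nat_lit 1167) (.node (.node .nil (nat_lit 1013) (nat_lit 337)
  (nat_lit 1168) .nil) (nat_lit 1014) (nat_lit 279) (nat_lit 1172) .nil)))) (nat_lit 1015) (nat_lit 242)
  (nat_lit 906) (.node (.node (.node (.node (.node .nil (nat_lit 1016) (nat_lit 279) (nat_lit 1175) .nil)
  (nat_lit 1017) (nat_lit 240) (nat_lit 906) (.node .nil (nat_lit 1018) (nat_lit 216) (nat_lit 1076) .nil))
  (nat_lit 1019) (nat_lit 344) (nat_lit 1077) (.node (.node .nil (nat_lit 1020) (nat_lit 376) (nat_lit 1080)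
  .nil) (nat_lit 1021) (nat_lit 344) (nat_lit 1085) .nil)) (nat_lit 1022) (nat_lit 376) (nat_lit 1100) (.node
  (.node (.node .nil (nat_lit 1023) (nat_lit 216) (nat_lit 1088) .nil) (nat_lit 1024) (nat_lit 216) (nat_lit
  1092) (.node .nil (nat_lit 1025) (nat_lit 341) (nat_lit 1183) .nil)) (nat_lit 1026) (nat_lit 344) (nat_lit
  1099) (.node (.node .nil (nat_lit 1027) (nat_lit 341) (nat_lit 917) .nil) (nat_lit 1028) (nat_lit 312)
  (nat_lit 1108) .nil))) (nat_lit 1029) (nat_lit 336) (nat_lit 1099) (.node (.node (.node (.node .nil (nat_lit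
  1030) (nat_lit 248) (nat_lit 1111) .nil) (nat_lit 1031) (nat_lit 280) (nat_lit 1186) (.node .nil (nat_lit
  1032) (nat_lit 274) (nat_lit 1186) .nil)) (nat_lit 1033) (nat_lit 280) (nat_lit 1128) (.node (.node .nil
  (nat_lit 1034) (nat_lit 312) (nat_lit 1191) .nil) (nat_lit 1035) (nat_lit 312) (nat_lit 1192) .nil))
  (nat_lit 1036) (nat_lit 305) (nat_lit 1190) (.node (.node (.node .nil (nat_lit 1037) (nat_lit 305) (nat_lit
  1191) .nil) (nat_lit 1038) (nat_lit 305) (nat_lit 1192) .nil) (nat_lit 1039) (nat_lit 344) (nat_lit 1133)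
  (.node (.node .nil (nat_lit 1040) (nat_lit 344) (nat_lit 1196) .nil) (nat_lit 1041) (nat_lit 340) (nat_lit
  925) .nil))))) (nat_lit 1042) (nat_lit 336) (nat_lit 1196) (.node (.node (.node (.node (.node (.node .nil
  (nat_lit 1043) (nat_lit 309) (nat_lit 929) .nil) (nat_lit 1044) (nat_lit 341) (nat_lit 930) (.node .nil
  (nat_lit 1045) (nat_lit 280) (nat_lit 1127) .nil)) (nat_lit 1046) (nat_lit 312) (nat_lit 1129) (.node (.node
  .nil (nat_lit 1047) (nat_lit 280) (nat_lit 1140) .nil) (nat_lit 1048) (nat_lit 248) (nat_lit 1141) .nil))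
  (nat_lit 1049) (nat_lit 248) (nat_lit 1143) (.node (.node (.node .nil (nat_lit 1050) (nat_lit 312) (nat_lit
  1170) .nil) (nat_lit 1051) (nat_lit 309) (nat_lit 934) (.node .nil (nat_lit 1052) (nat_lit 280) (nat_lit
  1172) .nil)) (nat_lit 1053) (nat_lit 309) (nat_lit 1173) (.node (.node .nil (nat_lit 1054) (nat_lit 216)
  (nat_lit 1211) .nil) (nat_lit 1055) (nat_lit 277) (nat_lit 937) .nil))) (nat_lit 1056) (nat_lit 247)
  (nat_lit 1215) (.node (.node (.node (.node .nil (nat_lit 1057) (nat_lit 248) (nat_lit 1215) .nil) (nat_lit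
  1058) (nat_lit 247) (nat_lit 1218) (.node .nil (nat_lit 1059) (nat_lit 208) (nat_lit 1076) .nil)) (nat_lit
  1060) (nat_lit 373) (nat_lit 1157) (.node (.node .nil (nat_lit 1061) (nat_lit 213) (nat_lit 942) .nil)
  (nat_lit 1062) (nat_lit 280) (nat_lit 1214) .nil)) (nat_lit 1063) (nat_lit 311) (nat_lit 1225) (.node (.node
  (.node .nil (nat_lit 1064) (nat_lit 277) (nat_lit 1223) .nil) (nat_lit 1065) (nat_lit 312) (nat_lit 1224)
  (.node .nil (nat_lit 1066) (nat_lit 277) (nat_lit 1204) .nil)) (nat_lit 1067) (nat_lit 280) (nat_lit 1216)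
  (.node (.node .nil (nat_lit 1068) (nat_lit 280) (nat_lit 1142) .nil) (nat_lit 1069) (nat_lit 371) (nat_lit
  311) .nil)))) (nat_lit 1070) (nat_lit 248) (nat_lit 1218) (.node (.node (.node (.node (.node .nil (nat_lit
  1071) (nat_lit 277) (nat_lit 1232) .nil) (nat_lit 1072) (nat_lit 376) (nat_lit 1156) (.node .nil (nat_lit
  1073) (nat_lit 376) (nat_lit 1219) .nil)) (nat_lit 1074) (nat_lit 196) (nat_lit 952) (.node (.node .nil
  (nat_lit 1075) (nat_lit 385) (nat_lit 994) .nil) (nat_lit 1076) (nat_lit 193) (nat_lit 953) .nil)) (nat_lit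
  1077) (nat_lit 321) (nat_lit 1240) (.node (.node (.node .nil (nat_lit 1078) (nat_lit 356) (nat_lit 1241)
  .nil) (nat_lit 1079) (nat_lit 357) (nat_lit 955) (.node .nil (nat_lit 1080) (nat_lit 356) (nat_lit 1246)
  .nil)) (nat_lit 1081) (nat_lit 390) (nat_lit 1249) (.node (.node .nil (nat_lit 1082) (nat_lit 357) (nat_lit
  968) .nil) (nat_lit 1083) (nat_lit 356) (nat_lit 1252) .nil))) (nat_lit 1084) (nat_lit 357) (nat_lit 958)
  (.node (.node (.node (.node .nil (nat_lit 1085) (nat_lit 321) (nat_lit 1254) .nil) (nat_lit 1086) (nat_lit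
  199) (nat_lit 961) (.node .nil (nat_lit 1087) (nat_lit 386) (nat_lit 975) .nil)) (nat_lit 1088) (nat_lit
  199) (nat_lit 963) (.node (.node .nil (nat_lit 1089) (nat_lit 193) (nat_lit 961) .nil) (nat_lit 1090)
  (nat_lit 418) (nat_lit 1237) .nil)) (nat_lit 1091) (nat_lit 392) (nat_lit 1264) (.node (.node (.node .nil
  (nat_lit 1092) (nat_lit 194) (nat_lit 963) .nil) (nat_lit 1093) (nat_lit 322) (nat_lit 1265) .nil) (nat_lit
  1094) (nat_lit 360) (nat_lit 1269) (.node (.node .nil (nat_lit 1095) (nat_lit 353) (nat_lit 1267) .nil)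
  (nat_lit 1096) (nat_lit 392) (nat_lit 1272) .nil))))))
def t0_10 : T := (.node (.node (.node (.node (.node (.node (.node .nil (nat_lit 1098) (nat_lit 390) (nat_lit
  1272) .nil) (nat_lit 1099) (nat_lit 321) (nat_lit 1274) (.node .nil (nat_lit 1100) (nat_lit 352) (nat_lit
  1246) .nil)) (nat_lit 1101) (nat_lit 392) (nat_lit 1276) (.node (.node .nil (nat_lit 1102) (nat_lit 357)
  (nat_lit 1280) .nil) (nat_lit 1103) (nat_lit 356) (nat_lit 1280) .nil)) (nat_lit 1104) (nat_lit 389)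
  (nat_lit 1249) (.node (.node (.node .nil (nat_lit 1105) (nat_lit 357) (nat_lit 1029) .nil) (nat_lit 1106)
  (nat_lit 321) (nat_lit 1284) (.node .nil (nat_lit 1107) (nat_lit 360) (nat_lit 1283) .nil)) (nat_lit 1108)
  (nat_lit 290) (nat_lit 1286) (.node (.node .nil (nat_lit 1109) (nat_lit 231) (nat_lit 1236) .nil) (nat_lit
  1110) (nat_lit 385) (nat_lit 1289) .nil))) (nat_lit 1111) (nat_lit 231) (nat_lit 1239) (.node (.node (.node
  (.node .nil (nat_lit 1112) (nat_lit 392) (nat_lit 1291) .nil) (nat_lit 1113) (nat_lit 357) (nat_lit 1295)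
  (.node .nil (nat_lit 1114) (nat_lit 392) (nat_lit 1296) .nil)) (nat_lit 1115) (nat_lit 353) (nat_lit 979)
  (.node (.node .nil (nat_lit 1116) (nat_lit 392) (nat_lit 1298) .nil) (nat_lit 1117) (nat_lit 320) (nat_lit
  1036) .nil)) (nat_lit 1118) (nat_lit 357) (nat_lit 992) (.node (.node (.node .nil (nat_lit 1119) (nat_lit
  357) (nat_lit 1304) .nil) (nat_lit 1120) (nat_lit 320) (nat_lit 983) (.node .nil (nat_lit 1121) (nat_lit
  328) (nat_lit 983) .nil)) (nat_lit 1122) (nat_lit 356) (nat_lit 1306) (.node (.node .nil (nat_lit 1123)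
  (nat_lit 357) (nat_lit 1042) .nil) (nat_lit 1124) (nat_lit 290) (nat_lit 1308) .nil)))) (nat_lit 1125)
  (nat_lit 321) (nat_lit 1310) (.node (.node (.node (.node (.node .nil (nat_lit 1126) (nat_lit 360) (nat_lit
  1306) .nil) (nat_lit 1127) (nat_lit 259) (nat_lit 1056) (.node .nil (nat_lit 1128) (nat_lit 258) (nat_lit
  1311) .nil)) (nat_lit 1129) (nat_lit 290) (nat_lit 1312) (.node (.node .nil (nat_lit 1130) (nat_lit 263)
  (nat_lit 1318) .nil) (nat_lit 1131) (nat_lit 321) (nat_lit 1317) .nil)) (nat_lit 1132) (nat_lit 228)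
  (nat_lit 990) (.node (.node (.node .nil (nat_lit 1133) (nat_lit 324) (nat_lit 1037) .nil) (nat_lit 1134)
  (nat_lit 356) (nat_lit 1319) (.node .nil (nat_lit 1135) (nat_lit 263) (nat_lit 1323) .nil)) (nat_lit 1136)
  (nat_lit 263) (nat_lit 1326) (.node (.node .nil (nat_lit 1137) (nat_lit 352) (nat_lit 1325) .nil) (nat_lit
  1138) (nat_lit 225) (nat_lit 993) .nil))) (nat_lit 1139) (nat_lit 352) (nat_lit 1319) (.node (.node (.node
  (.node .nil (nat_lit 1140) (nat_lit 263) (nat_lit 1330) .nil) (nat_lit 1141) (nat_lit 226) (nat_lit 997)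
  (.node .nil (nat_lit 1142) (nat_lit 263) (nat_lit 1332) .nil)) (nat_lit 1143) (nat_lit 224) (nat_lit 997)
  (.node (.node .nil (nat_lit 1144) (nat_lit 263) (nat_lit 1335) .nil) (nat_lit 1145) (nat_lit 386) (nat_lit
  1001) .nil)) (nat_lit 1146) (nat_lit 262) (nat_lit 999) (.node (.node (.node .nil (nat_lit 1147) (nat_lit
  295) (nat_lit 1341) .nil) (nat_lit 1148) (nat_lit 385) (nat_lit 1340) .nil) (nat_lit 1149) (nat_lit 260)
  (nat_lit 1002) (.node (.node .nil (nat_lit 1150) (nat_lit 389) (nat_lit 1001) .nil) (nat_lit 1151) (nat_lit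
  385) (nat_lit 1007) .nil))))) (nat_lit 1152) (nat_lit 295) (nat_lit 1350) (.node (.node (.node (.node (.node
  (.node .nil (nat_lit 1153) (nat_lit 295) (nat_lit 1353) .nil) (nat_lit 1154) (nat_lit 352) (nat_lit 1352)
  (.node .nil (nat_lit 1155) (nat_lit 257) (nat_lit 1005) .nil)) (nat_lit 1156) (nat_lit 357) (nat_lit 1004)
  (.node (.node .nil (nat_lit 1157) (nat_lit 352) (nat_lit 1012) .nil) (nat_lit 1158) (nat_lit 352) (nat_lit
  1013) .nil)) (nat_lit 1159) (nat_lit 392) (nat_lit 1006) (.node (.node (.node .nil (nat_lit 1160) (nat_lit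
  389) (nat_lit 1007) .nil) (nat_lit 1161) (nat_lit 295) (nat_lit 1363) (.node .nil (nat_lit 1162) (nat_lit
  291) (nat_lit 1315) .nil)) (nat_lit 1163) (nat_lit 258) (nat_lit 1011) (.node (.node .nil (nat_lit 1164)
  (nat_lit 295) (nat_lit 1368) .nil) (nat_lit 1165) (nat_lit 322) (nat_lit 1362) .nil))) (nat_lit 1166)
  (nat_lit 256) (nat_lit 1011) (.node (.node (.node (.node .nil (nat_lit 1167) (nat_lit 322) (nat_lit 1364)
  .nil) (nat_lit 1168) (nat_lit 322) (nat_lit 1365) (.node .nil (nat_lit 1169) (nat_lit 321) (nat_lit 1373)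
  .nil)) (nat_lit 1170) (nat_lit 295) (nat_lit 1376) (.node (.node .nil (nat_lit 1171) (nat_lit 295) (nat_lit
  1379) .nil) (nat_lit 1172) (nat_lit 258) (nat_lit 1017) .nil)) (nat_lit 1173) (nat_lit 296) (nat_lit 1016)
  (.node (.node (.node .nil (nat_lit 1174) (nat_lit 451) (nat_lit 380) .nil) (nat_lit 1175) (nat_lit 261)
  (nat_lit 1017) (.node .nil (nat_lit 1176) (nat_lit 232) (nat_lit 1239) .nil)) (nat_lit 1177) (nat_lit 328)
  (nat_lit 1240) (.node (.node .nil (nat_lit 1178) (nat_lit 360) (nat_lit 1246) .nil) (nat_lit 1179) (nat_lit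
  360) (nat_lit 1242) .nil)))) (nat_lit 1180) (nat_lit 328) (nat_lit 1254) (.node (.node (.node (.node (.node
  .nil (nat_lit 1181) (nat_lit 232) (nat_lit 1257) .nil) (nat_lit 1182) (nat_lit 325) (nat_lit 1388) (.node
  .nil (nat_lit 1183) (nat_lit 328) (nat_lit 1274) .nil)) (nat_lit 1184) (nat_lit 325) (nat_lit 1028) (.node
  (.node .nil (nat_lit 1185) (nat_lit 296) (nat_lit 1286) .nil) (nat_lit 1186) (nat_lit 259) (nat_lit 995)
  .nil)) (nat_lit 1187) (nat_lit 264) (nat_lit 1311) (.node (.node (.node .nil (nat_lit 1188) (nat_lit 296)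
  (nat_lit 1391) .nil) (nat_lit 1189) (nat_lit 296) (nat_lit 1392) (.node .nil (nat_lit 1190) (nat_lit 290)
  (nat_lit 1390) .nil)) (nat_lit 1191) (nat_lit 290) (nat_lit 1391) (.node (.node .nil (nat_lit 1192) (nat_lit
  290) (nat_lit 1392) .nil) (nat_lit 1193) (nat_lit 296) (nat_lit 1314) .nil))) (nat_lit 1194) (nat_lit 328)
  (nat_lit 1398) (.node (.node (.node (.node .nil (nat_lit 1195) (nat_lit 321) (nat_lit 1397) .nil) (nat_lit
  1196) (nat_lit 321) (nat_lit 1398) (.node .nil (nat_lit 1197) (nat_lit 360) (nat_lit 1320) .nil)) (nat_lit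
  1198) (nat_lit 325) (nat_lit 1302) (.node (.node .nil (nat_lit 1199) (nat_lit 353) (nat_lit 1400) .nil)
  (nat_lit 1200) (nat_lit 293) (nat_lit 1045) .nil)) (nat_lit 1201) (nat_lit 325) (nat_lit 1046) (.node (.node
  (.node .nil (nat_lit 1202) (nat_lit 296) (nat_lit 1312) .nil) (nat_lit 1203) (nat_lit 296) (nat_lit 1328)
  .nil) (nat_lit 1204) (nat_lit 264) (nat_lit 1330) (.node (.node .nil (nat_lit 1205) (nat_lit 296) (nat_lit
  1404) .nil) (nat_lit 1206) (nat_lit 293) (nat_lit 1405) .nil))))))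
def t0_11 : T := (.node (.node (.node (.node (.node (.node (.node .nil (nat_lit 1208) (nat_lit 295) (nat_lit
  1410) .nil) (nat_lit 1209) (nat_lit 232) (nat_lit 1409) (.node .nil (nat_lit 1210) (nat_lit 293) (nat_lit
  1052) .nil)) (nat_lit 1211) (nat_lit 195) (nat_lit 334) (.node (.node .nil (nat_lit 1212) (nat_lit 293)
  (nat_lit 1381) .nil) (nat_lit 1213) (nat_lit 232) (nat_lit 1413) .nil)) (nat_lit 1214) (nat_lit 263)
  (nat_lit 1416) (.node (.node (.node .nil (nat_lit 1215) (nat_lit 226) (nat_lit 1059) .nil) (nat_lit 1216)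
  (nat_lit 263) (nat_lit 1418) (.node .nil (nat_lit 1217) (nat_lit 389) (nat_lit 1355) .nil)) (nat_lit 1218)
  (nat_lit 229) (nat_lit 1059) (.node (.node .nil (nat_lit 1219) (nat_lit 357) (nat_lit 1358) .nil) (nat_lit
  1220) (nat_lit 296) (nat_lit 1414) .nil))) (nat_lit 1221) (nat_lit 296) (nat_lit 1329) (.node (.node (.node
  (.node .nil (nat_lit 1222) (nat_lit 387) (nat_lit 1293) .nil) (nat_lit 1223) (nat_lit 264) (nat_lit 1416)
  (.node .nil (nat_lit 1224) (nat_lit 295) (nat_lit 1430) .nil)) (nat_lit 1225) (nat_lit 291) (nat_lit 1376)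
  (.node (.node .nil (nat_lit 1226) (nat_lit 296) (nat_lit 1429) .nil) (nat_lit 1227) (nat_lit 296) (nat_lit
  1430) .nil)) (nat_lit 1228) (nat_lit 296) (nat_lit 1324) (.node (.node (.node .nil (nat_lit 1229) (nat_lit
  387) (nat_lit 386) .nil) (nat_lit 1230) (nat_lit 264) (nat_lit 1418) (.node .nil (nat_lit 1231) (nat_lit
  387) (nat_lit 387) .nil)) (nat_lit 1232) (nat_lit 264) (nat_lit 1332) (.node (.node .nil (nat_lit 1233)
  (nat_lit 392) (nat_lit 1354) .nil) (nat_lit 1234) (nat_lit 392) (nat_lit 1419) .nil)))) (nat_lit 1235)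
  (nat_lit 392) (nat_lit 1357) (.node (.node (.node (.node (.node .nil (nat_lit 1236) (nat_lit 209) (nat_lit
  1074) .nil) (nat_lit 1237) (nat_lit 401) (nat_lit 1444) (.node .nil (nat_lit 1238) (nat_lit 376) (nat_lit
  1448) .nil)) (nat_lit 1239) (nat_lit 210) (nat_lit 1076) (.node (.node .nil (nat_lit 1240) (nat_lit 306)
  (nat_lit 1449) .nil) (nat_lit 1241) (nat_lit 337) (nat_lit 1450) .nil)) (nat_lit 1242) (nat_lit 337)
  (nat_lit 1451) (.node (.node (.node .nil (nat_lit 1243) (nat_lit 372) (nat_lit 1452) .nil) (nat_lit 1244)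
  (nat_lit 372) (nat_lit 1453) (.node .nil (nat_lit 1245) (nat_lit 373) (nat_lit 1452) .nil)) (nat_lit 1246)
  (nat_lit 337) (nat_lit 1458) (.node (.node .nil (nat_lit 1247) (nat_lit 408) (nat_lit 1460) .nil) (nat_lit
  1248) (nat_lit 373) (nat_lit 1464) .nil))) (nat_lit 1249) (nat_lit 372) (nat_lit 1464) (.node (.node (.node
  (.node .nil (nat_lit 1250) (nat_lit 373) (nat_lit 1103) .nil) (nat_lit 1251) (nat_lit 373) (nat_lit 1100)
  (.node .nil (nat_lit 1252) (nat_lit 337) (nat_lit 1468) .nil)) (nat_lit 1253) (nat_lit 376) (nat_lit 1467)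
  (.node (.node .nil (nat_lit 1254) (nat_lit 306) (nat_lit 1470) .nil) (nat_lit 1255) (nat_lit 215) (nat_lit
  1089) .nil)) (nat_lit 1256) (nat_lit 402) (nat_lit 1110) (.node (.node (.node .nil (nat_lit 1257) (nat_lit
  215) (nat_lit 1092) .nil) (nat_lit 1258) (nat_lit 210) (nat_lit 1089) .nil) (nat_lit 1259) (nat_lit 208)
  (nat_lit 1089) (.node (.node .nil (nat_lit 1260) (nat_lit 434) (nat_lit 1476) .nil) (nat_lit 1261) (nat_lit
  408) (nat_lit 1481) .nil))))) (nat_lit 1262) (nat_lit 438) (nat_lit 1090) (.node (.node (.node (.node (.node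
  (.node .nil (nat_lit 1263) (nat_lit 376) (nat_lit 1484) .nil) (nat_lit 1264) (nat_lit 368) (nat_lit 1484)
  (.node .nil (nat_lit 1265) (nat_lit 307) (nat_lit 1208) .nil)) (nat_lit 1266) (nat_lit 344) (nat_lit 1488)
  (.node (.node .nil (nat_lit 1267) (nat_lit 338) (nat_lit 1486) .nil) (nat_lit 1268) (nat_lit 376) (nat_lit
  1491) .nil)) (nat_lit 1269) (nat_lit 337) (nat_lit 1488) (.node (.node (.node .nil (nat_lit 1270) (nat_lit
  344) (nat_lit 1106) .nil) (nat_lit 1271) (nat_lit 408) (nat_lit 1495) (.node .nil (nat_lit 1272) (nat_lit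
  372) (nat_lit 1491) .nil)) (nat_lit 1273) (nat_lit 405) (nat_lit 1490) (.node (.node .nil (nat_lit 1274)
  (nat_lit 306) (nat_lit 1499) .nil) (nat_lit 1275) (nat_lit 408) (nat_lit 1500) .nil))) (nat_lit 1276)
  (nat_lit 373) (nat_lit 1504) (.node (.node (.node (.node .nil (nat_lit 1277) (nat_lit 408) (nat_lit 1505)
  .nil) (nat_lit 1278) (nat_lit 369) (nat_lit 1103) (.node .nil (nat_lit 1279) (nat_lit 408) (nat_lit 1457)
  .nil)) (nat_lit 1280) (nat_lit 336) (nat_lit 1106) (.node (.node .nil (nat_lit 1281) (nat_lit 373) (nat_lit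
  1491) .nil) (nat_lit 1282) (nat_lit 344) (nat_lit 1512) .nil)) (nat_lit 1283) (nat_lit 336) (nat_lit 1512)
  (.node (.node (.node .nil (nat_lit 1284) (nat_lit 306) (nat_lit 1513) .nil) (nat_lit 1285) (nat_lit 376)
  (nat_lit 1493) .nil) (nat_lit 1286) (nat_lit 275) (nat_lit 1140) (.node (.node .nil (nat_lit 1287) (nat_lit
  247) (nat_lit 1442) .nil) (nat_lit 1288) (nat_lit 247) (nat_lit 1443) .nil)))) (nat_lit 1289) (nat_lit 372)
  (nat_lit 1137) (.node (.node (.node (.node (.node .nil (nat_lit 1290) (nat_lit 406) (nat_lit 1110) .nil)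
  (nat_lit 1291) (nat_lit 373) (nat_lit 1521) (.node .nil (nat_lit 1292) (nat_lit 408) (nat_lit 1522) .nil))
  (nat_lit 1293) (nat_lit 370) (nat_lit 1115) (.node (.node .nil (nat_lit 1294) (nat_lit 408) (nat_lit 1524)
  .nil) (nat_lit 1295) (nat_lit 336) (nat_lit 1531) .nil)) (nat_lit 1296) (nat_lit 373) (nat_lit 1532) (.node
  (.node (.node .nil (nat_lit 1297) (nat_lit 373) (nat_lit 1137) .nil) (nat_lit 1298) (nat_lit 373) (nat_lit
  1533) (.node .nil (nat_lit 1299) (nat_lit 408) (nat_lit 1534) .nil)) (nat_lit 1300) (nat_lit 408) (nat_lit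
  1535) (.node (.node .nil (nat_lit 1301) (nat_lit 369) (nat_lit 1493) .nil) (nat_lit 1302) (nat_lit 312)
  (nat_lit 1124) .nil))) (nat_lit 1303) (nat_lit 369) (nat_lit 1122) (.node (.node (.node (.node .nil (nat_lit
  1304) (nat_lit 336) (nat_lit 1195) .nil) (nat_lit 1305) (nat_lit 373) (nat_lit 1139) (.node .nil (nat_lit
  1306) (nat_lit 336) (nat_lit 1125) .nil)) (nat_lit 1307) (nat_lit 344) (nat_lit 1125) (.node (.node .nil
  (nat_lit 1308) (nat_lit 275) (nat_lit 1214) .nil) (nat_lit 1309) (nat_lit 306) (nat_lit 1542) .nil))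
  (nat_lit 1310) (nat_lit 306) (nat_lit 1543) (.node (.node (.node .nil (nat_lit 1311) (nat_lit 243) (nat_lit
  1111) .nil) (nat_lit 1312) (nat_lit 275) (nat_lit 1663) .nil) (nat_lit 1313) (nat_lit 274) (nat_lit 1547)
  (.node (.node .nil (nat_lit 1314) (nat_lit 274) (nat_lit 1548) .nil) (nat_lit 1315) (nat_lit 279) (nat_lit
  1553) .nil))))))
def t0_12 : T := (.node (.node (.node (.node (.node (.node (.node .nil (nat_lit 1317) (nat_lit 306) (nat_lit
  1552) .nil) (nat_lit 1318) (nat_lit 241) (nat_lit 1132) (.node .nil (nat_lit 1319) (nat_lit 337) (nat_lit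
  1557) .nil)) (nat_lit 1320) (nat_lit 340) (nat_lit 1196) (.node (.node .nil (nat_lit 1321) (nat_lit 279)
  (nat_lit 1561) .nil) (nat_lit 1322) (nat_lit 368) (nat_lit 1560) .nil)) (nat_lit 1323) (nat_lit 242)
  (nat_lit 1138) (.node (.node (.node .nil (nat_lit 1324) (nat_lit 279) (nat_lit 1564) .nil) (nat_lit 1325)
  (nat_lit 337) (nat_lit 1555) (.node .nil (nat_lit 1326) (nat_lit 240) (nat_lit 1138) .nil)) (nat_lit 1327)
  (nat_lit 368) (nat_lit 1566) (.node (.node .nil (nat_lit 1328) (nat_lit 279) (nat_lit 1568) .nil) (nat_lit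
  1329) (nat_lit 279) (nat_lit 1570) .nil))) (nat_lit 1330) (nat_lit 242) (nat_lit 1143) (.node (.node (.node
  (.node .nil (nat_lit 1331) (nat_lit 405) (nat_lit 1549) .nil) (nat_lit 1332) (nat_lit 245) (nat_lit 1143)
  (.node .nil (nat_lit 1333) (nat_lit 247) (nat_lit 1576) .nil)) (nat_lit 1334) (nat_lit 402) (nat_lit 1148)
  (.node (.node .nil (nat_lit 1335) (nat_lit 243) (nat_lit 534) .nil) (nat_lit 1336) (nat_lit 405) (nat_lit
  1145) .nil)) (nat_lit 1337) (nat_lit 402) (nat_lit 1151) (.node (.node (.node .nil (nat_lit 1338) (nat_lit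
  279) (nat_lit 1585) .nil) (nat_lit 1339) (nat_lit 311) (nat_lit 1588) (.node .nil (nat_lit 1340) (nat_lit
  372) (nat_lit 1154) .nil)) (nat_lit 1341) (nat_lit 273) (nat_lit 1149) (.node (.node .nil (nat_lit 1342)
  (nat_lit 405) (nat_lit 1148) .nil) (nat_lit 1343) (nat_lit 406) (nat_lit 1148) .nil)))) (nat_lit 1344)
  (nat_lit 401) (nat_lit 1591) (.node (.node (.node (.node (.node .nil (nat_lit 1345) (nat_lit 400) (nat_lit
  1150) .nil) (nat_lit 1346) (nat_lit 408) (nat_lit 1150) (.node .nil (nat_lit 1347) (nat_lit 405) (nat_lit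
  1151) .nil)) (nat_lit 1348) (nat_lit 311) (nat_lit 1600) (.node (.node .nil (nat_lit 1349) (nat_lit 368)
  (nat_lit 1599) .nil) (nat_lit 1350) (nat_lit 274) (nat_lit 1155) .nil)) (nat_lit 1351) (nat_lit 311)
  (nat_lit 1606) (.node (.node (.node .nil (nat_lit 1352) (nat_lit 337) (nat_lit 1165) .nil) (nat_lit 1353)
  (nat_lit 272) (nat_lit 1155) (.node .nil (nat_lit 1354) (nat_lit 373) (nat_lit 1154) .nil)) (nat_lit 1355)
  (nat_lit 368) (nat_lit 1608) (.node (.node .nil (nat_lit 1356) (nat_lit 368) (nat_lit 1609) .nil) (nat_lit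
  1357) (nat_lit 373) (nat_lit 1158) .nil))) (nat_lit 1358) (nat_lit 336) (nat_lit 1169) (.node (.node (.node
  (.node .nil (nat_lit 1359) (nat_lit 408) (nat_lit 1160) .nil) (nat_lit 1360) (nat_lit 311) (nat_lit 1616)
  (.node .nil (nat_lit 1361) (nat_lit 311) (nat_lit 1619) .nil)) (nat_lit 1362) (nat_lit 307) (nat_lit 1551)
  (.node (.node .nil (nat_lit 1363) (nat_lit 274) (nat_lit 1166) .nil) (nat_lit 1364) (nat_lit 307) (nat_lit
  1152) .nil)) (nat_lit 1365) (nat_lit 307) (nat_lit 2433) (.node (.node (.node .nil (nat_lit 1366) (nat_lit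
  312) (nat_lit 1164) .nil) (nat_lit 1367) (nat_lit 435) (nat_lit 449) .nil) (nat_lit 1368) (nat_lit 277)
  (nat_lit 1166) (.node (.node .nil (nat_lit 1369) (nat_lit 338) (nat_lit 1620) .nil) (nat_lit 1370) (nat_lit
  338) (nat_lit 1621) .nil))))) (nat_lit 1371) (nat_lit 338) (nat_lit 1622) (.node (.node (.node (.node (.node
  (.node .nil (nat_lit 1372) (nat_lit 306) (nat_lit 1623) .nil) (nat_lit 1373) (nat_lit 306) (nat_lit 1624)
  (.node .nil (nat_lit 1374) (nat_lit 311) (nat_lit 1640) .nil)) (nat_lit 1375) (nat_lit 311) (nat_lit 1641)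
  (.node (.node .nil (nat_lit 1376) (nat_lit 273) (nat_lit 1172) .nil) (nat_lit 1377) (nat_lit 312) (nat_lit
  1171) .nil)) (nat_lit 1378) (nat_lit 435) (nat_lit 2113) (.node (.node (.node .nil (nat_lit 1379) (nat_lit
  277) (nat_lit 1172) .nil) (nat_lit 1380) (nat_lit 472) (nat_lit 1174) (.node .nil (nat_lit 1381) (nat_lit
  280) (nat_lit 1175) .nil)) (nat_lit 1382) (nat_lit 470) (nat_lit 1174) (.node (.node .nil (nat_lit 1383)
  (nat_lit 471) (nat_lit 1174) .nil) (nat_lit 1384) (nat_lit 312) (nat_lit 1449) .nil))) (nat_lit 1385)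
  (nat_lit 344) (nat_lit 1458) (.node (.node (.node (.node .nil (nat_lit 1386) (nat_lit 344) (nat_lit 1451)
  .nil) (nat_lit 1387) (nat_lit 312) (nat_lit 1470) (.node .nil (nat_lit 1388) (nat_lit 312) (nat_lit 1499)
  .nil)) (nat_lit 1389) (nat_lit 309) (nat_lit 1185) (.node (.node .nil (nat_lit 1390) (nat_lit 275) (nat_lit
  1135) .nil) (nat_lit 1391) (nat_lit 275) (nat_lit 904) .nil)) (nat_lit 1392) (nat_lit 275) (nat_lit 1659)
  (.node (.node (.node .nil (nat_lit 1393) (nat_lit 248) (nat_lit 1546) .nil) (nat_lit 1394) (nat_lit 280)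
  (nat_lit 1548) (.node .nil (nat_lit 1395) (nat_lit 312) (nat_lit 1655) .nil)) (nat_lit 1396) (nat_lit 306)
  (nat_lit 1653) (.node (.node .nil (nat_lit 1397) (nat_lit 306) (nat_lit 1654) .nil) (nat_lit 1398) (nat_lit
  306) (nat_lit 1655) .nil)))) (nat_lit 1399) (nat_lit 309) (nat_lit 1529) (.node (.node (.node (.node (.node
  .nil (nat_lit 1400) (nat_lit 338) (nat_lit 1658) .nil) (nat_lit 1401) (nat_lit 309) (nat_lit 1202) (.node
  .nil (nat_lit 1402) (nat_lit 280) (nat_lit 1568) .nil)) (nat_lit 1403) (nat_lit 280) (nat_lit 1659) (.node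
  (.node .nil (nat_lit 1404) (nat_lit 279) (nat_lit 1665) .nil) (nat_lit 1405) (nat_lit 280) (nat_lit 1663)
  .nil)) (nat_lit 1406) (nat_lit 248) (nat_lit 1664) (.node (.node (.node .nil (nat_lit 1407) (nat_lit 280)
  (nat_lit 1665) .nil) (nat_lit 1408) (nat_lit 277) (nat_lit 1661) (.node .nil (nat_lit 1409) (nat_lit 211)
  (nat_lit 1092) .nil)) (nat_lit 1410) (nat_lit 275) (nat_lit 1568) (.node (.node .nil (nat_lit 1411) (nat_lit
  248) (nat_lit 1667) .nil) (nat_lit 1412) (nat_lit 211) (nat_lit 394) .nil))) (nat_lit 1413) (nat_lit 215)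
  (nat_lit 1211) (.node (.node (.node (.node .nil (nat_lit 1414) (nat_lit 279) (nat_lit 1670) .nil) (nat_lit
  1415) (nat_lit 405) (nat_lit 1602) (.node .nil (nat_lit 1416) (nat_lit 245) (nat_lit 1215) .nil)) (nat_lit
  1417) (nat_lit 405) (nat_lit 1672) (.node (.node .nil (nat_lit 1418) (nat_lit 245) (nat_lit 1443) .nil)
  (nat_lit 1419) (nat_lit 373) (nat_lit 1612) .nil)) (nat_lit 1420) (nat_lit 312) (nat_lit 1668) (.node (.node
  (.node .nil (nat_lit 1421) (nat_lit 312) (nat_lit 1559) .nil) (nat_lit 1422) (nat_lit 403) (nat_lit 1502)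
  .nil) (nat_lit 1423) (nat_lit 280) (nat_lit 1670) (.node (.node .nil (nat_lit 1424) (nat_lit 311) (nat_lit
  1685) .nil) (nat_lit 1425) (nat_lit 403) (nat_lit 1528) .nil))))))
def t0_13 : T := (.node (.node (.node (.node (.node (.node (.node .nil (nat_lit 1427) (nat_lit 408) (nat_lit
  1601) .nil) (nat_lit 1428) (nat_lit 408) (nat_lit 1671) (.node .nil (nat_lit 1429) (nat_lit 279) (nat_lit
  1691) .nil)) (nat_lit 1430) (nat_lit 275) (nat_lit 1172) (.node (.node .nil (nat_lit 1431) (nat_lit 280)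
  (nat_lit 1691) .nil) (nat_lit 1432) (nat_lit 312) (nat_lit 1554) .nil)) (nat_lit 1433) (nat_lit 403)
  (nat_lit 457) (.node (.node (.node .nil (nat_lit 1434) (nat_lit 280) (nat_lit 1564) .nil) (nat_lit 1435)
  (nat_lit 405) (nat_lit 1229) (.node .nil (nat_lit 1436) (nat_lit 408) (nat_lit 1610) .nil)) (nat_lit 1437)
  (nat_lit 407) (nat_lit 1229) (.node (.node .nil (nat_lit 1438) (nat_lit 406) (nat_lit 1231) .nil) (nat_lit
  1439) (nat_lit 408) (nat_lit 1572) .nil))) (nat_lit 1440) (nat_lit 408) (nat_lit 1589) (.node (.node (.node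
  (.node .nil (nat_lit 1441) (nat_lit 408) (nat_lit 1611) .nil) (nat_lit 1442) (nat_lit 226) (nat_lit 1236)
  (.node .nil (nat_lit 1443) (nat_lit 224) (nat_lit 1236) .nil)) (nat_lit 1444) (nat_lit 388) (nat_lit 1327)
  (.node (.node .nil (nat_lit 1445) (nat_lit 392) (nat_lit 1712) .nil) (nat_lit 1446) (nat_lit 422) (nat_lit
  1237) .nil)) (nat_lit 1447) (nat_lit 360) (nat_lit 1715) (.node (.node (.node .nil (nat_lit 1448) (nat_lit
  352) (nat_lit 1715) .nil) (nat_lit 1449) (nat_lit 291) (nat_lit 1404) (.node .nil (nat_lit 1450) (nat_lit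
  322) (nat_lit 1716) .nil)) (nat_lit 1451) (nat_lit 322) (nat_lit 1717) (.node (.node .nil (nat_lit 1452)
  (nat_lit 352) (nat_lit 1241) .nil) (nat_lit 1453) (nat_lit 353) (nat_lit 1719) .nil)))) (nat_lit 1454)
  (nat_lit 353) (nat_lit 1720) (.node (.node (.node (.node (.node .nil (nat_lit 1455) (nat_lit 385) (nat_lit
  1243) .nil) (nat_lit 1456) (nat_lit 388) (nat_lit 1722) (.node .nil (nat_lit 1457) (nat_lit 389) (nat_lit
  1721) .nil)) (nat_lit 1458) (nat_lit 322) (nat_lit 1730) (.node (.node .nil (nat_lit 1459) (nat_lit 424)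
  (nat_lit 1731) .nil) (nat_lit 1460) (nat_lit 389) (nat_lit 1735) .nil)) (nat_lit 1461) (nat_lit 421)
  (nat_lit 1727) (.node (.node (.node .nil (nat_lit 1462) (nat_lit 385) (nat_lit 1249) .nil) (nat_lit 1463)
  (nat_lit 389) (nat_lit 1278) (.node .nil (nat_lit 1464) (nat_lit 352) (nat_lit 1252) .nil)) (nat_lit 1465)
  (nat_lit 389) (nat_lit 1722) (.node (.node .nil (nat_lit 1466) (nat_lit 360) (nat_lit 1743) .nil) (nat_lit
  1467) (nat_lit 352) (nat_lit 1743) .nil))) (nat_lit 1468) (nat_lit 322) (nat_lit 1744) (.node (.node (.node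
  (.node .nil (nat_lit 1469) (nat_lit 392) (nat_lit 1724) .nil) (nat_lit 1470) (nat_lit 291) (nat_lit 1328)
  (.node .nil (nat_lit 1471) (nat_lit 231) (nat_lit 1258) .nil)) (nat_lit 1472) (nat_lit 231) (nat_lit 1259)
  (.node (.node .nil (nat_lit 1473) (nat_lit 418) (nat_lit 1749) .nil) (nat_lit 1474) (nat_lit 422) (nat_lit
  1256) .nil)) (nat_lit 1475) (nat_lit 226) (nat_lit 1259) (.node (.node (.node .nil (nat_lit 1476) (nat_lit
  417) (nat_lit 1707) .nil) (nat_lit 1477) (nat_lit 450) (nat_lit 1753) .nil) (nat_lit 1478) (nat_lit 424)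
  (nat_lit 1759) (.node (.node .nil (nat_lit 1479) (nat_lit 454) (nat_lit 1260) .nil) (nat_lit 1480) (nat_lit
  392) (nat_lit 1763) .nil))))) (nat_lit 1481) (nat_lit 388) (nat_lit 1264) (.node (.node (.node (.node (.node
  (.node .nil (nat_lit 1482) (nat_lit 424) (nat_lit 1765) .nil) (nat_lit 1483) (nat_lit 360) (nat_lit 1768)
  (.node .nil (nat_lit 1484) (nat_lit 353) (nat_lit 1768) .nil)) (nat_lit 1485) (nat_lit 328) (nat_lit 1772)
  (.node (.node .nil (nat_lit 1486) (nat_lit 323) (nat_lit 1063) .nil) (nat_lit 1487) (nat_lit 360) (nat_lit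
  1775) .nil)) (nat_lit 1488) (nat_lit 322) (nat_lit 1772) (.node (.node (.node .nil (nat_lit 1489) (nat_lit
  328) (nat_lit 1284) .nil) (nat_lit 1490) (nat_lit 392) (nat_lit 1778) (.node .nil (nat_lit 1491) (nat_lit
  352) (nat_lit 1269) .nil)) (nat_lit 1492) (nat_lit 360) (nat_lit 1280) (.node (.node .nil (nat_lit 1493)
  (nat_lit 356) (nat_lit 1283) .nil) (nat_lit 1494) (nat_lit 424) (nat_lit 1782) .nil))) (nat_lit 1495)
  (nat_lit 385) (nat_lit 1272) (.node (.node (.node (.node .nil (nat_lit 1496) (nat_lit 424) (nat_lit 1784)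
  .nil) (nat_lit 1497) (nat_lit 421) (nat_lit 1777) (.node .nil (nat_lit 1498) (nat_lit 421) (nat_lit 1779)
  .nil)) (nat_lit 1499) (nat_lit 291) (nat_lit 1014) (.node (.node .nil (nat_lit 1500) (nat_lit 389) (nat_lit
  1788) .nil) (nat_lit 1501) (nat_lit 424) (nat_lit 1789) .nil)) (nat_lit 1502) (nat_lit 386) (nat_lit 1278)
  (.node (.node (.node .nil (nat_lit 1503) (nat_lit 424) (nat_lit 1728) .nil) (nat_lit 1504) (nat_lit 352)
  (nat_lit 1796) (.node .nil (nat_lit 1505) (nat_lit 389) (nat_lit 1797) .nil)) (nat_lit 1506) (nat_lit 389)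
  (nat_lit 1778) (.node (.node .nil (nat_lit 1507) (nat_lit 420) (nat_lit 1801) .nil) (nat_lit 1508) (nat_lit
  424) (nat_lit 1729) .nil)))) (nat_lit 1509) (nat_lit 385) (nat_lit 1797) (.node (.node (.node (.node (.node
  .nil (nat_lit 1510) (nat_lit 328) (nat_lit 1309) .nil) (nat_lit 1511) (nat_lit 360) (nat_lit 1781) (.node
  .nil (nat_lit 1512) (nat_lit 321) (nat_lit 1309) .nil)) (nat_lit 1513) (nat_lit 291) (nat_lit 1329) (.node
  (.node .nil (nat_lit 1514) (nat_lit 322) (nat_lit 1806) .nil) (nat_lit 1515) (nat_lit 389) (nat_lit 1289)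
  .nil)) (nat_lit 1516) (nat_lit 392) (nat_lit 1766) (.node (.node (.node .nil (nat_lit 1517) (nat_lit 263)
  (nat_lit 1706) .nil) (nat_lit 1518) (nat_lit 388) (nat_lit 1322) (.node .nil (nat_lit 1519) (nat_lit 356)
  (nat_lit 1325) .nil)) (nat_lit 1520) (nat_lit 390) (nat_lit 1289) (.node (.node .nil (nat_lit 1521) (nat_lit
  352) (nat_lit 1815) .nil) (nat_lit 1522) (nat_lit 389) (nat_lit 1816) .nil))) (nat_lit 1523) (nat_lit 389)
  (nat_lit 1322) (.node (.node (.node (.node .nil (nat_lit 1524) (nat_lit 389) (nat_lit 1817) .nil) (nat_lit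
  1525) (nat_lit 424) (nat_lit 1818) (.node .nil (nat_lit 1526) (nat_lit 424) (nat_lit 1819) .nil)) (nat_lit
  1527) (nat_lit 424) (nat_lit 1820) (.node (.node .nil (nat_lit 1528) (nat_lit 386) (nat_lit 1301) .nil)
  (nat_lit 1529) (nat_lit 296) (nat_lit 1308) .nil)) (nat_lit 1530) (nat_lit 386) (nat_lit 1303) (.node (.node
  (.node .nil (nat_lit 1531) (nat_lit 321) (nat_lit 1396) .nil) (nat_lit 1532) (nat_lit 356) (nat_lit 1295)
  .nil) (nat_lit 1533) (nat_lit 352) (nat_lit 1832) (.node (.node .nil (nat_lit 1534) (nat_lit 390) (nat_lit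
  1296) .nil) (nat_lit 1535) (nat_lit 389) (nat_lit 1833) .nil))))))
def t0_14 : T := (.node (.node (.node (.node (.node (.node (.node .nil (nat_lit 1537) (nat_lit 390) (nat_lit
  1301) .nil) (nat_lit 1538) (nat_lit 456) (nat_lit 1834) (.node .nil (nat_lit 1539) (nat_lit 424) (nat_lit
  1835) .nil)) (nat_lit 1540) (nat_lit 385) (nat_lit 1712) (.node (.node .nil (nat_lit 1541) (nat_lit 328)
  (nat_lit 1310) .nil) (nat_lit 1542) (nat_lit 291) (nat_lit 1414) .nil)) (nat_lit 1543) (nat_lit 291)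
  (nat_lit 1971) (.node (.node (.node .nil (nat_lit 1544) (nat_lit 290) (nat_lit 1839) .nil) (nat_lit 1545)
  (nat_lit 322) (nat_lit 1840) (.node .nil (nat_lit 1546) (nat_lit 227) (nat_lit 1257) .nil)) (nat_lit 1547)
  (nat_lit 259) (nat_lit 1287) (.node (.node .nil (nat_lit 1548) (nat_lit 259) (nat_lit 1990) .nil) (nat_lit
  1549) (nat_lit 388) (nat_lit 1355) .nil))) (nat_lit 1550) (nat_lit 290) (nat_lit 1846) (.node (.node (.node
  (.node .nil (nat_lit 1551) (nat_lit 295) (nat_lit 1852) .nil) (nat_lit 1552) (nat_lit 291) (nat_lit 1008)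
  (.node .nil (nat_lit 1553) (nat_lit 258) (nat_lit 1318) .nil)) (nat_lit 1554) (nat_lit 295) (nat_lit 1855)
  (.node (.node .nil (nat_lit 1555) (nat_lit 322) (nat_lit 1851) .nil) (nat_lit 1556) (nat_lit 256) (nat_lit
  1318) .nil)) (nat_lit 1557) (nat_lit 322) (nat_lit 1853) (.node (.node (.node .nil (nat_lit 1558) (nat_lit
  295) (nat_lit 1860) .nil) (nat_lit 1559) (nat_lit 295) (nat_lit 1862) (.node .nil (nat_lit 1560) (nat_lit
  353) (nat_lit 1859) .nil)) (nat_lit 1561) (nat_lit 258) (nat_lit 1326) (.node (.node .nil (nat_lit 1562)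
  (nat_lit 384) (nat_lit 1864) .nil) (nat_lit 1563) (nat_lit 421) (nat_lit 1865) .nil)))) (nat_lit 1564)
  (nat_lit 261) (nat_lit 1326) (.node (.node (.node (.node (.node .nil (nat_lit 1565) (nat_lit 353) (nat_lit
  1775) .nil) (nat_lit 1566) (nat_lit 353) (nat_lit 1856) (.node .nil (nat_lit 1567) (nat_lit 295) (nat_lit
  1871) .nil)) (nat_lit 1568) (nat_lit 257) (nat_lit 1330) (.node (.node .nil (nat_lit 1569) (nat_lit 421)
  (nat_lit 1845) .nil) (nat_lit 1570) (nat_lit 261) (nat_lit 1330) .nil)) (nat_lit 1571) (nat_lit 422)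
  (nat_lit 1331) (.node (.node (.node .nil (nat_lit 1572) (nat_lit 389) (nat_lit 1848) .nil) (nat_lit 1573)
  (nat_lit 263) (nat_lit 1878) (.node .nil (nat_lit 1574) (nat_lit 231) (nat_lit 1412) .nil)) (nat_lit 1575)
  (nat_lit 418) (nat_lit 1877) (.node (.node .nil (nat_lit 1576) (nat_lit 227) (nat_lit 460) .nil) (nat_lit
  1577) (nat_lit 421) (nat_lit 1334) .nil))) (nat_lit 1578) (nat_lit 422) (nat_lit 1334) (.node (.node (.node
  (.node .nil (nat_lit 1579) (nat_lit 418) (nat_lit 1344) .nil) (nat_lit 1580) (nat_lit 424) (nat_lit 1347)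
  (.node .nil (nat_lit 1581) (nat_lit 416) (nat_lit 1347) .nil)) (nat_lit 1582) (nat_lit 421) (nat_lit 1337)
  (.node (.node .nil (nat_lit 1583) (nat_lit 295) (nat_lit 1891) .nil) (nat_lit 1584) (nat_lit 388) (nat_lit
  1349) .nil)) (nat_lit 1585) (nat_lit 259) (nat_lit 1752) (.node (.node (.node .nil (nat_lit 1586) (nat_lit
  327) (nat_lit 1897) .nil) (nat_lit 1587) (nat_lit 356) (nat_lit 1352) .nil) (nat_lit 1588) (nat_lit 288)
  (nat_lit 1341) (.node (.node .nil (nat_lit 1589) (nat_lit 389) (nat_lit 1340) .nil) (nat_lit 1590) (nat_lit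
  390) (nat_lit 1340) .nil))))) (nat_lit 1591) (nat_lit 388) (nat_lit 1356) (.node (.node (.node (.node (.node
  (.node .nil (nat_lit 1592) (nat_lit 416) (nat_lit 1342) .nil) (nat_lit 1593) (nat_lit 424) (nat_lit 1342)
  (.node .nil (nat_lit 1594) (nat_lit 422) (nat_lit 1342) .nil)) (nat_lit 1595) (nat_lit 421) (nat_lit 1344)
  (.node (.node .nil (nat_lit 1596) (nat_lit 422) (nat_lit 1344) .nil) (nat_lit 1597) (nat_lit 327) (nat_lit
  1912) .nil)) (nat_lit 1598) (nat_lit 327) (nat_lit 1915) (.node (.node (.node .nil (nat_lit 1599) (nat_lit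
  353) (nat_lit 1911) .nil) (nat_lit 1600) (nat_lit 290) (nat_lit 1353) (.node .nil (nat_lit 1601) (nat_lit
  389) (nat_lit 1349) .nil)) (nat_lit 1602) (nat_lit 384) (nat_lit 1917) (.node (.node .nil (nat_lit 1603)
  (nat_lit 384) (nat_lit 1918) .nil) (nat_lit 1604) (nat_lit 328) (nat_lit 1351) .nil))) (nat_lit 1605)
  (nat_lit 419) (nat_lit 519) (.node (.node (.node (.node .nil (nat_lit 1606) (nat_lit 293) (nat_lit 1353)
  .nil) (nat_lit 1607) (nat_lit 353) (nat_lit 1369) (.node .nil (nat_lit 1608) (nat_lit 353) (nat_lit 1370)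
  .nil)) (nat_lit 1609) (nat_lit 353) (nat_lit 1371) (.node (.node .nil (nat_lit 1610) (nat_lit 389) (nat_lit
  1927) .nil) (nat_lit 1611) (nat_lit 389) (nat_lit 1356) .nil)) (nat_lit 1612) (nat_lit 352) (nat_lit 1931)
  (.node (.node (.node .nil (nat_lit 1613) (nat_lit 327) (nat_lit 1937) .nil) (nat_lit 1614) (nat_lit 327)
  (nat_lit 1940) (.node .nil (nat_lit 1615) (nat_lit 323) (nat_lit 1849) .nil)) (nat_lit 1616) (nat_lit 289)
  (nat_lit 1363) (.node (.node .nil (nat_lit 1617) (nat_lit 328) (nat_lit 1361) .nil) (nat_lit 1618) (nat_lit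
  451) (nat_lit 2525) .nil)))) (nat_lit 1619) (nat_lit 293) (nat_lit 1363) (.node (.node (.node (.node (.node
  .nil (nat_lit 1620) (nat_lit 323) (nat_lit 1850) .nil) (nat_lit 1621) (nat_lit 323) (nat_lit 1348) (.node
  .nil (nat_lit 1622) (nat_lit 323) (nat_lit 2593) .nil)) (nat_lit 1623) (nat_lit 291) (nat_lit 1338) (.node
  (.node .nil (nat_lit 1624) (nat_lit 291) (nat_lit 2509) .nil) (nat_lit 1625) (nat_lit 456) (nat_lit 1367)
  .nil)) (nat_lit 1626) (nat_lit 296) (nat_lit 1368) (.node (.node (.node .nil (nat_lit 1627) (nat_lit 424)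
  (nat_lit 1959) .nil) (nat_lit 1628) (nat_lit 454) (nat_lit 1367) (.node .nil (nat_lit 1629) (nat_lit 455)
  (nat_lit 1367) .nil)) (nat_lit 1630) (nat_lit 360) (nat_lit 1369) (.node (.node .nil (nat_lit 1631) (nat_lit
  354) (nat_lit 1950) .nil) (nat_lit 1632) (nat_lit 354) (nat_lit 1951) .nil))) (nat_lit 1633) (nat_lit 322)
  (nat_lit 1952) (.node (.node (.node (.node .nil (nat_lit 1634) (nat_lit 322) (nat_lit 1953) .nil) (nat_lit
  1635) (nat_lit 290) (nat_lit 1955) (.node .nil (nat_lit 1636) (nat_lit 327) (nat_lit 1970) .nil)) (nat_lit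
  1637) (nat_lit 295) (nat_lit 1973) (.node (.node .nil (nat_lit 1638) (nat_lit 296) (nat_lit 1971) .nil)
  (nat_lit 1639) (nat_lit 419) (nat_lit 1829) .nil)) (nat_lit 1640) (nat_lit 293) (nat_lit 1376) (.node (.node
  (.node .nil (nat_lit 1641) (nat_lit 292) (nat_lit 1376) .nil) (nat_lit 1642) (nat_lit 453) (nat_lit 1978)
  .nil) (nat_lit 1643) (nat_lit 296) (nat_lit 1379) (.node (.node .nil (nat_lit 1644) (nat_lit 454) (nat_lit
  1378) .nil) (nat_lit 1645) (nat_lit 456) (nat_lit 1980) .nil))))))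
def t0_15 : T := (.node (.node (.node (.node (.node (.node (.node .nil (nat_lit 1647) (nat_lit 488) (nat_lit
  1382) .nil) (nat_lit 1648) (nat_lit 453) (nat_lit 1879) (.node .nil (nat_lit 1649) (nat_lit 484) (nat_lit
  1382) .nil)) (nat_lit 1650) (nat_lit 487) (nat_lit 1382) (.node (.node .nil (nat_lit 1651) (nat_lit 328)
  (nat_lit 1730) .nil) (nat_lit 1652) (nat_lit 328) (nat_lit 1717) .nil)) (nat_lit 1653) (nat_lit 291)
  (nat_lit 1321) (.node (.node (.node .nil (nat_lit 1654) (nat_lit 291) (nat_lit 1989) .nil) (nat_lit 1655)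
  (nat_lit 291) (nat_lit 1429) (.node .nil (nat_lit 1656) (nat_lit 264) (nat_lit 1844) .nil)) (nat_lit 1657)
  (nat_lit 322) (nat_lit 1988) (.node (.node .nil (nat_lit 1658) (nat_lit 323) (nat_lit 1375) .nil) (nat_lit
  1659) (nat_lit 263) (nat_lit 1992) .nil))) (nat_lit 1660) (nat_lit 264) (nat_lit 1990) (.node (.node (.node
  (.node .nil (nat_lit 1661) (nat_lit 264) (nat_lit 1991) .nil) (nat_lit 1662) (nat_lit 264) (nat_lit 1992)
  (.node .nil (nat_lit 1663) (nat_lit 263) (nat_lit 1991) .nil)) (nat_lit 1664) (nat_lit 227) (nat_lit 1239)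
  (.node (.node .nil (nat_lit 1665) (nat_lit 259) (nat_lit 1330) .nil) (nat_lit 1666) (nat_lit 227) (nat_lit
  1258) .nil)) (nat_lit 1667) (nat_lit 231) (nat_lit 1409) (.node (.node (.node .nil (nat_lit 1668) (nat_lit
  295) (nat_lit 1996) .nil) (nat_lit 1669) (nat_lit 421) (nat_lit 1997) (.node .nil (nat_lit 1670) (nat_lit
  261) (nat_lit 1706) .nil)) (nat_lit 1671) (nat_lit 389) (nat_lit 1921) (.node (.node .nil (nat_lit 1672)
  (nat_lit 384) (nat_lit 1929) .nil) (nat_lit 1673) (nat_lit 389) (nat_lit 2000) .nil)))) (nat_lit 1674)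
  (nat_lit 328) (nat_lit 1994) (.node (.node (.node (.node (.node .nil (nat_lit 1675) (nat_lit 419) (nat_lit
  1733) .nil) (nat_lit 1676) (nat_lit 296) (nat_lit 1996) (.node .nil (nat_lit 1677) (nat_lit 328) (nat_lit
  1857) .nil)) (nat_lit 1678) (nat_lit 419) (nat_lit 1794) (.node (.node .nil (nat_lit 1679) (nat_lit 296)
  (nat_lit 1862) .nil) (nat_lit 1680) (nat_lit 421) (nat_lit 1422) .nil)) (nat_lit 1681) (nat_lit 424)
  (nat_lit 1919) (.node (.node (.node .nil (nat_lit 1682) (nat_lit 424) (nat_lit 1998) .nil) (nat_lit 1683)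
  (nat_lit 327) (nat_lit 2022) (.node .nil (nat_lit 1684) (nat_lit 419) (nat_lit 1828) .nil)) (nat_lit 1685)
  (nat_lit 293) (nat_lit 1430) (.node (.node .nil (nat_lit 1686) (nat_lit 422) (nat_lit 1425) .nil) (nat_lit
  1687) (nat_lit 424) (nat_lit 1873) .nil))) (nat_lit 1688) (nat_lit 424) (nat_lit 1892) (.node (.node (.node
  (.node .nil (nat_lit 1689) (nat_lit 424) (nat_lit 1920) .nil) (nat_lit 1690) (nat_lit 295) (nat_lit 2030)
  (.node .nil (nat_lit 1691) (nat_lit 259) (nat_lit 1015) .nil)) (nat_lit 1692) (nat_lit 328) (nat_lit 1850)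
  (.node (.node .nil (nat_lit 1693) (nat_lit 419) (nat_lit 531) .nil) (nat_lit 1694) (nat_lit 296) (nat_lit
  1855) .nil)) (nat_lit 1695) (nat_lit 421) (nat_lit 1433) (.node (.node (.node .nil (nat_lit 1696) (nat_lit
  422) (nat_lit 1433) .nil) (nat_lit 1697) (nat_lit 423) (nat_lit 1433) .nil) (nat_lit 1698) (nat_lit 421)
  (nat_lit 1999) (.node (.node .nil (nat_lit 1699) (nat_lit 424) (nat_lit 1896) .nil) (nat_lit 1700) (nat_lit
  423) (nat_lit 1435) .nil))))) (nat_lit 1701) (nat_lit 424) (nat_lit 1901) (.node (.node (.node (.node (.node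
  (.node .nil (nat_lit 1702) (nat_lit 424) (nat_lit 1932) .nil) (nat_lit 1703) (nat_lit 424) (nat_lit 1874)
  (.node .nil (nat_lit 1704) (nat_lit 424) (nat_lit 1875) .nil)) (nat_lit 1705) (nat_lit 424) (nat_lit 1902)
  (.node (.node .nil (nat_lit 1706) (nat_lit 242) (nat_lit 1443) .nil) (nat_lit 1707) (nat_lit 404) (nat_lit
  1562) .nil)) (nat_lit 1708) (nat_lit 372) (nat_lit 1566) (.node (.node (.node .nil (nat_lit 1709) (nat_lit
  405) (nat_lit 1444) .nil) (nat_lit 1710) (nat_lit 406) (nat_lit 1444) (.node .nil (nat_lit 1711) (nat_lit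
  376) (nat_lit 2055) .nil)) (nat_lit 1712) (nat_lit 372) (nat_lit 1448) (.node (.node .nil (nat_lit 1713)
  (nat_lit 408) (nat_lit 2057) .nil) (nat_lit 1714) (nat_lit 344) (nat_lit 1545) .nil))) (nat_lit 1715)
  (nat_lit 337) (nat_lit 1545) (.node (.node (.node (.node .nil (nat_lit 1716) (nat_lit 307) (nat_lit 1637)
  .nil) (nat_lit 1717) (nat_lit 307) (nat_lit 1224) (.node .nil (nat_lit 1718) (nat_lit 338) (nat_lit 2062)
  .nil)) (nat_lit 1719) (nat_lit 338) (nat_lit 2063) (.node (.node .nil (nat_lit 1720) (nat_lit 338) (nat_lit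
  2064) .nil) (nat_lit 1721) (nat_lit 368) (nat_lit 2065) .nil)) (nat_lit 1722) (nat_lit 368) (nat_lit 1453)
  (.node (.node (.node .nil (nat_lit 1723) (nat_lit 368) (nat_lit 1454) .nil) (nat_lit 1724) (nat_lit 372)
  (nat_lit 1467) .nil) (nat_lit 1725) (nat_lit 402) (nat_lit 1455) (.node (.node .nil (nat_lit 1726) (nat_lit
  405) (nat_lit 2071) .nil) (nat_lit 1727) (nat_lit 401) (nat_lit 2070) .nil)))) (nat_lit 1728) (nat_lit 405)
  (nat_lit 2068) (.node (.node (.node (.node (.node .nil (nat_lit 1729) (nat_lit 405) (nat_lit 2070) .nil)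
  (nat_lit 1730) (nat_lit 307) (nat_lit 1170) (.node .nil (nat_lit 1731) (nat_lit 405) (nat_lit 2078) .nil))
  (nat_lit 1732) (nat_lit 440) (nat_lit 2079) (.node (.node .nil (nat_lit 1733) (nat_lit 402) (nat_lit 1462)
  .nil) (nat_lit 1734) (nat_lit 405) (nat_lit 1502) .nil)) (nat_lit 1735) (nat_lit 368) (nat_lit 2086) (.node
  (.node (.node .nil (nat_lit 1736) (nat_lit 405) (nat_lit 2087) .nil) (nat_lit 1737) (nat_lit 405) (nat_lit
  2069) (.node .nil (nat_lit 1738) (nat_lit 438) (nat_lit 1461) .nil)) (nat_lit 1739) (nat_lit 405) (nat_lit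
  1509) (.node (.node .nil (nat_lit 1740) (nat_lit 401) (nat_lit 2087) .nil) (nat_lit 1741) (nat_lit 344)
  (nat_lit 2091) .nil))) (nat_lit 1742) (nat_lit 376) (nat_lit 2072) (.node (.node (.node (.node .nil (nat_lit
  1743) (nat_lit 337) (nat_lit 2091) .nil) (nat_lit 1744) (nat_lit 307) (nat_lit 1567) (.node .nil (nat_lit
  1745) (nat_lit 338) (nat_lit 2098) .nil)) (nat_lit 1746) (nat_lit 408) (nat_lit 2067) (.node (.node .nil
  (nat_lit 1747) (nat_lit 408) (nat_lit 2058) .nil) (nat_lit 1748) (nat_lit 247) (nat_lit 1475) .nil))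
  (nat_lit 1749) (nat_lit 401) (nat_lit 1518) (.node (.node (.node .nil (nat_lit 1750) (nat_lit 434) (nat_lit
  2103) .nil) (nat_lit 1751) (nat_lit 438) (nat_lit 1473) .nil) (nat_lit 1752) (nat_lit 241) (nat_lit 1475)
  (.node (.node .nil (nat_lit 1753) (nat_lit 433) (nat_lit 2109) .nil) (nat_lit 1754) (nat_lit 437) (nat_lit
  1476) .nil))))))
def t0_16 : T := (.node (.node (.node (.node (.node (.node (.node .nil (nat_lit 1756) (nat_lit 464) (nat_lit
  2116) .nil) (nat_lit 1757) (nat_lit 470) (nat_lit 1477) (.node .nil (nat_lit 1758) (nat_lit 440) (nat_lit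
  2121) .nil)) (nat_lit 1759) (nat_lit 401) (nat_lit 1481) (.node (.node .nil (nat_lit 1760) (nat_lit 440)
  (nat_lit 2123) .nil) (nat_lit 1761) (nat_lit 468) (nat_lit 1479) .nil)) (nat_lit 1762) (nat_lit 408)
  (nat_lit 2125) (.node (.node (.node .nil (nat_lit 1763) (nat_lit 372) (nat_lit 1484) .nil) (nat_lit 1764)
  (nat_lit 408) (nat_lit 2129) (.node .nil (nat_lit 1765) (nat_lit 406) (nat_lit 1481) .nil)) (nat_lit 1766)
  (nat_lit 374) (nat_lit 1493) (.node (.node .nil (nat_lit 1767) (nat_lit 344) (nat_lit 2131) .nil) (nat_lit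
  1768) (nat_lit 338) (nat_lit 2131) .nil))) (nat_lit 1769) (nat_lit 376) (nat_lit 1631) (.node (.node (.node
  (.node .nil (nat_lit 1770) (nat_lit 337) (nat_lit 1633) .nil) (nat_lit 1771) (nat_lit 344) (nat_lit 2135)
  (.node .nil (nat_lit 1772) (nat_lit 307) (nat_lit 1171) .nil)) (nat_lit 1773) (nat_lit 312) (nat_lit 1513)
  (.node (.node .nil (nat_lit 1774) (nat_lit 376) (nat_lit 1565) .nil) (nat_lit 1775) (nat_lit 338) (nat_lit
  2135) .nil)) (nat_lit 1776) (nat_lit 344) (nat_lit 1514) (.node (.node (.node .nil (nat_lit 1777) (nat_lit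
  408) (nat_lit 2140) .nil) (nat_lit 1778) (nat_lit 368) (nat_lit 1565) (.node .nil (nat_lit 1779) (nat_lit
  408) (nat_lit 2143) .nil)) (nat_lit 1780) (nat_lit 376) (nat_lit 1504) (.node (.node .nil (nat_lit 1781)
  (nat_lit 340) (nat_lit 1512) .nil) (nat_lit 1782) (nat_lit 402) (nat_lit 1495) .nil)))) (nat_lit 1783)
  (nat_lit 440) (nat_lit 2147) (.node (.node (.node (.node (.node .nil (nat_lit 1784) (nat_lit 401) (nat_lit
  2143) .nil) (nat_lit 1785) (nat_lit 440) (nat_lit 2150) (.node .nil (nat_lit 1786) (nat_lit 437) (nat_lit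
  2141) .nil)) (nat_lit 1787) (nat_lit 436) (nat_lit 2150) (.node (.node .nil (nat_lit 1788) (nat_lit 368)
  (nat_lit 2155) .nil) (nat_lit 1789) (nat_lit 405) (nat_lit 2156) .nil)) (nat_lit 1790) (nat_lit 405)
  (nat_lit 2140) (.node (.node (.node .nil (nat_lit 1791) (nat_lit 440) (nat_lit 2158) .nil) (nat_lit 1792)
  (nat_lit 440) (nat_lit 2159) (.node .nil (nat_lit 1793) (nat_lit 440) (nat_lit 2076) .nil)) (nat_lit 1794)
  (nat_lit 402) (nat_lit 1509) (.node (.node .nil (nat_lit 1795) (nat_lit 312) (nat_lit 1542) .nil) (nat_lit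
  1796) (nat_lit 337) (nat_lit 1514) .nil))) (nat_lit 1797) (nat_lit 372) (nat_lit 1504) (.node (.node (.node
  (.node .nil (nat_lit 1798) (nat_lit 376) (nat_lit 2146) .nil) (nat_lit 1799) (nat_lit 406) (nat_lit 1505)
  (.node .nil (nat_lit 1800) (nat_lit 405) (nat_lit 2143) .nil)) (nat_lit 1801) (nat_lit 406) (nat_lit 1509)
  (.node (.node .nil (nat_lit 1802) (nat_lit 472) (nat_lit 2171) .nil) (nat_lit 1803) (nat_lit 436) (nat_lit
  2075) .nil)) (nat_lit 1804) (nat_lit 376) (nat_lit 2130) (.node (.node (.node .nil (nat_lit 1805) (nat_lit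
  305) (nat_lit 1544) .nil) (nat_lit 1806) (nat_lit 307) (nat_lit 1559) .nil) (nat_lit 1807) (nat_lit 405)
  (nat_lit 1518) (.node (.node .nil (nat_lit 1808) (nat_lit 406) (nat_lit 1515) .nil) (nat_lit 1809) (nat_lit
  279) (nat_lit 2045) .nil))))) (nat_lit 1810) (nat_lit 372) (nat_lit 1560) (.node (.node (.node (.node (.node
  (.node .nil (nat_lit 1811) (nat_lit 406) (nat_lit 1518) .nil) (nat_lit 1812) (nat_lit 372) (nat_lit 1565)
  (.node .nil (nat_lit 1813) (nat_lit 374) (nat_lit 1519) .nil)) (nat_lit 1814) (nat_lit 374) (nat_lit 1532)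
  (.node (.node .nil (nat_lit 1815) (nat_lit 337) (nat_lit 2183) .nil) (nat_lit 1816) (nat_lit 372) (nat_lit
  1521) .nil)) (nat_lit 1817) (nat_lit 368) (nat_lit 2185) (.node (.node (.node .nil (nat_lit 1818) (nat_lit
  405) (nat_lit 2186) .nil) (nat_lit 1819) (nat_lit 406) (nat_lit 1522) (.node .nil (nat_lit 1820) (nat_lit
  405) (nat_lit 2187) .nil)) (nat_lit 1821) (nat_lit 405) (nat_lit 1562) (.node (.node .nil (nat_lit 1822)
  (nat_lit 440) (nat_lit 2188) .nil) (nat_lit 1823) (nat_lit 440) (nat_lit 2189) .nil))) (nat_lit 1824)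
  (nat_lit 440) (nat_lit 2190) (.node (.node (.node (.node .nil (nat_lit 1825) (nat_lit 406) (nat_lit 1528)
  .nil) (nat_lit 1826) (nat_lit 468) (nat_lit 2114) (.node .nil (nat_lit 1827) (nat_lit 440) (nat_lit 2192)
  .nil)) (nat_lit 1828) (nat_lit 402) (nat_lit 2067) (.node (.node .nil (nat_lit 1829) (nat_lit 402) (nat_lit
  1540) .nil) (nat_lit 1830) (nat_lit 312) (nat_lit 1543) .nil)) (nat_lit 1831) (nat_lit 340) (nat_lit 1531)
  (.node (.node (.node .nil (nat_lit 1832) (nat_lit 337) (nat_lit 1657) .nil) (nat_lit 1833) (nat_lit 372)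
  (nat_lit 1533) (.node .nil (nat_lit 1834) (nat_lit 436) (nat_lit 2123) .nil)) (nat_lit 1835) (nat_lit 406)
  (nat_lit 1535) (.node (.node .nil (nat_lit 1836) (nat_lit 406) (nat_lit 1540) .nil) (nat_lit 1837) (nat_lit
  440) (nat_lit 2204) .nil)))) (nat_lit 1838) (nat_lit 307) (nat_lit 1668) (.node (.node (.node (.node (.node
  .nil (nat_lit 1839) (nat_lit 275) (nat_lit 1517) .nil) (nat_lit 1840) (nat_lit 307) (nat_lit 2266) (.node
  .nil (nat_lit 1841) (nat_lit 372) (nat_lit 1608) .nil)) (nat_lit 1842) (nat_lit 306) (nat_lit 2208) (.node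
  (.node .nil (nat_lit 1843) (nat_lit 243) (nat_lit 1471) .nil) (nat_lit 1844) (nat_lit 243) (nat_lit 1667)
  .nil)) (nat_lit 1845) (nat_lit 404) (nat_lit 1602) (.node (.node (.node .nil (nat_lit 1846) (nat_lit 275)
  (nat_lit 2250) .nil) (nat_lit 1847) (nat_lit 406) (nat_lit 1549) (.node .nil (nat_lit 1848) (nat_lit 372)
  (nat_lit 1612) .nil)) (nat_lit 1849) (nat_lit 311) (nat_lit 2220) (.node (.node .nil (nat_lit 1850) (nat_lit
  311) (nat_lit 2222) .nil) (nat_lit 1851) (nat_lit 307) (nat_lit 1161) .nil))) (nat_lit 1852) (nat_lit 274)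
  (nat_lit 1556) (.node (.node (.node (.node .nil (nat_lit 1853) (nat_lit 307) (nat_lit 1690) .nil) (nat_lit
  1854) (nat_lit 437) (nat_lit 2121) (.node .nil (nat_lit 1855) (nat_lit 277) (nat_lit 1556) .nil)) (nat_lit
  1856) (nat_lit 338) (nat_lit 2223) (.node (.node .nil (nat_lit 1857) (nat_lit 311) (nat_lit 2229) .nil)
  (nat_lit 1858) (nat_lit 311) (nat_lit 2232) .nil)) (nat_lit 1859) (nat_lit 338) (nat_lit 2219) (.node (.node
  (.node .nil (nat_lit 1860) (nat_lit 273) (nat_lit 1561) .nil) (nat_lit 1861) (nat_lit 437) (nat_lit 2235)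
  .nil) (nat_lit 1862) (nat_lit 277) (nat_lit 1561) (.node (.node .nil (nat_lit 1863) (nat_lit 369) (nat_lit
  2233) .nil) (nat_lit 1864) (nat_lit 369) (nat_lit 2234) .nil))))))
def t0_17 : T := (.node (.node (.node (.node (.node (.node (.node .nil (nat_lit 1866) (nat_lit 438) (nat_lit
  1563) .nil) (nat_lit 1867) (nat_lit 405) (nat_lit 2240) (.node .nil (nat_lit 1868) (nat_lit 369) (nat_lit
  2066) .nil)) (nat_lit 1869) (nat_lit 311) (nat_lit 2244) (.node (.node .nil (nat_lit 1870) (nat_lit 437)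
  (nat_lit 2212) .nil) (nat_lit 1871) (nat_lit 277) (nat_lit 1568) .nil)) (nat_lit 1872) (nat_lit 438)
  (nat_lit 1569) (.node (.node (.node .nil (nat_lit 1873) (nat_lit 405) (nat_lit 2215) .nil) (nat_lit 1874)
  (nat_lit 406) (nat_lit 1589) (.node .nil (nat_lit 1875) (nat_lit 406) (nat_lit 1572) .nil)) (nat_lit 1876)
  (nat_lit 247) (nat_lit 1666) (.node (.node .nil (nat_lit 1877) (nat_lit 401) (nat_lit 1584) .nil) (nat_lit
  1878) (nat_lit 243) (nat_lit 1475) .nil))) (nat_lit 1879) (nat_lit 434) (nat_lit 2251) (.node (.node (.node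
  (.node .nil (nat_lit 1880) (nat_lit 437) (nat_lit 1575) .nil) (nat_lit 1881) (nat_lit 438) (nat_lit 1575)
  (.node .nil (nat_lit 1882) (nat_lit 434) (nat_lit 2254) .nil)) (nat_lit 1883) (nat_lit 440) (nat_lit 1595)
  (.node (.node .nil (nat_lit 1884) (nat_lit 432) (nat_lit 1595) .nil) (nat_lit 1885) (nat_lit 438) (nat_lit
  1577) .nil)) (nat_lit 1886) (nat_lit 437) (nat_lit 1579) (.node (.node (.node .nil (nat_lit 1887) (nat_lit
  438) (nat_lit 1579) .nil) (nat_lit 1888) (nat_lit 279) (nat_lit 2269) (.node .nil (nat_lit 1889) (nat_lit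
  311) (nat_lit 2272) .nil)) (nat_lit 1890) (nat_lit 372) (nat_lit 1599) (.node (.node .nil (nat_lit 1891)
  (nat_lit 275) (nat_lit 2045) .nil) (nat_lit 1892) (nat_lit 405) (nat_lit 1584) .nil)))) (nat_lit 1893)
  (nat_lit 406) (nat_lit 1584) (.node (.node (.node (.node (.node .nil (nat_lit 1894) (nat_lit 404) (nat_lit
  1603) .nil) (nat_lit 1895) (nat_lit 344) (nat_lit 1586) (.node .nil (nat_lit 1896) (nat_lit 403) (nat_lit
  557) .nil)) (nat_lit 1897) (nat_lit 309) (nat_lit 1588) (.node (.node .nil (nat_lit 1898) (nat_lit 372)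
  (nat_lit 1607) .nil) (nat_lit 1899) (nat_lit 374) (nat_lit 1587) .nil)) (nat_lit 1900) (nat_lit 372)
  (nat_lit 1609) (.node (.node (.node .nil (nat_lit 1901) (nat_lit 405) (nat_lit 2282) .nil) (nat_lit 1902)
  (nat_lit 405) (nat_lit 1591) (.node .nil (nat_lit 1903) (nat_lit 406) (nat_lit 1591) .nil)) (nat_lit 1904)
  (nat_lit 432) (nat_lit 2287) (.node (.node .nil (nat_lit 1905) (nat_lit 438) (nat_lit 1592) .nil) (nat_lit
  1906) (nat_lit 440) (nat_lit 1594) .nil))) (nat_lit 1907) (nat_lit 497) (nat_lit 1649) (.node (.node (.node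
  (.node .nil (nat_lit 1908) (nat_lit 438) (nat_lit 1595) .nil) (nat_lit 1909) (nat_lit 343) (nat_lit 2298)
  (.node .nil (nat_lit 1910) (nat_lit 311) (nat_lit 2301) .nil)) (nat_lit 1911) (nat_lit 338) (nat_lit 1615)
  (.node (.node .nil (nat_lit 1912) (nat_lit 305) (nat_lit 1600) .nil) (nat_lit 1913) (nat_lit 344) (nat_lit
  1598) .nil)) (nat_lit 1914) (nat_lit 435) (nat_lit 2147) (.node (.node (.node .nil (nat_lit 1915) (nat_lit
  309) (nat_lit 1600) .nil) (nat_lit 1916) (nat_lit 369) (nat_lit 2302) .nil) (nat_lit 1917) (nat_lit 369)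
  (nat_lit 2303) (.node (.node .nil (nat_lit 1918) (nat_lit 369) (nat_lit 2304) .nil) (nat_lit 1919) (nat_lit
  405) (nat_lit 2310) .nil))))) (nat_lit 1920) (nat_lit 405) (nat_lit 1603) (.node (.node (.node (.node (.node
  (.node .nil (nat_lit 1921) (nat_lit 368) (nat_lit 2314) .nil) (nat_lit 1922) (nat_lit 440) (nat_lit 1605)
  (.node .nil (nat_lit 1923) (nat_lit 312) (nat_lit 1606) .nil)) (nat_lit 1924) (nat_lit 408) (nat_lit 2282)
  (.node (.node .nil (nat_lit 1925) (nat_lit 438) (nat_lit 1605) .nil) (nat_lit 1926) (nat_lit 439) (nat_lit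
  1605) .nil)) (nat_lit 1927) (nat_lit 368) (nat_lit 1607) (.node (.node (.node .nil (nat_lit 1928) (nat_lit
  376) (nat_lit 1607) .nil) (nat_lit 1929) (nat_lit 369) (nat_lit 1631) (.node .nil (nat_lit 1930) (nat_lit
  369) (nat_lit 1632) .nil)) (nat_lit 1931) (nat_lit 337) (nat_lit 1634) (.node (.node .nil (nat_lit 1932)
  (nat_lit 405) (nat_lit 2323) .nil) (nat_lit 1933) (nat_lit 343) (nat_lit 2327) .nil))) (nat_lit 1934)
  (nat_lit 344) (nat_lit 1613) (.node (.node (.node (.node .nil (nat_lit 1935) (nat_lit 343) (nat_lit 2332)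
  .nil) (nat_lit 1936) (nat_lit 467) (nat_lit 2865) (.node .nil (nat_lit 1937) (nat_lit 309) (nat_lit 1616)
  .nil)) (nat_lit 1938) (nat_lit 343) (nat_lit 2337) (.node (.node .nil (nat_lit 1939) (nat_lit 339) (nat_lit
  2218) .nil) (nat_lit 1940) (nat_lit 308) (nat_lit 1616) .nil)) (nat_lit 1941) (nat_lit 339) (nat_lit 2217)
  (.node (.node (.node .nil (nat_lit 1942) (nat_lit 339) (nat_lit 1597) .nil) (nat_lit 1943) (nat_lit 339)
  (nat_lit 2230) (.node .nil (nat_lit 1944) (nat_lit 472) (nat_lit 1618) .nil)) (nat_lit 1945) (nat_lit 312)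
  (nat_lit 1619) (.node (.node .nil (nat_lit 1946) (nat_lit 440) (nat_lit 2350) .nil) (nat_lit 1947) (nat_lit
  470) (nat_lit 1618) .nil)))) (nat_lit 1948) (nat_lit 471) (nat_lit 1618) (.node (.node (.node (.node (.node
  .nil (nat_lit 1949) (nat_lit 344) (nat_lit 1620) .nil) (nat_lit 1950) (nat_lit 339) (nat_lit 1598) (.node
  .nil (nat_lit 1951) (nat_lit 339) (nat_lit 2387) .nil)) (nat_lit 1952) (nat_lit 307) (nat_lit 1583) (.node
  (.node .nil (nat_lit 1953) (nat_lit 307) (nat_lit 2176) .nil) (nat_lit 1954) (nat_lit 275) (nat_lit 1573)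
  .nil)) (nat_lit 1955) (nat_lit 275) (nat_lit 2102) (.node (.node (.node .nil (nat_lit 1956) (nat_lit 440)
  (nat_lit 2287) .nil) (nat_lit 1957) (nat_lit 472) (nat_lit 1628) (.node .nil (nat_lit 1958) (nat_lit 472)
  (nat_lit 1629) .nil)) (nat_lit 1959) (nat_lit 401) (nat_lit 2282) (.node (.node .nil (nat_lit 1960) (nat_lit
  440) (nat_lit 2151) .nil) (nat_lit 1961) (nat_lit 440) (nat_lit 2359) .nil))) (nat_lit 1962) (nat_lit 468)
  (nat_lit 1628) (.node (.node (.node (.node .nil (nat_lit 1963) (nat_lit 471) (nat_lit 1628) .nil) (nat_lit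
  1964) (nat_lit 376) (nat_lit 1632) (.node .nil (nat_lit 1965) (nat_lit 338) (nat_lit 2206) .nil)) (nat_lit
  1966) (nat_lit 306) (nat_lit 2205) (.node (.node .nil (nat_lit 1967) (nat_lit 311) (nat_lit 2363) .nil)
  (nat_lit 1968) (nat_lit 312) (nat_lit 2266) .nil)) (nat_lit 1969) (nat_lit 435) (nat_lit 2074) (.node (.node
  (.node .nil (nat_lit 1970) (nat_lit 304) (nat_lit 1640) .nil) (nat_lit 1971) (nat_lit 279) (nat_lit 2370)
  .nil) (nat_lit 1972) (nat_lit 437) (nat_lit 2371) (.node (.node .nil (nat_lit 1973) (nat_lit 277) (nat_lit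
  1665) .nil) (nat_lit 1974) (nat_lit 403) (nat_lit 1530) .nil))))))
def t0_18 : T := (.node (.node (.node (.node (.node (.node (.node .nil (nat_lit 1976) (nat_lit 438) (nat_lit
  1639) .nil) (nat_lit 1977) (nat_lit 440) (nat_lit 2373) (.node .nil (nat_lit 1978) (nat_lit 433) (nat_lit
  2371) .nil)) (nat_lit 1979) (nat_lit 470) (nat_lit 1642) (.node (.node .nil (nat_lit 1980) (nat_lit 437)
  (nat_lit 2251) .nil) (nat_lit 1981) (nat_lit 468) (nat_lit 1644) .nil)) (nat_lit 1982) (nat_lit 472)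
  (nat_lit 2380) (.node (.node (.node .nil (nat_lit 1983) (nat_lit 470) (nat_lit 1646) .nil) (nat_lit 1984)
  (nat_lit 504) (nat_lit 1649) (.node .nil (nat_lit 1985) (nat_lit 470) (nat_lit 1648) .nil)) (nat_lit 1986)
  (nat_lit 503) (nat_lit 1649) (.node (.node .nil (nat_lit 1987) (nat_lit 307) (nat_lit 1558) .nil) (nat_lit
  1988) (nat_lit 307) (nat_lit 2267) .nil))) (nat_lit 1989) (nat_lit 279) (nat_lit 2386) (.node (.node (.node
  (.node .nil (nat_lit 1990) (nat_lit 247) (nat_lit 1664) .nil) (nat_lit 1991) (nat_lit 243) (nat_lit 1215)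
  (.node .nil (nat_lit 1992) (nat_lit 243) (nat_lit 1141) .nil)) (nat_lit 1993) (nat_lit 243) (nat_lit 1442)
  (.node (.node .nil (nat_lit 1994) (nat_lit 311) (nat_lit 2389) .nil) (nat_lit 1995) (nat_lit 437) (nat_lit
  2390) .nil)) (nat_lit 1996) (nat_lit 277) (nat_lit 2045) (.node (.node (.node .nil (nat_lit 1997) (nat_lit
  400) (nat_lit 2312) .nil) (nat_lit 1998) (nat_lit 405) (nat_lit 2393) (.node .nil (nat_lit 1999) (nat_lit
  408) (nat_lit 1672) .nil)) (nat_lit 2000) (nat_lit 368) (nat_lit 2325) (.node (.node .nil (nat_lit 2001)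
  (nat_lit 344) (nat_lit 2227) .nil) (nat_lit 2002) (nat_lit 344) (nat_lit 2387) .nil)))) (nat_lit 2003)
  (nat_lit 435) (nat_lit 2084) (.node (.node (.node (.node (.node .nil (nat_lit 2004) (nat_lit 312) (nat_lit
  2389) .nil) (nat_lit 2005) (nat_lit 440) (nat_lit 2404) (.node .nil (nat_lit 2006) (nat_lit 440) (nat_lit
  2315) .nil)) (nat_lit 2007) (nat_lit 440) (nat_lit 2391) (.node (.node .nil (nat_lit 2008) (nat_lit 344)
  (nat_lit 2217) .nil) (nat_lit 2009) (nat_lit 343) (nat_lit 2410) .nil)) (nat_lit 2010) (nat_lit 435)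
  (nat_lit 2167) (.node (.node (.node .nil (nat_lit 2011) (nat_lit 312) (nat_lit 2229) .nil) (nat_lit 2012)
  (nat_lit 437) (nat_lit 1678) (.node .nil (nat_lit 2013) (nat_lit 438) (nat_lit 1678) .nil)) (nat_lit 2014)
  (nat_lit 440) (nat_lit 2237) (.node (.node .nil (nat_lit 2015) (nat_lit 437) (nat_lit 2392) .nil) (nat_lit
  2016) (nat_lit 440) (nat_lit 2271) .nil))) (nat_lit 2017) (nat_lit 437) (nat_lit 1682) (.node (.node (.node
  (.node .nil (nat_lit 2018) (nat_lit 440) (nat_lit 2276) .nil) (nat_lit 2019) (nat_lit 440) (nat_lit 2316)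
  (.node .nil (nat_lit 2020) (nat_lit 311) (nat_lit 2424) .nil)) (nat_lit 2021) (nat_lit 435) (nat_lit 2202)
  (.node (.node .nil (nat_lit 2022) (nat_lit 309) (nat_lit 2424) .nil) (nat_lit 2023) (nat_lit 438) (nat_lit
  1684) .nil)) (nat_lit 2024) (nat_lit 440) (nat_lit 2246) (.node (.node (.node .nil (nat_lit 2025) (nat_lit
  440) (nat_lit 2247) .nil) (nat_lit 2026) (nat_lit 440) (nat_lit 2248) .nil) (nat_lit 2027) (nat_lit 440)
  (nat_lit 2252) (.node (.node .nil (nat_lit 2028) (nat_lit 440) (nat_lit 2277) .nil) (nat_lit 2029) (nat_lit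
  275) (nat_lit 1553) .nil))))) (nat_lit 2030) (nat_lit 275) (nat_lit 1163) (.node (.node (.node (.node (.node
  (.node .nil (nat_lit 2031) (nat_lit 435) (nat_lit 2350) .nil) (nat_lit 2032) (nat_lit 312) (nat_lit 2222)
  (.node .nil (nat_lit 2033) (nat_lit 437) (nat_lit 1693) .nil)) (nat_lit 2034) (nat_lit 438) (nat_lit 1693)
  (.node (.node .nil (nat_lit 2035) (nat_lit 439) (nat_lit 1693) .nil) (nat_lit 2036) (nat_lit 437) (nat_lit
  2120) .nil)) (nat_lit 2037) (nat_lit 438) (nat_lit 1695) (.node (.node (.node .nil (nat_lit 2038) (nat_lit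
  439) (nat_lit 1695) .nil) (nat_lit 2039) (nat_lit 440) (nat_lit 2241) (.node .nil (nat_lit 2040) (nat_lit
  439) (nat_lit 1696) .nil)) (nat_lit 2041) (nat_lit 405) (nat_lit 2394) (.node (.node .nil (nat_lit 2042)
  (nat_lit 440) (nat_lit 2281) .nil) (nat_lit 2043) (nat_lit 440) (nat_lit 2288) .nil))) (nat_lit 2044)
  (nat_lit 440) (nat_lit 2249) (.node (.node (.node (.node .nil (nat_lit 2045) (nat_lit 257) (nat_lit 1706)
  .nil) (nat_lit 2046) (nat_lit 388) (nat_lit 1864) (.node .nil (nat_lit 2047) (nat_lit 421) (nat_lit 1707)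
  .nil)) (nat_lit 2048) (nat_lit 422) (nat_lit 1707) (.node (.node .nil (nat_lit 2049) (nat_lit 388) (nat_lit
  1868) .nil) (nat_lit 2050) (nat_lit 390) (nat_lit 1708) .nil)) (nat_lit 2051) (nat_lit 421) (nat_lit 2451)
  (.node (.node (.node .nil (nat_lit 2052) (nat_lit 422) (nat_lit 1709) .nil) (nat_lit 2053) (nat_lit 390)
  (nat_lit 1833) (.node .nil (nat_lit 2054) (nat_lit 388) (nat_lit 2460) .nil)) (nat_lit 2055) (nat_lit 356)
  (nat_lit 1715) (.node (.node .nil (nat_lit 2056) (nat_lit 392) (nat_lit 2463) .nil) (nat_lit 2057) (nat_lit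
  390) (nat_lit 1712) .nil)))) (nat_lit 2058) (nat_lit 390) (nat_lit 1724) (.node (.node (.node (.node (.node
  .nil (nat_lit 2059) (nat_lit 328) (nat_lit 1840) .nil) (nat_lit 2060) (nat_lit 354) (nat_lit 2465) (.node
  .nil (nat_lit 2061) (nat_lit 321) (nat_lit 1842) .nil)) (nat_lit 2062) (nat_lit 323) (nat_lit 1967) (.node
  (.node .nil (nat_lit 2063) (nat_lit 323) (nat_lit 1374) .nil) (nat_lit 2064) (nat_lit 323) (nat_lit 1424)
  .nil)) (nat_lit 2065) (nat_lit 353) (nat_lit 1718) (.node (.node (.node .nil (nat_lit 2066) (nat_lit 354)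
  (nat_lit 2468) .nil) (nat_lit 2067) (nat_lit 385) (nat_lit 1724) (.node .nil (nat_lit 2068) (nat_lit 384)
  (nat_lit 2469) .nil)) (nat_lit 2069) (nat_lit 384) (nat_lit 2460) (.node (.node .nil (nat_lit 2070) (nat_lit
  388) (nat_lit 1721) .nil) (nat_lit 2071) (nat_lit 384) (nat_lit 1868) .nil))) (nat_lit 2072) (nat_lit 356)
  (nat_lit 1743) (.node (.node (.node (.node .nil (nat_lit 2073) (nat_lit 421) (nat_lit 2473) .nil) (nat_lit
  2074) (nat_lit 418) (nat_lit 1727) (.node .nil (nat_lit 2075) (nat_lit 422) (nat_lit 1727) .nil)) (nat_lit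
  2076) (nat_lit 421) (nat_lit 2472) (.node (.node .nil (nat_lit 2077) (nat_lit 422) (nat_lit 1729) .nil)
  (nat_lit 2078) (nat_lit 384) (nat_lit 2482) .nil)) (nat_lit 2079) (nat_lit 421) (nat_lit 2483) (.node (.node
  (.node .nil (nat_lit 2080) (nat_lit 421) (nat_lit 2471) .nil) (nat_lit 2081) (nat_lit 453) (nat_lit 2476)
  .nil) (nat_lit 2082) (nat_lit 456) (nat_lit 2486) (.node (.node .nil (nat_lit 2083) (nat_lit 421) (nat_lit
  1794) .nil) (nat_lit 2084) (nat_lit 418) (nat_lit 1740) .nil))))))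
def t0_19 : T := (.node (.node (.node (.node (.node (.node (.node .nil (nat_lit 2086) (nat_lit 353) (nat_lit
  1745) .nil) (nat_lit 2087) (nat_lit 388) (nat_lit 1735) (.node .nil (nat_lit 2088) (nat_lit 392) (nat_lit
  2475) .nil)) (nat_lit 2089) (nat_lit 422) (nat_lit 1736) (.node (.node .nil (nat_lit 2090) (nat_lit 417)
  (nat_lit 2451) .nil) (nat_lit 2091) (nat_lit 322) (nat_lit 1838) .nil)) (nat_lit 2092) (nat_lit 422)
  (nat_lit 1740) (.node (.node (.node .nil (nat_lit 2093) (nat_lit 452) (nat_lit 2502) .nil) (nat_lit 2094)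
  (nat_lit 422) (nat_lit 1739) (.node .nil (nat_lit 2095) (nat_lit 360) (nat_lit 1965) .nil)) (nat_lit 2096)
  (nat_lit 392) (nat_lit 2464) (.node (.node .nil (nat_lit 2097) (nat_lit 321) (nat_lit 1966) .nil) (nat_lit
  2098) (nat_lit 323) (nat_lit 1869) .nil))) (nat_lit 2099) (nat_lit 421) (nat_lit 1749) (.node (.node (.node
  (.node .nil (nat_lit 2100) (nat_lit 424) (nat_lit 2470) .nil) (nat_lit 2101) (nat_lit 424) (nat_lit 2457)
  (.node .nil (nat_lit 2102) (nat_lit 263) (nat_lit 1752) .nil)) (nat_lit 2103) (nat_lit 417) (nat_lit 2510)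
  (.node (.node .nil (nat_lit 2104) (nat_lit 422) (nat_lit 1749) .nil) (nat_lit 2105) (nat_lit 453) (nat_lit
  1750) .nil)) (nat_lit 2106) (nat_lit 454) (nat_lit 1750) (.node (.node (.node .nil (nat_lit 2107) (nat_lit
  452) (nat_lit 1751) .nil) (nat_lit 2108) (nat_lit 260) (nat_lit 1752) (.node .nil (nat_lit 2109) (nat_lit
  420) (nat_lit 2517) .nil)) (nat_lit 2110) (nat_lit 453) (nat_lit 1753) (.node (.node .nil (nat_lit 2111)
  (nat_lit 454) (nat_lit 1753) .nil) (nat_lit 2112) (nat_lit 456) (nat_lit 2525) .nil)))) (nat_lit 2113)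
  (nat_lit 418) (nat_lit 1759) (.node (.node (.node (.node (.node .nil (nat_lit 2114) (nat_lit 454) (nat_lit
  1754) .nil) (nat_lit 2115) (nat_lit 452) (nat_lit 1755) (.node .nil (nat_lit 2116) (nat_lit 453) (nat_lit
  1758) .nil)) (nat_lit 2117) (nat_lit 448) (nat_lit 2033) (.node (.node .nil (nat_lit 2118) (nat_lit 480)
  (nat_lit 2529) .nil) (nat_lit 2119) (nat_lit 484) (nat_lit 1757) .nil)) (nat_lit 2120) (nat_lit 424)
  (nat_lit 1865) (.node (.node (.node .nil (nat_lit 2121) (nat_lit 417) (nat_lit 1865) .nil) (nat_lit 2122)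
  (nat_lit 456) (nat_lit 2536) (.node .nil (nat_lit 2123) (nat_lit 422) (nat_lit 1759) .nil)) (nat_lit 2124)
  (nat_lit 424) (nat_lit 2537) (.node (.node .nil (nat_lit 2125) (nat_lit 388) (nat_lit 1929) .nil) (nat_lit
  2126) (nat_lit 392) (nat_lit 1929) .nil))) (nat_lit 2127) (nat_lit 424) (nat_lit 2540) (.node (.node (.node
  (.node .nil (nat_lit 2128) (nat_lit 356) (nat_lit 1770) .nil) (nat_lit 2129) (nat_lit 390) (nat_lit 1763)
  (.node .nil (nat_lit 2130) (nat_lit 358) (nat_lit 1781) .nil)) (nat_lit 2131) (nat_lit 323) (nat_lit 1889)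
  (.node (.node .nil (nat_lit 2132) (nat_lit 360) (nat_lit 1950) .nil) (nat_lit 2133) (nat_lit 324) (nat_lit
  1805) .nil)) (nat_lit 2134) (nat_lit 360) (nat_lit 2547) (.node (.node (.node .nil (nat_lit 2135) (nat_lit
  323) (nat_lit 1361) .nil) (nat_lit 2136) (nat_lit 328) (nat_lit 1806) .nil) (nat_lit 2137) (nat_lit 392)
  (nat_lit 1863) (.node (.node .nil (nat_lit 2138) (nat_lit 392) (nat_lit 1812) .nil) (nat_lit 2139) (nat_lit
  360) (nat_lit 1796) .nil))))) (nat_lit 2140) (nat_lit 384) (nat_lit 1863) (.node (.node (.node (.node (.node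
  (.node .nil (nat_lit 2141) (nat_lit 424) (nat_lit 2553) .nil) (nat_lit 2142) (nat_lit 392) (nat_lit 1788)
  (.node .nil (nat_lit 2143) (nat_lit 388) (nat_lit 1778) .nil)) (nat_lit 2144) (nat_lit 424) (nat_lit 2558)
  (.node (.node .nil (nat_lit 2145) (nat_lit 392) (nat_lit 1797) .nil) (nat_lit 2146) (nat_lit 356) (nat_lit
  1796) .nil)) (nat_lit 2147) (nat_lit 418) (nat_lit 1784) (.node (.node (.node .nil (nat_lit 2148) (nat_lit
  456) (nat_lit 2561) .nil) (nat_lit 2149) (nat_lit 456) (nat_lit 2562) (.node .nil (nat_lit 2150) (nat_lit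
  422) (nat_lit 1784) .nil)) (nat_lit 2151) (nat_lit 422) (nat_lit 1959) (.node (.node .nil (nat_lit 2152)
  (nat_lit 453) (nat_lit 2554) .nil) (nat_lit 2153) (nat_lit 453) (nat_lit 2555) .nil))) (nat_lit 2154)
  (nat_lit 456) (nat_lit 2504) (.node (.node (.node (.node .nil (nat_lit 2155) (nat_lit 353) (nat_lit 2570)
  .nil) (nat_lit 2156) (nat_lit 388) (nat_lit 1788) (.node .nil (nat_lit 2157) (nat_lit 392) (nat_lit 2557)
  .nil)) (nat_lit 2158) (nat_lit 421) (nat_lit 2571) (.node (.node .nil (nat_lit 2159) (nat_lit 422) (nat_lit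
  1789) .nil) (nat_lit 2160) (nat_lit 421) (nat_lit 2553) .nil)) (nat_lit 2161) (nat_lit 456) (nat_lit 2574)
  (.node (.node (.node .nil (nat_lit 2162) (nat_lit 456) (nat_lit 2575) .nil) (nat_lit 2163) (nat_lit 456)
  (nat_lit 2479) .nil) (nat_lit 2164) (nat_lit 422) (nat_lit 1794) (.node (.node .nil (nat_lit 2165) (nat_lit
  488) (nat_lit 2577) .nil) (nat_lit 2166) (nat_lit 456) (nat_lit 2480) .nil)))) (nat_lit 2167) (nat_lit 418)
  (nat_lit 2571) (.node (.node (.node (.node (.node .nil (nat_lit 2168) (nat_lit 390) (nat_lit 1797) .nil)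
  (nat_lit 2169) (nat_lit 392) (nat_lit 2542) (.node .nil (nat_lit 2170) (nat_lit 422) (nat_lit 1800) .nil))
  (nat_lit 2171) (nat_lit 452) (nat_lit 2536) (.node (.node .nil (nat_lit 2172) (nat_lit 485) (nat_lit 1802)
  .nil) (nat_lit 2173) (nat_lit 456) (nat_lit 2481) .nil)) (nat_lit 2174) (nat_lit 323) (nat_lit 1857) (.node
  (.node (.node .nil (nat_lit 2175) (nat_lit 422) (nat_lit 1807) .nil) (nat_lit 2176) (nat_lit 295) (nat_lit
  2444) (.node .nil (nat_lit 2177) (nat_lit 388) (nat_lit 2594) .nil)) (nat_lit 2178) (nat_lit 388) (nat_lit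
  1863) (.node (.node .nil (nat_lit 2179) (nat_lit 390) (nat_lit 1810) .nil) (nat_lit 2180) (nat_lit 390)
  (nat_lit 1816) .nil))) (nat_lit 2181) (nat_lit 390) (nat_lit 1812) (.node (.node (.node (.node .nil (nat_lit
  2182) (nat_lit 358) (nat_lit 1831) .nil) (nat_lit 2183) (nat_lit 322) (nat_lit 1987) (.node .nil (nat_lit
  2184) (nat_lit 356) (nat_lit 1815) .nil)) (nat_lit 2185) (nat_lit 353) (nat_lit 2601) (.node (.node .nil
  (nat_lit 2186) (nat_lit 385) (nat_lit 1816) .nil) (nat_lit 2187) (nat_lit 388) (nat_lit 1817) .nil))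
  (nat_lit 2188) (nat_lit 416) (nat_lit 1818) (.node (.node (.node .nil (nat_lit 2189) (nat_lit 422) (nat_lit
  1818) .nil) (nat_lit 2190) (nat_lit 421) (nat_lit 2605) .nil) (nat_lit 2191) (nat_lit 452) (nat_lit 2527)
  (.node (.node .nil (nat_lit 2192) (nat_lit 422) (nat_lit 1820) .nil) (nat_lit 2193) (nat_lit 451) (nat_lit
  2757) .nil))))))
def t0_20 : T := (.node (.node (.node (.node (.node (.node (.node .nil (nat_lit 2195) (nat_lit 456) (nat_lit
  2608) .nil) (nat_lit 2196) (nat_lit 456) (nat_lit 2609) (.node .nil (nat_lit 2197) (nat_lit 452) (nat_lit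
  2611) .nil)) (nat_lit 2198) (nat_lit 456) (nat_lit 2611) (.node (.node .nil (nat_lit 2199) (nat_lit 422)
  (nat_lit 1828) .nil) (nat_lit 2200) (nat_lit 422) (nat_lit 1829) .nil)) (nat_lit 2201) (nat_lit 452)
  (nat_lit 2507) (.node (.node (.node .nil (nat_lit 2202) (nat_lit 418) (nat_lit 2470) .nil) (nat_lit 2203)
  (nat_lit 356) (nat_lit 1832) (.node .nil (nat_lit 2204) (nat_lit 420) (nat_lit 2457) .nil)) (nat_lit 2205)
  (nat_lit 291) (nat_lit 1809) (.node (.node .nil (nat_lit 2206) (nat_lit 323) (nat_lit 1994) .nil) (nat_lit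
  2207) (nat_lit 388) (nat_lit 1917) .nil))) (nat_lit 2208) (nat_lit 291) (nat_lit 1888) (.node (.node (.node
  (.node .nil (nat_lit 2209) (nat_lit 390) (nat_lit 1841) .nil) (nat_lit 2210) (nat_lit 356) (nat_lit 1931)
  (.node .nil (nat_lit 2211) (nat_lit 259) (nat_lit 1748) .nil)) (nat_lit 2212) (nat_lit 417) (nat_lit 1845)
  (.node (.node .nil (nat_lit 2213) (nat_lit 259) (nat_lit 1876) .nil) (nat_lit 2214) (nat_lit 422) (nat_lit
  1845) .nil)) (nat_lit 2215) (nat_lit 388) (nat_lit 1921) (.node (.node (.node .nil (nat_lit 2216) (nat_lit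
  390) (nat_lit 1848) .nil) (nat_lit 2217) (nat_lit 327) (nat_lit 2628) (.node .nil (nat_lit 2218) (nat_lit
  327) (nat_lit 2631) .nil)) (nat_lit 2219) (nat_lit 323) (nat_lit 1360) (.node (.node .nil (nat_lit 2220)
  (nat_lit 289) (nat_lit 1852) .nil) (nat_lit 2221) (nat_lit 453) (nat_lit 2525) .nil)))) (nat_lit 2222)
  (nat_lit 293) (nat_lit 1852) (.node (.node (.node (.node (.node .nil (nat_lit 2223) (nat_lit 323) (nat_lit
  2020) .nil) (nat_lit 2224) (nat_lit 454) (nat_lit 1854) (.node .nil (nat_lit 2225) (nat_lit 421) (nat_lit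
  2470) .nil)) (nat_lit 2226) (nat_lit 327) (nat_lit 2637) (.node (.node .nil (nat_lit 2227) (nat_lit 327)
  (nat_lit 2640) .nil) (nat_lit 2228) (nat_lit 453) (nat_lit 2641) .nil)) (nat_lit 2229) (nat_lit 293)
  (nat_lit 1860) (.node (.node (.node .nil (nat_lit 2230) (nat_lit 327) (nat_lit 2645) .nil) (nat_lit 2231)
  (nat_lit 354) (nat_lit 2630) (.node .nil (nat_lit 2232) (nat_lit 292) (nat_lit 1860) .nil)) (nat_lit 2233)
  (nat_lit 354) (nat_lit 2547) (.node (.node .nil (nat_lit 2234) (nat_lit 354) (nat_lit 2632) .nil) (nat_lit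
  2235) (nat_lit 420) (nat_lit 1997) .nil))) (nat_lit 2236) (nat_lit 454) (nat_lit 1861) (.node (.node (.node
  (.node .nil (nat_lit 2237) (nat_lit 421) (nat_lit 2652) .nil) (nat_lit 2238) (nat_lit 385) (nat_lit 2650)
  (.node .nil (nat_lit 2239) (nat_lit 422) (nat_lit 1865) .nil)) (nat_lit 2240) (nat_lit 388) (nat_lit 2000)
  (.node (.node .nil (nat_lit 2241) (nat_lit 422) (nat_lit 1901) .nil) (nat_lit 2242) (nat_lit 422) (nat_lit
  1867) .nil)) (nat_lit 2243) (nat_lit 448) (nat_lit 1870) (.node (.node (.node .nil (nat_lit 2244) (nat_lit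
  288) (nat_lit 1871) .nil) (nat_lit 2245) (nat_lit 454) (nat_lit 1870) .nil) (nat_lit 2246) (nat_lit 421)
  (nat_lit 2604) (.node (.node .nil (nat_lit 2247) (nat_lit 422) (nat_lit 1892) .nil) (nat_lit 2248) (nat_lit
  422) (nat_lit 1873) .nil))))) (nat_lit 2249) (nat_lit 422) (nat_lit 1902) (.node (.node (.node (.node (.node
  (.node .nil (nat_lit 2250) (nat_lit 263) (nat_lit 1993) .nil) (nat_lit 2251) (nat_lit 417) (nat_lit 2662)
  (.node .nil (nat_lit 2252) (nat_lit 421) (nat_lit 1877) .nil)) (nat_lit 2253) (nat_lit 422) (nat_lit 1877)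
  (.node (.node .nil (nat_lit 2254) (nat_lit 417) (nat_lit 1894) .nil) (nat_lit 2255) (nat_lit 454) (nat_lit
  1879) .nil)) (nat_lit 2256) (nat_lit 448) (nat_lit 1880) (.node (.node (.node .nil (nat_lit 2257) (nat_lit
  456) (nat_lit 1880) .nil) (nat_lit 2258) (nat_lit 454) (nat_lit 1880) (.node .nil (nat_lit 2259) (nat_lit
  453) (nat_lit 1882) .nil)) (nat_lit 2260) (nat_lit 452) (nat_lit 1881) (.node (.node .nil (nat_lit 2261)
  (nat_lit 454) (nat_lit 1882) .nil) (nat_lit 2262) (nat_lit 456) (nat_lit 1908) .nil))) (nat_lit 2263)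
  (nat_lit 454) (nat_lit 1884) (.node (.node (.node (.node .nil (nat_lit 2264) (nat_lit 514) (nat_lit 1907)
  .nil) (nat_lit 2265) (nat_lit 454) (nat_lit 1886) (.node .nil (nat_lit 2266) (nat_lit 295) (nat_lit 2680)
  .nil)) (nat_lit 2267) (nat_lit 295) (nat_lit 2682) (.node (.node .nil (nat_lit 2268) (nat_lit 388) (nat_lit
  2681) .nil) (nat_lit 2269) (nat_lit 259) (nat_lit 1706) .nil)) (nat_lit 2270) (nat_lit 328) (nat_lit 1889)
  (.node (.node (.node .nil (nat_lit 2271) (nat_lit 419) (nat_lit 1782) .nil) (nat_lit 2272) (nat_lit 293)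
  (nat_lit 1891) (.node .nil (nat_lit 2273) (nat_lit 388) (nat_lit 1916) .nil)) (nat_lit 2274) (nat_lit 390)
  (nat_lit 1890) (.node (.node .nil (nat_lit 2275) (nat_lit 388) (nat_lit 1918) .nil) (nat_lit 2276) (nat_lit
  421) (nat_lit 2689) .nil)))) (nat_lit 2277) (nat_lit 421) (nat_lit 1894) (.node (.node (.node (.node (.node
  .nil (nat_lit 2278) (nat_lit 422) (nat_lit 1894) .nil) (nat_lit 2279) (nat_lit 328) (nat_lit 1897) (.node
  .nil (nat_lit 2280) (nat_lit 392) (nat_lit 1927) .nil)) (nat_lit 2281) (nat_lit 423) (nat_lit 1896) (.node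
  (.node .nil (nat_lit 2282) (nat_lit 388) (nat_lit 1927) .nil) (nat_lit 2283) (nat_lit 392) (nat_lit 1898)
  .nil)) (nat_lit 2284) (nat_lit 390) (nat_lit 1898) (.node (.node (.node .nil (nat_lit 2285) (nat_lit 388)
  (nat_lit 1930) .nil) (nat_lit 2286) (nat_lit 390) (nat_lit 1900) (.node .nil (nat_lit 2287) (nat_lit 421)
  (nat_lit 1959) .nil)) (nat_lit 2288) (nat_lit 421) (nat_lit 2697) (.node (.node .nil (nat_lit 2289) (nat_lit
  456) (nat_lit 2665) .nil) (nat_lit 2290) (nat_lit 454) (nat_lit 1904) .nil))) (nat_lit 2291) (nat_lit 512)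
  (nat_lit 1907) (.node (.node (.node (.node .nil (nat_lit 2292) (nat_lit 520) (nat_lit 1907) .nil) (nat_lit
  2293) (nat_lit 519) (nat_lit 1907) (.node .nil (nat_lit 2294) (nat_lit 359) (nat_lit 2704) .nil)) (nat_lit
  2295) (nat_lit 360) (nat_lit 1909) (.node (.node .nil (nat_lit 2296) (nat_lit 327) (nat_lit 2708) .nil)
  (nat_lit 2297) (nat_lit 451) (nat_lit 2561) .nil)) (nat_lit 2298) (nat_lit 325) (nat_lit 1912) (.node (.node
  (.node .nil (nat_lit 2299) (nat_lit 327) (nat_lit 2644) .nil) (nat_lit 2300) (nat_lit 354) (nat_lit 1939)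
  .nil) (nat_lit 2301) (nat_lit 291) (nat_lit 1860) (.node (.node .nil (nat_lit 2302) (nat_lit 354) (nat_lit
  1941) .nil) (nat_lit 2303) (nat_lit 354) (nat_lit 1942) .nil))))))
def t0_21 : T := (.node (.node (.node (.node (.node (.node (.node .nil (nat_lit 2305) (nat_lit 456) (nat_lit
  1914) .nil) (nat_lit 2306) (nat_lit 328) (nat_lit 1915) (.node .nil (nat_lit 2307) (nat_lit 424) (nat_lit
  2689) .nil)) (nat_lit 2308) (nat_lit 454) (nat_lit 1914) (.node (.node .nil (nat_lit 2309) (nat_lit 455)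
  (nat_lit 1914) .nil) (nat_lit 2310) (nat_lit 384) (nat_lit 1916) .nil)) (nat_lit 2311) (nat_lit 392)
  (nat_lit 1916) (.node (.node (.node .nil (nat_lit 2312) (nat_lit 385) (nat_lit 2715) .nil) (nat_lit 2313)
  (nat_lit 385) (nat_lit 2716) (.node .nil (nat_lit 2314) (nat_lit 353) (nat_lit 2600) .nil)) (nat_lit 2315)
  (nat_lit 421) (nat_lit 2723) (.node (.node .nil (nat_lit 2316) (nat_lit 421) (nat_lit 2724) .nil) (nat_lit
  2317) (nat_lit 456) (nat_lit 1925) .nil))) (nat_lit 2318) (nat_lit 456) (nat_lit 1926) (.node (.node (.node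
  (.node .nil (nat_lit 2319) (nat_lit 424) (nat_lit 2560) .nil) (nat_lit 2320) (nat_lit 424) (nat_lit 2697)
  (.node .nil (nat_lit 2321) (nat_lit 453) (nat_lit 2535) .nil)) (nat_lit 2322) (nat_lit 455) (nat_lit 1925)
  (.node (.node .nil (nat_lit 2323) (nat_lit 384) (nat_lit 1930) .nil) (nat_lit 2324) (nat_lit 392) (nat_lit
  1930) .nil)) (nat_lit 2325) (nat_lit 353) (nat_lit 1965) (.node (.node (.node .nil (nat_lit 2326) (nat_lit
  451) (nat_lit 2476) .nil) (nat_lit 2327) (nat_lit 320) (nat_lit 1937) (.node .nil (nat_lit 2328) (nat_lit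
  488) (nat_lit 1936) .nil)) (nat_lit 2329) (nat_lit 328) (nat_lit 1937) (.node (.node .nil (nat_lit 2330)
  (nat_lit 359) (nat_lit 2739) .nil) (nat_lit 2331) (nat_lit 483) (nat_lit 2563) .nil)))) (nat_lit 2332)
  (nat_lit 325) (nat_lit 1940) (.node (.node (.node (.node (.node .nil (nat_lit 2333) (nat_lit 456) (nat_lit
  2744) .nil) (nat_lit 2334) (nat_lit 486) (nat_lit 1936) (.node .nil (nat_lit 2335) (nat_lit 487) (nat_lit
  1936) .nil)) (nat_lit 2336) (nat_lit 324) (nat_lit 2644) (.node (.node .nil (nat_lit 2337) (nat_lit 322)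
  (nat_lit 2644) .nil) (nat_lit 2338) (nat_lit 355) (nat_lit 2626) .nil)) (nat_lit 2339) (nat_lit 355)
  (nat_lit 2629) (.node (.node (.node .nil (nat_lit 2340) (nat_lit 355) (nat_lit 1938) .nil) (nat_lit 2341)
  (nat_lit 355) (nat_lit 2625) (.node .nil (nat_lit 2342) (nat_lit 360) (nat_lit 1941) .nil)) (nat_lit 2343)
  (nat_lit 355) (nat_lit 1909) (.node (.node .nil (nat_lit 2344) (nat_lit 355) (nat_lit 2638) .nil) (nat_lit
  2345) (nat_lit 323) (nat_lit 1910) .nil))) (nat_lit 2346) (nat_lit 323) (nat_lit 1858) (.node (.node (.node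
  (.node .nil (nat_lit 2347) (nat_lit 448) (nat_lit 2665) .nil) (nat_lit 2348) (nat_lit 488) (nat_lit 1947)
  (.node .nil (nat_lit 2349) (nat_lit 448) (nat_lit 1980) .nil)) (nat_lit 2350) (nat_lit 418) (nat_lit 1959)
  (.node (.node .nil (nat_lit 2351) (nat_lit 456) (nat_lit 2565) .nil) (nat_lit 2352) (nat_lit 456) (nat_lit
  2757) .nil)) (nat_lit 2353) (nat_lit 484) (nat_lit 1947) (.node (.node (.node .nil (nat_lit 2354) (nat_lit
  487) (nat_lit 1947) .nil) (nat_lit 2355) (nat_lit 360) (nat_lit 1951) .nil) (nat_lit 2356) (nat_lit 456)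
  (nat_lit 2566) (.node (.node .nil (nat_lit 2357) (nat_lit 488) (nat_lit 1962) .nil) (nat_lit 2358) (nat_lit
  488) (nat_lit 1963) .nil))))) (nat_lit 2359) (nat_lit 417) (nat_lit 2697) (.node (.node (.node (.node (.node
  (.node .nil (nat_lit 2360) (nat_lit 456) (nat_lit 2502) .nil) (nat_lit 2361) (nat_lit 487) (nat_lit 1962)
  (.node .nil (nat_lit 2362) (nat_lit 453) (nat_lit 2763) .nil)) (nat_lit 2363) (nat_lit 293) (nat_lit 2682)
  (.node (.node .nil (nat_lit 2364) (nat_lit 419) (nat_lit 1725) .nil) (nat_lit 2365) (nat_lit 296) (nat_lit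
  2680) .nil)) (nat_lit 2366) (nat_lit 456) (nat_lit 2727) (.node (.node (.node .nil (nat_lit 2367) (nat_lit
  454) (nat_lit 1969) .nil) (nat_lit 2368) (nat_lit 456) (nat_lit 2765) (.node .nil (nat_lit 2369) (nat_lit
  421) (nat_lit 2771) .nil)) (nat_lit 2370) (nat_lit 261) (nat_lit 1991) (.node (.node .nil (nat_lit 2371)
  (nat_lit 420) (nat_lit 2771) .nil) (nat_lit 2372) (nat_lit 454) (nat_lit 1972) .nil))) (nat_lit 2373)
  (nat_lit 421) (nat_lit 2662) (.node (.node (.node (.node .nil (nat_lit 2374) (nat_lit 424) (nat_lit 2772)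
  .nil) (nat_lit 2375) (nat_lit 424) (nat_lit 2773) (.node .nil (nat_lit 2376) (nat_lit 456) (nat_lit 2775)
  .nil)) (nat_lit 2377) (nat_lit 456) (nat_lit 2776) (.node (.node .nil (nat_lit 2378) (nat_lit 454) (nat_lit
  1978) .nil) (nat_lit 2379) (nat_lit 484) (nat_lit 1979) .nil)) (nat_lit 2380) (nat_lit 454) (nat_lit 1980)
  (.node (.node (.node .nil (nat_lit 2381) (nat_lit 488) (nat_lit 2782) .nil) (nat_lit 2382) (nat_lit 488)
  (nat_lit 2783) (.node .nil (nat_lit 2383) (nat_lit 484) (nat_lit 1983) .nil)) (nat_lit 2384) (nat_lit 484)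
  (nat_lit 1985) (.node (.node .nil (nat_lit 2385) (nat_lit 384) (nat_lit 2681) .nil) (nat_lit 2386) (nat_lit
  259) (nat_lit 1323) .nil)))) (nat_lit 2387) (nat_lit 327) (nat_lit 2786) (.node (.node (.node (.node (.node
  .nil (nat_lit 2388) (nat_lit 453) (nat_lit 2787) .nil) (nat_lit 2389) (nat_lit 293) (nat_lit 2444) (.node
  .nil (nat_lit 2390) (nat_lit 416) (nat_lit 2790) .nil)) (nat_lit 2391) (nat_lit 421) (nat_lit 2792) (.node
  (.node .nil (nat_lit 2392) (nat_lit 424) (nat_lit 1997) .nil) (nat_lit 2393) (nat_lit 384) (nat_lit 2726)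
  .nil)) (nat_lit 2394) (nat_lit 392) (nat_lit 2000) (.node (.node (.node .nil (nat_lit 2395) (nat_lit 359)
  (nat_lit 2795) .nil) (nat_lit 2396) (nat_lit 359) (nat_lit 2749) (.node .nil (nat_lit 2397) (nat_lit 360)
  (nat_lit 2638) .nil)) (nat_lit 2398) (nat_lit 451) (nat_lit 2494) (.node (.node .nil (nat_lit 2399) (nat_lit
  328) (nat_lit 2640) .nil) (nat_lit 2400) (nat_lit 328) (nat_lit 2786) .nil))) (nat_lit 2401) (nat_lit 456)
  (nat_lit 2801) (.node (.node (.node (.node .nil (nat_lit 2402) (nat_lit 454) (nat_lit 2003) .nil) (nat_lit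
  2403) (nat_lit 456) (nat_lit 2789) (.node .nil (nat_lit 2404) (nat_lit 421) (nat_lit 2791) .nil)) (nat_lit
  2405) (nat_lit 456) (nat_lit 2804) (.node (.node .nil (nat_lit 2406) (nat_lit 456) (nat_lit 2728) .nil)
  (nat_lit 2407) (nat_lit 451) (nat_lit 2744) .nil)) (nat_lit 2408) (nat_lit 328) (nat_lit 2628) (.node (.node
  (.node .nil (nat_lit 2409) (nat_lit 451) (nat_lit 2588) .nil) (nat_lit 2410) (nat_lit 325) (nat_lit 2644)
  .nil) (nat_lit 2411) (nat_lit 453) (nat_lit 2010) (.node (.node .nil (nat_lit 2412) (nat_lit 454) (nat_lit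
  2010) .nil) (nat_lit 2413) (nat_lit 456) (nat_lit 2643) .nil))))))
def t0_22 : T := (.node (.node (.node (.node (.node (.node (.node .nil (nat_lit 2415) (nat_lit 454) (nat_lit
  2012) .nil) (nat_lit 2416) (nat_lit 453) (nat_lit 2014) (.node .nil (nat_lit 2417) (nat_lit 456) (nat_lit
  2653) .nil)) (nat_lit 2418) (nat_lit 456) (nat_lit 2654) (.node (.node .nil (nat_lit 2419) (nat_lit 421)
  (nat_lit 2793) .nil) (nat_lit 2420) (nat_lit 456) (nat_lit 2688) .nil)) (nat_lit 2421) (nat_lit 456)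
  (nat_lit 2694) (.node (.node (.node .nil (nat_lit 2422) (nat_lit 456) (nat_lit 2695) .nil) (nat_lit 2423)
  (nat_lit 291) (nat_lit 1852) (.node .nil (nat_lit 2424) (nat_lit 291) (nat_lit 1363) .nil)) (nat_lit 2425)
  (nat_lit 453) (nat_lit 2021) (.node (.node .nil (nat_lit 2426) (nat_lit 454) (nat_lit 2021) .nil) (nat_lit
  2427) (nat_lit 456) (nat_lit 2606) .nil))) (nat_lit 2428) (nat_lit 452) (nat_lit 2023) (.node (.node (.node
  (.node .nil (nat_lit 2429) (nat_lit 456) (nat_lit 2659) .nil) (nat_lit 2430) (nat_lit 456) (nat_lit 2660)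
  (.node .nil (nat_lit 2431) (nat_lit 456) (nat_lit 2661) .nil)) (nat_lit 2432) (nat_lit 456) (nat_lit 2664)
  (.node (.node .nil (nat_lit 2433) (nat_lit 295) (nat_lit 2029) .nil) (nat_lit 2434) (nat_lit 453) (nat_lit
  2031) .nil)) (nat_lit 2435) (nat_lit 454) (nat_lit 2031) (.node (.node (.node .nil (nat_lit 2436) (nat_lit
  455) (nat_lit 2031) .nil) (nat_lit 2437) (nat_lit 454) (nat_lit 2033) (.node .nil (nat_lit 2438) (nat_lit
  455) (nat_lit 2033) .nil)) (nat_lit 2439) (nat_lit 452) (nat_lit 2034) (.node (.node .nil (nat_lit 2440)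
  (nat_lit 455) (nat_lit 2034) .nil) (nat_lit 2441) (nat_lit 421) (nat_lit 2496) .nil)))) (nat_lit 2442)
  (nat_lit 455) (nat_lit 2037) (.node (.node (.node (.node (.node .nil (nat_lit 2443) (nat_lit 456) (nat_lit
  2656) .nil) (nat_lit 2444) (nat_lit 276) (nat_lit 2045) (.node .nil (nat_lit 2445) (nat_lit 404) (nat_lit
  2835) .nil)) (nat_lit 2446) (nat_lit 404) (nat_lit 2238) (.node (.node .nil (nat_lit 2447) (nat_lit 406)
  (nat_lit 2046) .nil) (nat_lit 2448) (nat_lit 437) (nat_lit 2838) .nil)) (nat_lit 2449) (nat_lit 438)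
  (nat_lit 2047) (.node (.node (.node .nil (nat_lit 2450) (nat_lit 406) (nat_lit 2187) .nil) (nat_lit 2451)
  (nat_lit 404) (nat_lit 2071) (.node .nil (nat_lit 2452) (nat_lit 372) (nat_lit 2086) .nil)) (nat_lit 2453)
  (nat_lit 406) (nat_lit 2049) (.node (.node .nil (nat_lit 2454) (nat_lit 374) (nat_lit 2203) .nil) (nat_lit
  2455) (nat_lit 404) (nat_lit 2069) .nil))) (nat_lit 2456) (nat_lit 438) (nat_lit 2051) (.node (.node (.node
  (.node .nil (nat_lit 2457) (nat_lit 406) (nat_lit 2067) .nil) (nat_lit 2458) (nat_lit 404) (nat_lit 2854)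
  (.node .nil (nat_lit 2459) (nat_lit 372) (nat_lit 2065) .nil)) (nat_lit 2460) (nat_lit 369) (nat_lit 2060)
  (.node (.node .nil (nat_lit 2461) (nat_lit 406) (nat_lit 2054) .nil) (nat_lit 2462) (nat_lit 340) (nat_lit
  2061) .nil)) (nat_lit 2463) (nat_lit 374) (nat_lit 2055) (.node (.node (.node .nil (nat_lit 2464) (nat_lit
  374) (nat_lit 2072) .nil) (nat_lit 2465) (nat_lit 339) (nat_lit 1636) .nil) (nat_lit 2466) (nat_lit 340)
  (nat_lit 2097) (.node (.node .nil (nat_lit 2467) (nat_lit 339) (nat_lit 2296) .nil) (nat_lit 2468) (nat_lit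
  339) (nat_lit 1683) .nil))))) (nat_lit 2469) (nat_lit 369) (nat_lit 2859) (.node (.node (.node (.node (.node
  (.node .nil (nat_lit 2470) (nat_lit 401) (nat_lit 2240) .nil) (nat_lit 2471) (nat_lit 400) (nat_lit 2854)
  (.node .nil (nat_lit 2472) (nat_lit 404) (nat_lit 2068) .nil)) (nat_lit 2473) (nat_lit 400) (nat_lit 2238)
  (.node (.node .nil (nat_lit 2474) (nat_lit 406) (nat_lit 2070) .nil) (nat_lit 2475) (nat_lit 372) (nat_lit
  2325) .nil)) (nat_lit 2476) (nat_lit 434) (nat_lit 2861) (.node (.node (.node .nil (nat_lit 2477) (nat_lit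
  438) (nat_lit 2074) .nil) (nat_lit 2478) (nat_lit 440) (nat_lit 2852) (.node .nil (nat_lit 2479) (nat_lit
  437) (nat_lit 2861) .nil)) (nat_lit 2480) (nat_lit 438) (nat_lit 2076) (.node (.node .nil (nat_lit 2481)
  (nat_lit 436) (nat_lit 2852) .nil) (nat_lit 2482) (nat_lit 369) (nat_lit 2873) .nil))) (nat_lit 2483)
  (nat_lit 404) (nat_lit 2078) (.node (.node (.node (.node .nil (nat_lit 2484) (nat_lit 408) (nat_lit 2863)
  .nil) (nat_lit 2485) (nat_lit 437) (nat_lit 2875) (.node .nil (nat_lit 2486) (nat_lit 438) (nat_lit 2079)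
  .nil)) (nat_lit 2487) (nat_lit 437) (nat_lit 2850) (.node (.node .nil (nat_lit 2488) (nat_lit 464) (nat_lit
  2081) .nil) (nat_lit 2489) (nat_lit 470) (nat_lit 2081) .nil)) (nat_lit 2490) (nat_lit 437) (nat_lit 2167)
  (.node (.node (.node .nil (nat_lit 2491) (nat_lit 438) (nat_lit 2084) .nil) (nat_lit 2492) (nat_lit 468)
  (nat_lit 2891) (.node .nil (nat_lit 2493) (nat_lit 438) (nat_lit 2083) .nil)) (nat_lit 2494) (nat_lit 434)
  (nat_lit 2875) (.node (.node .nil (nat_lit 2495) (nat_lit 344) (nat_lit 2206) .nil) (nat_lit 2496) (nat_lit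
  408) (nat_lit 2240) .nil)))) (nat_lit 2497) (nat_lit 406) (nat_lit 2087) (.node (.node (.node (.node (.node
  .nil (nat_lit 2498) (nat_lit 376) (nat_lit 2325) .nil) (nat_lit 2499) (nat_lit 408) (nat_lit 2856) (.node
  .nil (nat_lit 2500) (nat_lit 438) (nat_lit 2090) .nil)) (nat_lit 2501) (nat_lit 472) (nat_lit 2093) (.node
  (.node .nil (nat_lit 2502) (nat_lit 438) (nat_lit 2359) .nil) (nat_lit 2503) (nat_lit 468) (nat_lit 2897)
  .nil)) (nat_lit 2504) (nat_lit 436) (nat_lit 2151) (.node (.node (.node .nil (nat_lit 2505) (nat_lit 339)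
  (nat_lit 2226) .nil) (nat_lit 2506) (nat_lit 432) (nat_lit 2099) (.node .nil (nat_lit 2507) (nat_lit 438)
  (nat_lit 2099) .nil)) (nat_lit 2508) (nat_lit 437) (nat_lit 2100) (.node (.node .nil (nat_lit 2509) (nat_lit
  279) (nat_lit 2108) .nil) (nat_lit 2510) (nat_lit 404) (nat_lit 2904) .nil))) (nat_lit 2511) (nat_lit 437)
  (nat_lit 2103) (.node (.node (.node (.node .nil (nat_lit 2512) (nat_lit 438) (nat_lit 2103) .nil) (nat_lit
  2513) (nat_lit 436) (nat_lit 2104) (.node .nil (nat_lit 2514) (nat_lit 472) (nat_lit 2105) .nil)) (nat_lit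
  2515) (nat_lit 470) (nat_lit 2105) (.node (.node .nil (nat_lit 2516) (nat_lit 468) (nat_lit 2106) .nil)
  (nat_lit 2517) (nat_lit 400) (nat_lit 2835) .nil)) (nat_lit 2518) (nat_lit 437) (nat_lit 2109) (.node (.node
  (.node .nil (nat_lit 2519) (nat_lit 438) (nat_lit 2109) .nil) (nat_lit 2520) (nat_lit 469) (nat_lit 2112)
  .nil) (nat_lit 2521) (nat_lit 472) (nat_lit 2110) (.node (.node .nil (nat_lit 2522) (nat_lit 470) (nat_lit
  2110) .nil) (nat_lit 2523) (nat_lit 468) (nat_lit 2111) .nil))))))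
def t0_23 : T := (.node (.node (.node (.node (.node (.node (.node .nil (nat_lit 2525) (nat_lit 434) (nat_lit
  2121) .nil) (nat_lit 2526) (nat_lit 472) (nat_lit 2928) (.node .nil (nat_lit 2527) (nat_lit 438) (nat_lit
  2113) .nil)) (nat_lit 2528) (nat_lit 436) (nat_lit 2844) (.node (.node .nil (nat_lit 2529) (nat_lit 469)
  (nat_lit 2122) .nil) (nat_lit 2530) (nat_lit 470) (nat_lit 2117) .nil)) (nat_lit 2531) (nat_lit 496)
  (nat_lit 2172) (.node (.node (.node .nil (nat_lit 2532) (nat_lit 468) (nat_lit 2290) .nil) (nat_lit 2533)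
  (nat_lit 497) (nat_lit 2119) (.node .nil (nat_lit 2534) (nat_lit 440) (nat_lit 2235) .nil)) (nat_lit 2535)
  (nat_lit 440) (nat_lit 2239) (.node (.node .nil (nat_lit 2536) (nat_lit 438) (nat_lit 2121) .nil) (nat_lit
  2537) (nat_lit 404) (nat_lit 2312) .nil))) (nat_lit 2538) (nat_lit 408) (nat_lit 2312) (.node (.node (.node
  (.node .nil (nat_lit 2539) (nat_lit 440) (nat_lit 2934) .nil) (nat_lit 2540) (nat_lit 406) (nat_lit 2125)
  (.node .nil (nat_lit 2541) (nat_lit 408) (nat_lit 2284) .nil)) (nat_lit 2542) (nat_lit 374) (nat_lit 2146)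
  (.node (.node .nil (nat_lit 2543) (nat_lit 374) (nat_lit 2128) .nil) (nat_lit 2544) (nat_lit 342) (nat_lit
  2133) .nil)) (nat_lit 2545) (nat_lit 376) (nat_lit 2343) (.node (.node (.node .nil (nat_lit 2546) (nat_lit
  376) (nat_lit 2233) .nil) (nat_lit 2547) (nat_lit 339) (nat_lit 1613) (.node .nil (nat_lit 2548) (nat_lit
  371) (nat_lit 2294) .nil)) (nat_lit 2549) (nat_lit 344) (nat_lit 2174) (.node (.node .nil (nat_lit 2550)
  (nat_lit 408) (nat_lit 2178) .nil) (nat_lit 2551) (nat_lit 376) (nat_lit 2155) .nil)))) (nat_lit 2552)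
  (nat_lit 408) (nat_lit 2181) (.node (.node (.node (.node (.node .nil (nat_lit 2553) (nat_lit 404) (nat_lit
  2140) .nil) (nat_lit 2554) (nat_lit 440) (nat_lit 2943) (.node .nil (nat_lit 2555) (nat_lit 440) (nat_lit
  2944) .nil)) (nat_lit 2556) (nat_lit 408) (nat_lit 2156) (.node (.node .nil (nat_lit 2557) (nat_lit 372)
  (nat_lit 2155) .nil) (nat_lit 2558) (nat_lit 406) (nat_lit 2143) .nil)) (nat_lit 2559) (nat_lit 408)
  (nat_lit 2168) (.node (.node (.node .nil (nat_lit 2560) (nat_lit 406) (nat_lit 2282) .nil) (nat_lit 2561)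
  (nat_lit 434) (nat_lit 2943) (.node .nil (nat_lit 2562) (nat_lit 438) (nat_lit 2147) .nil)) (nat_lit 2563)
  (nat_lit 466) (nat_lit 2945) (.node (.node .nil (nat_lit 2564) (nat_lit 472) (nat_lit 2950) .nil) (nat_lit
  2565) (nat_lit 438) (nat_lit 2350) .nil))) (nat_lit 2566) (nat_lit 438) (nat_lit 2287) (.node (.node (.node
  (.node .nil (nat_lit 2567) (nat_lit 464) (nat_lit 2152) .nil) (nat_lit 2568) (nat_lit 469) (nat_lit 2946)
  (.node .nil (nat_lit 2569) (nat_lit 472) (nat_lit 2893) .nil)) (nat_lit 2570) (nat_lit 338) (nat_lit 2174)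
  (.node (.node .nil (nat_lit 2571) (nat_lit 401) (nat_lit 2156) .nil) (nat_lit 2572) (nat_lit 406) (nat_lit
  2156) .nil)) (nat_lit 2573) (nat_lit 408) (nat_lit 2937) (.node (.node (.node .nil (nat_lit 2574) (nat_lit
  432) (nat_lit 2158) .nil) (nat_lit 2575) (nat_lit 438) (nat_lit 2158) .nil) (nat_lit 2576) (nat_lit 438)
  (nat_lit 2160) (.node (.node .nil (nat_lit 2577) (nat_lit 468) (nat_lit 2928) .nil) (nat_lit 2578) (nat_lit
  437) (nat_lit 2943) .nil))))) (nat_lit 2579) (nat_lit 467) (nat_lit 3074) (.node (.node (.node (.node (.node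
  (.node .nil (nat_lit 2580) (nat_lit 472) (nat_lit 2964) .nil) (nat_lit 2581) (nat_lit 472) (nat_lit 2869)
  (.node .nil (nat_lit 2582) (nat_lit 465) (nat_lit 2975) .nil)) (nat_lit 2583) (nat_lit 504) (nat_lit 2966)
  (.node (.node .nil (nat_lit 2584) (nat_lit 472) (nat_lit 2870) .nil) (nat_lit 2585) (nat_lit 438) (nat_lit
  2167) .nil)) (nat_lit 2586) (nat_lit 501) (nat_lit 2165) (.node (.node (.node .nil (nat_lit 2587) (nat_lit
  468) (nat_lit 2867) .nil) (nat_lit 2588) (nat_lit 434) (nat_lit 2961) (.node .nil (nat_lit 2589) (nat_lit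
  468) (nat_lit 2224) .nil)) (nat_lit 2590) (nat_lit 468) (nat_lit 2437) (.node (.node .nil (nat_lit 2591)
  (nat_lit 469) (nat_lit 2173) .nil) (nat_lit 2592) (nat_lit 339) (nat_lit 2227) .nil))) (nat_lit 2593)
  (nat_lit 311) (nat_lit 2423) (.node (.node (.node (.node .nil (nat_lit 2594) (nat_lit 369) (nat_lit 2231)
  .nil) (nat_lit 2595) (nat_lit 404) (nat_lit 2985) (.node .nil (nat_lit 2596) (nat_lit 406) (nat_lit 2177)
  .nil)) (nat_lit 2597) (nat_lit 406) (nat_lit 2178) (.node (.node .nil (nat_lit 2598) (nat_lit 374) (nat_lit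
  2184) .nil) (nat_lit 2599) (nat_lit 406) (nat_lit 2186) .nil)) (nat_lit 2600) (nat_lit 338) (nat_lit 2346)
  (.node (.node (.node .nil (nat_lit 2601) (nat_lit 338) (nat_lit 2345) .nil) (nat_lit 2602) (nat_lit 372)
  (nat_lit 2314) .nil) (nat_lit 2603) (nat_lit 372) (nat_lit 2185) (.node (.node .nil (nat_lit 2604) (nat_lit
  401) (nat_lit 2215) .nil) (nat_lit 2605) (nat_lit 401) (nat_lit 2187) .nil)))) (nat_lit 2606) (nat_lit 432)
  (nat_lit 2246) (.node (.node (.node (.node (.node .nil (nat_lit 2607) (nat_lit 438) (nat_lit 2188) .nil)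
  (nat_lit 2608) (nat_lit 432) (nat_lit 2190) (.node .nil (nat_lit 2609) (nat_lit 436) (nat_lit 2189) .nil))
  (nat_lit 2610) (nat_lit 472) (nat_lit 2197) (.node (.node .nil (nat_lit 2611) (nat_lit 438) (nat_lit 2190)
  .nil) (nat_lit 2612) (nat_lit 436) (nat_lit 2199) .nil)) (nat_lit 2613) (nat_lit 472) (nat_lit 2193) (.node
  (.node (.node .nil (nat_lit 2614) (nat_lit 470) (nat_lit 2193) .nil) (nat_lit 2615) (nat_lit 471) (nat_lit
  2193) (.node .nil (nat_lit 2616) (nat_lit 472) (nat_lit 2993) .nil)) (nat_lit 2617) (nat_lit 468) (nat_lit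
  2995) (.node (.node .nil (nat_lit 2618) (nat_lit 472) (nat_lit 2995) .nil) (nat_lit 2619) (nat_lit 438)
  (nat_lit 2202) .nil))) (nat_lit 2620) (nat_lit 437) (nat_lit 2202) (.node (.node (.node (.node .nil (nat_lit
  2621) (nat_lit 406) (nat_lit 2207) .nil) (nat_lit 2622) (nat_lit 374) (nat_lit 2210) (.node .nil (nat_lit
  2623) (nat_lit 438) (nat_lit 2212) .nil)) (nat_lit 2624) (nat_lit 406) (nat_lit 2215) (.node (.node .nil
  (nat_lit 2625) (nat_lit 343) (nat_lit 3002) .nil) (nat_lit 2626) (nat_lit 343) (nat_lit 3003) .nil))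
  (nat_lit 2627) (nat_lit 469) (nat_lit 2865) (.node (.node (.node .nil (nat_lit 2628) (nat_lit 309) (nat_lit
  2220) .nil) (nat_lit 2629) (nat_lit 343) (nat_lit 2336) .nil) (nat_lit 2630) (nat_lit 339) (nat_lit 1614)
  (.node (.node .nil (nat_lit 2631) (nat_lit 308) (nat_lit 2220) .nil) (nat_lit 2632) (nat_lit 339) (nat_lit
  2299) .nil))))))
def t0_24 : T := (.node (.node (.node (.node (.node (.node (.node .nil (nat_lit 2634) (nat_lit 438) (nat_lit
  2225) .nil) (nat_lit 2635) (nat_lit 343) (nat_lit 3005) (.node .nil (nat_lit 2636) (nat_lit 464) (nat_lit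
  2228) .nil)) (nat_lit 2637) (nat_lit 304) (nat_lit 2229) (.node (.node .nil (nat_lit 2638) (nat_lit 343)
  (nat_lit 3007) .nil) (nat_lit 2639) (nat_lit 469) (nat_lit 2945) .nil)) (nat_lit 2640) (nat_lit 309)
  (nat_lit 2232) (.node (.node (.node .nil (nat_lit 2641) (nat_lit 433) (nat_lit 2235) .nil) (nat_lit 2642)
  (nat_lit 470) (nat_lit 2228) (.node .nil (nat_lit 2643) (nat_lit 437) (nat_lit 2961) .nil)) (nat_lit 2644)
  (nat_lit 307) (nat_lit 1616) (.node (.node .nil (nat_lit 2645) (nat_lit 307) (nat_lit 2220) .nil) (nat_lit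
  2646) (nat_lit 370) (nat_lit 2938) .nil))) (nat_lit 2647) (nat_lit 370) (nat_lit 2340) (.node (.node (.node
  (.node .nil (nat_lit 2648) (nat_lit 370) (nat_lit 2339) .nil) (nat_lit 2649) (nat_lit 370) (nat_lit 2858)
  (.node .nil (nat_lit 2650) (nat_lit 370) (nat_lit 2860) .nil)) (nat_lit 2651) (nat_lit 438) (nat_lit 2235)
  (.node (.node .nil (nat_lit 2652) (nat_lit 404) (nat_lit 2393) .nil) (nat_lit 2653) (nat_lit 438) (nat_lit
  2276) .nil)) (nat_lit 2654) (nat_lit 438) (nat_lit 2237) (.node (.node (.node .nil (nat_lit 2655) (nat_lit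
  406) (nat_lit 2240) .nil) (nat_lit 2656) (nat_lit 438) (nat_lit 2288) (.node .nil (nat_lit 2657) (nat_lit
  470) (nat_lit 2243) .nil)) (nat_lit 2658) (nat_lit 468) (nat_lit 2245) (.node (.node .nil (nat_lit 2659)
  (nat_lit 438) (nat_lit 2246) .nil) (nat_lit 2660) (nat_lit 438) (nat_lit 2252) .nil)))) (nat_lit 2661)
  (nat_lit 438) (nat_lit 2277) (.node (.node (.node (.node (.node .nil (nat_lit 2662) (nat_lit 404) (nat_lit
  2385) .nil) (nat_lit 2663) (nat_lit 438) (nat_lit 2251) (.node .nil (nat_lit 2664) (nat_lit 432) (nat_lit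
  2252) .nil)) (nat_lit 2665) (nat_lit 437) (nat_lit 2254) (.node (.node .nil (nat_lit 2666) (nat_lit 436)
  (nat_lit 2253) .nil) (nat_lit 2667) (nat_lit 438) (nat_lit 2254) .nil)) (nat_lit 2668) (nat_lit 468)
  (nat_lit 2255) (.node (.node (.node .nil (nat_lit 2669) (nat_lit 437) (nat_lit 2359) .nil) (nat_lit 2670)
  (nat_lit 470) (nat_lit 2256) (.node .nil (nat_lit 2671) (nat_lit 472) (nat_lit 2258) .nil)) (nat_lit 2672)
  (nat_lit 468) (nat_lit 2258) (.node (.node .nil (nat_lit 2673) (nat_lit 504) (nat_lit 2912) .nil) (nat_lit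
  2674) (nat_lit 470) (nat_lit 2259) .nil))) (nat_lit 2675) (nat_lit 468) (nat_lit 2261) (.node (.node (.node
  (.node .nil (nat_lit 2676) (nat_lit 497) (nat_lit 2384) .nil) (nat_lit 2677) (nat_lit 497) (nat_lit 2912)
  (.node .nil (nat_lit 2678) (nat_lit 497) (nat_lit 2930) .nil)) (nat_lit 2679) (nat_lit 437) (nat_lit 3024)
  (.node (.node .nil (nat_lit 2680) (nat_lit 277) (nat_lit 2269) .nil) (nat_lit 2681) (nat_lit 369) (nat_lit
  2300) .nil)) (nat_lit 2682) (nat_lit 275) (nat_lit 1561) (.node (.node (.node .nil (nat_lit 2683) (nat_lit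
  404) (nat_lit 3026) .nil) (nat_lit 2684) (nat_lit 406) (nat_lit 2268) .nil) (nat_lit 2685) (nat_lit 404)
  (nat_lit 2986) (.node (.node .nil (nat_lit 2686) (nat_lit 312) (nat_lit 2272) .nil) (nat_lit 2687) (nat_lit
  408) (nat_lit 2310) .nil))))) (nat_lit 2688) (nat_lit 439) (nat_lit 2271) (.node (.node (.node (.node (.node
  (.node .nil (nat_lit 2689) (nat_lit 404) (nat_lit 2310) .nil) (nat_lit 2690) (nat_lit 408) (nat_lit 2273)
  (.node .nil (nat_lit 2691) (nat_lit 406) (nat_lit 2273) .nil)) (nat_lit 2692) (nat_lit 404) (nat_lit 2313)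
  (.node (.node .nil (nat_lit 2693) (nat_lit 406) (nat_lit 2275) .nil) (nat_lit 2694) (nat_lit 437) (nat_lit
  3032) .nil)) (nat_lit 2695) (nat_lit 437) (nat_lit 3033) (.node (.node (.node .nil (nat_lit 2696) (nat_lit
  408) (nat_lit 2323) .nil) (nat_lit 2697) (nat_lit 404) (nat_lit 2323) (.node .nil (nat_lit 2698) (nat_lit
  408) (nat_lit 2285) .nil)) (nat_lit 2699) (nat_lit 406) (nat_lit 2285) (.node (.node .nil (nat_lit 2700)
  (nat_lit 437) (nat_lit 2350) .nil) (nat_lit 2701) (nat_lit 472) (nat_lit 3021) .nil))) (nat_lit 2702)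
  (nat_lit 497) (nat_lit 2383) (.node (.node (.node (.node .nil (nat_lit 2703) (nat_lit 467) (nat_lit 2926)
  .nil) (nat_lit 2704) (nat_lit 336) (nat_lit 2298) (.node .nil (nat_lit 2705) (nat_lit 472) (nat_lit 2297)
  .nil)) (nat_lit 2706) (nat_lit 344) (nat_lit 2298) (.node (.node .nil (nat_lit 2707) (nat_lit 469) (nat_lit
  3044) .nil) (nat_lit 2708) (nat_lit 309) (nat_lit 2301) .nil)) (nat_lit 2709) (nat_lit 440) (nat_lit 3032)
  (.node (.node (.node .nil (nat_lit 2710) (nat_lit 470) (nat_lit 2297) .nil) (nat_lit 2711) (nat_lit 471)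
  (nat_lit 2297) (.node .nil (nat_lit 2712) (nat_lit 370) (nat_lit 2338) .nil)) (nat_lit 2713) (nat_lit 370)
  (nat_lit 2341) (.node (.node .nil (nat_lit 2714) (nat_lit 376) (nat_lit 2302) .nil) (nat_lit 2715) (nat_lit
  370) (nat_lit 2343) .nil)))) (nat_lit 2716) (nat_lit 370) (nat_lit 2344) (.node (.node (.node (.node (.node
  .nil (nat_lit 2717) (nat_lit 472) (nat_lit 2308) .nil) (nat_lit 2718) (nat_lit 472) (nat_lit 2309) (.node
  .nil (nat_lit 2719) (nat_lit 440) (nat_lit 2948) .nil)) (nat_lit 2720) (nat_lit 440) (nat_lit 3033) (.node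
  (.node .nil (nat_lit 2721) (nat_lit 469) (nat_lit 2933) .nil) (nat_lit 2722) (nat_lit 471) (nat_lit 2308)
  .nil)) (nat_lit 2723) (nat_lit 400) (nat_lit 3054) (.node (.node (.node .nil (nat_lit 2724) (nat_lit 400)
  (nat_lit 2313) .nil) (nat_lit 2725) (nat_lit 408) (nat_lit 2313) (.node .nil (nat_lit 2726) (nat_lit 369)
  (nat_lit 2960) .nil)) (nat_lit 2727) (nat_lit 437) (nat_lit 3059) (.node (.node .nil (nat_lit 2728) (nat_lit
  437) (nat_lit 3060) .nil) (nat_lit 2729) (nat_lit 472) (nat_lit 2322) .nil))) (nat_lit 2730) (nat_lit 440)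
  (nat_lit 2896) (.node (.node (.node (.node .nil (nat_lit 2731) (nat_lit 437) (nat_lit 2864) .nil) (nat_lit
  2732) (nat_lit 472) (nat_lit 3037) (.node .nil (nat_lit 2733) (nat_lit 470) (nat_lit 2326) .nil)) (nat_lit
  2734) (nat_lit 472) (nat_lit 3046) (.node (.node .nil (nat_lit 2735) (nat_lit 464) (nat_lit 3038) .nil)
  (nat_lit 2736) (nat_lit 504) (nat_lit 2334) .nil)) (nat_lit 2737) (nat_lit 464) (nat_lit 3046) (.node (.node
  (.node .nil (nat_lit 2738) (nat_lit 467) (nat_lit 3077) .nil) (nat_lit 2739) (nat_lit 341) (nat_lit 2337)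
  .nil) (nat_lit 2740) (nat_lit 466) (nat_lit 3044) (.node (.node .nil (nat_lit 2741) (nat_lit 502) (nat_lit
  2331) .nil) (nat_lit 2742) (nat_lit 469) (nat_lit 3077) .nil))))))
def t0_25 : T := (.node (.node (.node (.node (.node (.node (.node .nil (nat_lit 2744) (nat_lit 434) (nat_lit
  3032) .nil) (nat_lit 2745) (nat_lit 472) (nat_lit 2954) (.node .nil (nat_lit 2746) (nat_lit 472) (nat_lit
  3074) .nil)) (nat_lit 2747) (nat_lit 500) (nat_lit 2334) (.node (.node .nil (nat_lit 2748) (nat_lit 503)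
  (nat_lit 2334) .nil) (nat_lit 2749) (nat_lit 341) (nat_lit 2336) .nil)) (nat_lit 2750) (nat_lit 376)
  (nat_lit 2344) (.node (.node (.node .nil (nat_lit 2751) (nat_lit 371) (nat_lit 2395) .nil) (nat_lit 2752)
  (nat_lit 371) (nat_lit 2396) (.node .nil (nat_lit 2753) (nat_lit 371) (nat_lit 2330) .nil)) (nat_lit 2754)
  (nat_lit 470) (nat_lit 2347) (.node (.node .nil (nat_lit 2755) (nat_lit 504) (nat_lit 2353) .nil) (nat_lit
  2756) (nat_lit 470) (nat_lit 2349) .nil))) (nat_lit 2757) (nat_lit 434) (nat_lit 2359) (.node (.node (.node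
  (.node .nil (nat_lit 2758) (nat_lit 472) (nat_lit 2891) .nil) (nat_lit 2759) (nat_lit 497) (nat_lit 2353)
  (.node .nil (nat_lit 2760) (nat_lit 503) (nat_lit 2353) .nil)) (nat_lit 2761) (nat_lit 472) (nat_lit 2900)
  (.node (.node .nil (nat_lit 2762) (nat_lit 504) (nat_lit 2361) .nil) (nat_lit 2763) (nat_lit 436) (nat_lit
  3024) .nil)) (nat_lit 2764) (nat_lit 470) (nat_lit 2362) (.node (.node (.node .nil (nat_lit 2765) (nat_lit
  437) (nat_lit 3027) .nil) (nat_lit 2766) (nat_lit 440) (nat_lit 3025) (.node .nil (nat_lit 2767) (nat_lit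
  472) (nat_lit 3061) .nil)) (nat_lit 2768) (nat_lit 472) (nat_lit 3062) (.node (.node .nil (nat_lit 2769)
  (nat_lit 472) (nat_lit 3091) .nil) (nat_lit 2770) (nat_lit 472) (nat_lit 3092) .nil)))) (nat_lit 2771)
  (nat_lit 400) (nat_lit 2986) (.node (.node (.node (.node (.node .nil (nat_lit 2772) (nat_lit 405) (nat_lit
  2904) .nil) (nat_lit 2773) (nat_lit 405) (nat_lit 2385) (.node .nil (nat_lit 2774) (nat_lit 438) (nat_lit
  2371) .nil)) (nat_lit 2775) (nat_lit 438) (nat_lit 2905) (.node (.node .nil (nat_lit 2776) (nat_lit 438)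
  (nat_lit 2373) .nil) (nat_lit 2777) (nat_lit 440) (nat_lit 2905) .nil)) (nat_lit 2778) (nat_lit 440)
  (nat_lit 2914) (.node (.node (.node .nil (nat_lit 2779) (nat_lit 472) (nat_lit 2908) .nil) (nat_lit 2780)
  (nat_lit 472) (nat_lit 2917) (.node .nil (nat_lit 2781) (nat_lit 468) (nat_lit 2378) .nil)) (nat_lit 2782)
  (nat_lit 468) (nat_lit 2908) (.node (.node .nil (nat_lit 2783) (nat_lit 468) (nat_lit 2380) .nil) (nat_lit
  2784) (nat_lit 504) (nat_lit 2982) .nil))) (nat_lit 2785) (nat_lit 504) (nat_lit 2922) (.node (.node (.node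
  (.node .nil (nat_lit 2786) (nat_lit 309) (nat_lit 2423) .nil) (nat_lit 2787) (nat_lit 436) (nat_lit 2390)
  (.node .nil (nat_lit 2788) (nat_lit 470) (nat_lit 2388) .nil)) (nat_lit 2789) (nat_lit 437) (nat_lit 3099)
  (.node (.node .nil (nat_lit 2790) (nat_lit 401) (nat_lit 2939) .nil) (nat_lit 2791) (nat_lit 400) (nat_lit
  2985) .nil)) (nat_lit 2792) (nat_lit 400) (nat_lit 3101) (.node (.node (.node .nil (nat_lit 2793) (nat_lit
  408) (nat_lit 2393) .nil) (nat_lit 2794) (nat_lit 467) (nat_lit 3075) .nil) (nat_lit 2795) (nat_lit 336)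
  (nat_lit 3007) (.node (.node .nil (nat_lit 2796) (nat_lit 467) (nat_lit 2894) .nil) (nat_lit 2797) (nat_lit
  344) (nat_lit 3007) .nil))))) (nat_lit 2798) (nat_lit 472) (nat_lit 3108) (.node (.node (.node (.node (.node
  (.node .nil (nat_lit 2799) (nat_lit 470) (nat_lit 2398) .nil) (nat_lit 2800) (nat_lit 472) (nat_lit 3009)
  (.node .nil (nat_lit 2801) (nat_lit 437) (nat_lit 2987) .nil)) (nat_lit 2802) (nat_lit 472) (nat_lit 2915)
  (.node (.node .nil (nat_lit 2803) (nat_lit 472) (nat_lit 3100) .nil) (nat_lit 2804) (nat_lit 437) (nat_lit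
  3102) .nil)) (nat_lit 2805) (nat_lit 469) (nat_lit 2407) (.node (.node (.node .nil (nat_lit 2806) (nat_lit
  470) (nat_lit 2407) .nil) (nat_lit 2807) (nat_lit 471) (nat_lit 2407) (.node .nil (nat_lit 2808) (nat_lit
  469) (nat_lit 2409) .nil)) (nat_lit 2809) (nat_lit 470) (nat_lit 2409) (.node (.node .nil (nat_lit 2810)
  (nat_lit 471) (nat_lit 2409) .nil) (nat_lit 2811) (nat_lit 464) (nat_lit 2411) .nil))) (nat_lit 2812)
  (nat_lit 469) (nat_lit 2925) (.node (.node (.node (.node .nil (nat_lit 2813) (nat_lit 470) (nat_lit 2411)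
  .nil) (nat_lit 2814) (nat_lit 469) (nat_lit 2413) (.node .nil (nat_lit 2815) (nat_lit 468) (nat_lit 2412)
  .nil)) (nat_lit 2816) (nat_lit 472) (nat_lit 3012) (.node (.node .nil (nat_lit 2817) (nat_lit 437) (nat_lit
  2874) .nil) (nat_lit 2818) (nat_lit 468) (nat_lit 2435) .nil)) (nat_lit 2819) (nat_lit 469) (nat_lit 2418)
  (.node (.node (.node .nil (nat_lit 2820) (nat_lit 472) (nat_lit 3016) .nil) (nat_lit 2821) (nat_lit 472)
  (nat_lit 3017) (.node .nil (nat_lit 2822) (nat_lit 469) (nat_lit 3074) .nil)) (nat_lit 2823) (nat_lit 472)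
  (nat_lit 3038) (.node (.node .nil (nat_lit 2824) (nat_lit 470) (nat_lit 2425) .nil) (nat_lit 2825) (nat_lit
  468) (nat_lit 2426) .nil)))) (nat_lit 2826) (nat_lit 472) (nat_lit 2992) (.node (.node (.node (.node (.node
  .nil (nat_lit 2827) (nat_lit 472) (nat_lit 3018) .nil) (nat_lit 2828) (nat_lit 472) (nat_lit 3019) (.node
  .nil (nat_lit 2829) (nat_lit 472) (nat_lit 3020) .nil)) (nat_lit 2830) (nat_lit 470) (nat_lit 2434) (.node
  (.node .nil (nat_lit 2831) (nat_lit 472) (nat_lit 2903) .nil) (nat_lit 2832) (nat_lit 471) (nat_lit 2435)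
  .nil)) (nat_lit 2833) (nat_lit 471) (nat_lit 2437) (.node (.node (.node .nil (nat_lit 2834) (nat_lit 471)
  (nat_lit 2439) .nil) (nat_lit 2835) (nat_lit 385) (nat_lit 2648) (.node .nil (nat_lit 2836) (nat_lit 420)
  (nat_lit 3131) .nil)) (nat_lit 2837) (nat_lit 422) (nat_lit 2445) (.node (.node .nil (nat_lit 2838) (nat_lit
  420) (nat_lit 2473) .nil) (nat_lit 2839) (nat_lit 388) (nat_lit 2482) .nil))) (nat_lit 2840) (nat_lit 422)
  (nat_lit 2446) (.node (.node (.node (.node .nil (nat_lit 2841) (nat_lit 390) (nat_lit 2603) .nil) (nat_lit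
  2842) (nat_lit 453) (nat_lit 3135) (.node .nil (nat_lit 2843) (nat_lit 454) (nat_lit 2448) .nil)) (nat_lit
  2844) (nat_lit 422) (nat_lit 2605) (.node (.node .nil (nat_lit 2845) (nat_lit 422) (nat_lit 2451) .nil)
  (nat_lit 2846) (nat_lit 390) (nat_lit 2452) .nil)) (nat_lit 2847) (nat_lit 390) (nat_lit 2459) (.node (.node
  (.node .nil (nat_lit 2848) (nat_lit 424) (nat_lit 2699) .nil) (nat_lit 2849) (nat_lit 358) (nat_lit 2462)
  .nil) (nat_lit 2850) (nat_lit 420) (nat_lit 2471) (.node (.node .nil (nat_lit 2851) (nat_lit 422) (nat_lit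
  2455) .nil) (nat_lit 2852) (nat_lit 422) (nat_lit 2470) .nil))))))
def t0_26 : T := (.node (.node (.node (.node (.node (.node (.node .nil (nat_lit 2854) (nat_lit 385) (nat_lit
  2649) .nil) (nat_lit 2855) (nat_lit 422) (nat_lit 2458) (.node .nil (nat_lit 2856) (nat_lit 390) (nat_lit
  2475) .nil)) (nat_lit 2857) (nat_lit 358) (nat_lit 2466) (.node (.node .nil (nat_lit 2858) (nat_lit 355)
  (nat_lit 1933) .nil) (nat_lit 2859) (nat_lit 354) (nat_lit 2467) .nil)) (nat_lit 2860) (nat_lit 355)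
  (nat_lit 2009) (.node (.node (.node .nil (nat_lit 2861) (nat_lit 417) (nat_lit 2472) .nil) (nat_lit 2862)
  (nat_lit 422) (nat_lit 2472) (.node .nil (nat_lit 2863) (nat_lit 388) (nat_lit 2726) .nil)) (nat_lit 2864)
  (nat_lit 424) (nat_lit 2655) (.node (.node .nil (nat_lit 2865) (nat_lit 450) (nat_lit 2641) .nil) (nat_lit
  2866) (nat_lit 454) (nat_lit 2476) .nil))) (nat_lit 2867) (nat_lit 454) (nat_lit 2506) (.node (.node (.node
  (.node .nil (nat_lit 2868) (nat_lit 453) (nat_lit 2478) .nil) (nat_lit 2869) (nat_lit 448) (nat_lit 2479)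
  (.node .nil (nat_lit 2870) (nat_lit 454) (nat_lit 2479) .nil)) (nat_lit 2871) (nat_lit 452) (nat_lit 2619)
  (.node (.node .nil (nat_lit 2872) (nat_lit 452) (nat_lit 2634) .nil) (nat_lit 2873) (nat_lit 354) (nat_lit
  2505) .nil)) (nat_lit 2874) (nat_lit 424) (nat_lit 2652) (.node (.node (.node .nil (nat_lit 2875) (nat_lit
  417) (nat_lit 2483) .nil) (nat_lit 2876) (nat_lit 422) (nat_lit 2483) (.node .nil (nat_lit 2877) (nat_lit
  392) (nat_lit 2726) .nil)) (nat_lit 2878) (nat_lit 424) (nat_lit 3143) (.node (.node .nil (nat_lit 2879)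
  (nat_lit 448) (nat_lit 2485) .nil) (nat_lit 2880) (nat_lit 454) (nat_lit 2485) .nil)))) (nat_lit 2881)
  (nat_lit 454) (nat_lit 2487) (.node (.node (.node (.node (.node .nil (nat_lit 2882) (nat_lit 488) (nat_lit
  2492) .nil) (nat_lit 2883) (nat_lit 450) (nat_lit 3135) (.node .nil (nat_lit 2884) (nat_lit 480) (nat_lit
  2627) .nil)) (nat_lit 2885) (nat_lit 486) (nat_lit 2488) (.node (.node .nil (nat_lit 2886) (nat_lit 448)
  (nat_lit 2490) .nil) (nat_lit 2887) (nat_lit 484) (nat_lit 2489) .nil)) (nat_lit 2888) (nat_lit 481)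
  (nat_lit 2492) (.node (.node (.node .nil (nat_lit 2889) (nat_lit 454) (nat_lit 2490) .nil) (nat_lit 2890)
  (nat_lit 454) (nat_lit 2494) (.node .nil (nat_lit 2891) (nat_lit 454) (nat_lit 2757) .nil)) (nat_lit 2892)
  (nat_lit 488) (nat_lit 3178) (.node (.node .nil (nat_lit 2893) (nat_lit 452) (nat_lit 2565) .nil) (nat_lit
  2894) (nat_lit 450) (nat_lit 3156) .nil))) (nat_lit 2895) (nat_lit 360) (nat_lit 2592) (.node (.node (.node
  (.node .nil (nat_lit 2896) (nat_lit 422) (nat_lit 2697) .nil) (nat_lit 2897) (nat_lit 454) (nat_lit 2669)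
  (.node .nil (nat_lit 2898) (nat_lit 488) (nat_lit 2672) .nil)) (nat_lit 2899) (nat_lit 484) (nat_lit 2670)
  (.node (.node .nil (nat_lit 2900) (nat_lit 452) (nat_lit 2566) .nil) (nat_lit 2901) (nat_lit 355) (nat_lit
  2635) .nil)) (nat_lit 2902) (nat_lit 448) (nat_lit 2578) (.node (.node (.node .nil (nat_lit 2903) (nat_lit
  448) (nat_lit 2511) .nil) (nat_lit 2904) (nat_lit 384) (nat_lit 2594) .nil) (nat_lit 2905) (nat_lit 421)
  (nat_lit 2510) (.node (.node .nil (nat_lit 2906) (nat_lit 422) (nat_lit 2510) .nil) (nat_lit 2907) (nat_lit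
  456) (nat_lit 2511) .nil))))) (nat_lit 2908) (nat_lit 454) (nat_lit 2511) (.node (.node (.node (.node (.node
  (.node .nil (nat_lit 2909) (nat_lit 452) (nat_lit 2512) .nil) (nat_lit 2910) (nat_lit 420) (nat_lit 2599)
  (.node .nil (nat_lit 2911) (nat_lit 488) (nat_lit 2515) .nil)) (nat_lit 2912) (nat_lit 484) (nat_lit 2515)
  (.node (.node .nil (nat_lit 2913) (nat_lit 481) (nat_lit 2516) .nil) (nat_lit 2914) (nat_lit 421) (nat_lit
  2517) .nil)) (nat_lit 2915) (nat_lit 453) (nat_lit 3132) (.node (.node (.node .nil (nat_lit 2916) (nat_lit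
  456) (nat_lit 2518) .nil) (nat_lit 2917) (nat_lit 454) (nat_lit 2518) (.node .nil (nat_lit 2918) (nat_lit
  422) (nat_lit 2662) .nil)) (nat_lit 2919) (nat_lit 485) (nat_lit 2524) (.node (.node .nil (nat_lit 2920)
  (nat_lit 485) (nat_lit 2526) .nil) (nat_lit 2921) (nat_lit 488) (nat_lit 2522) .nil))) (nat_lit 2922)
  (nat_lit 484) (nat_lit 2522) (.node (.node (.node (.node .nil (nat_lit 2923) (nat_lit 488) (nat_lit 3187)
  .nil) (nat_lit 2924) (nat_lit 452) (nat_lit 2663) (.node .nil (nat_lit 2925) (nat_lit 456) (nat_lit 2641)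
  .nil)) (nat_lit 2926) (nat_lit 450) (nat_lit 3188) (.node (.node .nil (nat_lit 2927) (nat_lit 488) (nat_lit
  3146) .nil) (nat_lit 2928) (nat_lit 454) (nat_lit 2525) .nil)) (nat_lit 2929) (nat_lit 452) (nat_lit 2623)
  (.node (.node (.node .nil (nat_lit 2930) (nat_lit 484) (nat_lit 2530) .nil) (nat_lit 2931) (nat_lit 484)
  (nat_lit 2674) (.node .nil (nat_lit 2932) (nat_lit 481) (nat_lit 2668) .nil)) (nat_lit 2933) (nat_lit 456)
  (nat_lit 2651) (.node (.node .nil (nat_lit 2934) (nat_lit 422) (nat_lit 2537) .nil) (nat_lit 2935) (nat_lit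
  392) (nat_lit 2715) .nil)))) (nat_lit 2936) (nat_lit 424) (nat_lit 2691) (.node (.node (.node (.node (.node
  .nil (nat_lit 2937) (nat_lit 390) (nat_lit 2557) .nil) (nat_lit 2938) (nat_lit 355) (nat_lit 1935) (.node
  .nil (nat_lit 2939) (nat_lit 386) (nat_lit 2548) .nil)) (nat_lit 2940) (nat_lit 360) (nat_lit 2570) (.node
  (.node .nil (nat_lit 2941) (nat_lit 420) (nat_lit 2790) .nil) (nat_lit 2942) (nat_lit 424) (nat_lit 2597)
  .nil)) (nat_lit 2943) (nat_lit 417) (nat_lit 2553) (.node (.node (.node .nil (nat_lit 2944) (nat_lit 422)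
  (nat_lit 2553) .nil) (nat_lit 2945) (nat_lit 449) (nat_lit 2787) (.node .nil (nat_lit 2946) (nat_lit 456)
  (nat_lit 3194) .nil)) (nat_lit 2947) (nat_lit 424) (nat_lit 2572) (.node (.node .nil (nat_lit 2948) (nat_lit
  422) (nat_lit 2689) .nil) (nat_lit 2949) (nat_lit 424) (nat_lit 2571) .nil))) (nat_lit 2950) (nat_lit 454)
  (nat_lit 2561) (.node (.node (.node (.node .nil (nat_lit 2951) (nat_lit 485) (nat_lit 2563) .nil) (nat_lit
  2952) (nat_lit 486) (nat_lit 2563) (.node .nil (nat_lit 2953) (nat_lit 488) (nat_lit 3199) .nil)) (nat_lit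
  2954) (nat_lit 454) (nat_lit 2744) (.node (.node .nil (nat_lit 2955) (nat_lit 454) (nat_lit 2700) .nil)
  (nat_lit 2956) (nat_lit 480) (nat_lit 2639) .nil)) (nat_lit 2957) (nat_lit 480) (nat_lit 2568) (.node (.node
  (.node .nil (nat_lit 2958) (nat_lit 481) (nat_lit 3199) .nil) (nat_lit 2959) (nat_lit 488) (nat_lit 3175)
  .nil) (nat_lit 2960) (nat_lit 354) (nat_lit 2592) (.node (.node .nil (nat_lit 2961) (nat_lit 417) (nat_lit
  2652) .nil) (nat_lit 2962) (nat_lit 422) (nat_lit 2571) .nil))))))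
def t0_27 : T := (.node (.node (.node (.node (.node (.node (.node .nil (nat_lit 2964) (nat_lit 454) (nat_lit
  2574) .nil) (nat_lit 2965) (nat_lit 452) (nat_lit 2575) (.node .nil (nat_lit 2966) (nat_lit 481) (nat_lit
  2577) .nil)) (nat_lit 2967) (nat_lit 454) (nat_lit 2578) (.node (.node .nil (nat_lit 2968) (nat_lit 484)
  (nat_lit 2633) .nil) (nat_lit 2969) (nat_lit 488) (nat_lit 2579) .nil)) (nat_lit 2970) (nat_lit 486)
  (nat_lit 2579) (.node (.node (.node .nil (nat_lit 2971) (nat_lit 487) (nat_lit 2579) .nil) (nat_lit 2972)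
  (nat_lit 480) (nat_lit 2582) (.node .nil (nat_lit 2973) (nat_lit 481) (nat_lit 2617) .nil)) (nat_lit 2974)
  (nat_lit 488) (nat_lit 3150) (.node (.node .nil (nat_lit 2975) (nat_lit 452) (nat_lit 2585) .nil) (nat_lit
  2976) (nat_lit 520) (nat_lit 3215) .nil))) (nat_lit 2977) (nat_lit 481) (nat_lit 3147) (.node (.node (.node
  (.node .nil (nat_lit 2978) (nat_lit 514) (nat_lit 2759) .nil) (nat_lit 2979) (nat_lit 481) (nat_lit 2587)
  (.node .nil (nat_lit 2980) (nat_lit 454) (nat_lit 2588) .nil)) (nat_lit 2981) (nat_lit 484) (nat_lit 2830)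
  (.node (.node .nil (nat_lit 2982) (nat_lit 484) (nat_lit 3149) .nil) (nat_lit 2983) (nat_lit 453) (nat_lit
  2588) .nil)) (nat_lit 2984) (nat_lit 487) (nat_lit 2590) (.node (.node (.node .nil (nat_lit 2985) (nat_lit
  385) (nat_lit 2646) .nil) (nat_lit 2986) (nat_lit 385) (nat_lit 2647) (.node .nil (nat_lit 2987) (nat_lit
  420) (nat_lit 2791) .nil)) (nat_lit 2988) (nat_lit 422) (nat_lit 2595) (.node (.node .nil (nat_lit 2989)
  (nat_lit 422) (nat_lit 2685) .nil) (nat_lit 2990) (nat_lit 390) (nat_lit 2602) .nil)))) (nat_lit 2991)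
  (nat_lit 422) (nat_lit 2604) (.node (.node (.node (.node (.node .nil (nat_lit 2992) (nat_lit 454) (nat_lit
  2606) .nil) (nat_lit 2993) (nat_lit 452) (nat_lit 2607) (.node .nil (nat_lit 2994) (nat_lit 488) (nat_lit
  2617) .nil)) (nat_lit 2995) (nat_lit 454) (nat_lit 2608) (.node (.node .nil (nat_lit 2996) (nat_lit 488)
  (nat_lit 2614) .nil) (nat_lit 2997) (nat_lit 484) (nat_lit 2614) .nil)) (nat_lit 2998) (nat_lit 487)
  (nat_lit 2614) (.node (.node (.node .nil (nat_lit 2999) (nat_lit 488) (nat_lit 3224) .nil) (nat_lit 3000)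
  (nat_lit 484) (nat_lit 2657) (.node .nil (nat_lit 3001) (nat_lit 454) (nat_lit 2620) .nil)) (nat_lit 3002)
  (nat_lit 320) (nat_lit 2628) (.node (.node .nil (nat_lit 3003) (nat_lit 325) (nat_lit 2631) .nil) (nat_lit
  3004) (nat_lit 486) (nat_lit 2627) .nil))) (nat_lit 3005) (nat_lit 320) (nat_lit 2640) (.node (.node (.node
  (.node .nil (nat_lit 3006) (nat_lit 486) (nat_lit 2636) .nil) (nat_lit 3007) (nat_lit 325) (nat_lit 2645)
  (.node .nil (nat_lit 3008) (nat_lit 486) (nat_lit 2639) .nil)) (nat_lit 3009) (nat_lit 453) (nat_lit 3156)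
  (.node (.node .nil (nat_lit 3010) (nat_lit 454) (nat_lit 2641) .nil) (nat_lit 3011) (nat_lit 484) (nat_lit
  2642) .nil)) (nat_lit 3012) (nat_lit 454) (nat_lit 2643) (.node (.node (.node .nil (nat_lit 3013) (nat_lit
  386) (nat_lit 2753) .nil) (nat_lit 3014) (nat_lit 386) (nat_lit 2752) .nil) (nat_lit 3015) (nat_lit 422)
  (nat_lit 2652) (.node (.node .nil (nat_lit 3016) (nat_lit 454) (nat_lit 2694) .nil) (nat_lit 3017) (nat_lit
  454) (nat_lit 2695) .nil))))) (nat_lit 3018) (nat_lit 452) (nat_lit 2660) (.node (.node (.node (.node (.node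
  (.node .nil (nat_lit 3019) (nat_lit 452) (nat_lit 2659) .nil) (nat_lit 3020) (nat_lit 454) (nat_lit 2664)
  (.node .nil (nat_lit 3021) (nat_lit 454) (nat_lit 2665) .nil)) (nat_lit 3022) (nat_lit 448) (nat_lit 2694)
  (.node (.node .nil (nat_lit 3023) (nat_lit 452) (nat_lit 2667) .nil) (nat_lit 3024) (nat_lit 416) (nat_lit
  3233) .nil)) (nat_lit 3025) (nat_lit 421) (nat_lit 3251) (.node (.node (.node .nil (nat_lit 3026) (nat_lit
  385) (nat_lit 2712) .nil) (nat_lit 3027) (nat_lit 420) (nat_lit 3251) (.node .nil (nat_lit 3028) (nat_lit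
  420) (nat_lit 3252) .nil)) (nat_lit 3029) (nat_lit 422) (nat_lit 2683) (.node (.node .nil (nat_lit 3030)
  (nat_lit 420) (nat_lit 3233) .nil) (nat_lit 3031) (nat_lit 424) (nat_lit 2724) .nil))) (nat_lit 3032)
  (nat_lit 417) (nat_lit 2689) (.node (.node (.node (.node .nil (nat_lit 3033) (nat_lit 420) (nat_lit 2724)
  .nil) (nat_lit 3034) (nat_lit 424) (nat_lit 2692) (.node .nil (nat_lit 3035) (nat_lit 422) (nat_lit 2692)
  .nil)) (nat_lit 3036) (nat_lit 453) (nat_lit 2744) (.node (.node .nil (nat_lit 3037) (nat_lit 453) (nat_lit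
  3256) .nil) (nat_lit 3038) (nat_lit 453) (nat_lit 3257) .nil)) (nat_lit 3039) (nat_lit 485) (nat_lit 2703)
  (.node (.node (.node .nil (nat_lit 3040) (nat_lit 486) (nat_lit 2703) .nil) (nat_lit 3041) (nat_lit 487)
  (nat_lit 2703) .nil) (nat_lit 3042) (nat_lit 488) (nat_lit 2710) (.node (.node .nil (nat_lit 3043) (nat_lit
  488) (nat_lit 2711) .nil) (nat_lit 3044) (nat_lit 449) (nat_lit 2763) .nil)))) (nat_lit 3045) (nat_lit 486)
  (nat_lit 2707) (.node (.node (.node (.node (.node .nil (nat_lit 3046) (nat_lit 453) (nat_lit 3247) .nil)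
  (nat_lit 3047) (nat_lit 449) (nat_lit 3253) (.node .nil (nat_lit 3048) (nat_lit 456) (nat_lit 3197) .nil))
  (nat_lit 3049) (nat_lit 456) (nat_lit 3257) (.node (.node .nil (nat_lit 3050) (nat_lit 484) (nat_lit 2710)
  .nil) (nat_lit 3051) (nat_lit 487) (nat_lit 2710) .nil)) (nat_lit 3052) (nat_lit 392) (nat_lit 2716) (.node
  (.node (.node .nil (nat_lit 3053) (nat_lit 386) (nat_lit 2751) .nil) (nat_lit 3054) (nat_lit 385) (nat_lit
  2713) (.node .nil (nat_lit 3055) (nat_lit 488) (nat_lit 2722) .nil)) (nat_lit 3056) (nat_lit 456) (nat_lit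
  3159) (.node (.node .nil (nat_lit 3057) (nat_lit 485) (nat_lit 3189) .nil) (nat_lit 3058) (nat_lit 453)
  (nat_lit 3145) .nil))) (nat_lit 3059) (nat_lit 420) (nat_lit 2723) (.node (.node (.node (.node .nil (nat_lit
  3060) (nat_lit 416) (nat_lit 3252) .nil) (nat_lit 3061) (nat_lit 454) (nat_lit 2727) (.node .nil (nat_lit
  3062) (nat_lit 453) (nat_lit 3253) .nil)) (nat_lit 3063) (nat_lit 485) (nat_lit 2743) (.node (.node .nil
  (nat_lit 3064) (nat_lit 488) (nat_lit 3259) .nil) (nat_lit 3065) (nat_lit 488) (nat_lit 3260) .nil))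
  (nat_lit 3066) (nat_lit 484) (nat_lit 2733) (.node (.node (.node .nil (nat_lit 3067) (nat_lit 488) (nat_lit
  3268) .nil) (nat_lit 3068) (nat_lit 486) (nat_lit 2735) .nil) (nat_lit 3069) (nat_lit 520) (nat_lit 2747)
  (.node (.node .nil (nat_lit 3070) (nat_lit 486) (nat_lit 2737) .nil) (nat_lit 3071) (nat_lit 485) (nat_lit
  2738) .nil))))))
def t0_28 : T := (.node (.node (.node (.node (.node (.node (.node .nil (nat_lit 3073) (nat_lit 487) (nat_lit
  2738) .nil) (nat_lit 3074) (nat_lit 450) (nat_lit 3257) (.node .nil (nat_lit 3075) (nat_lit 450) (nat_lit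
  3256) .nil)) (nat_lit 3076) (nat_lit 486) (nat_lit 2740) (.node (.node .nil (nat_lit 3077) (nat_lit 450)
  (nat_lit 3247) .nil) (nat_lit 3078) (nat_lit 516) (nat_lit 2741) .nil)) (nat_lit 3079) (nat_lit 486)
  (nat_lit 2742) (.node (.node (.node .nil (nat_lit 3080) (nat_lit 486) (nat_lit 2743) .nil) (nat_lit 3081)
  (nat_lit 488) (nat_lit 3203) (.node .nil (nat_lit 3082) (nat_lit 488) (nat_lit 3177) .nil)) (nat_lit 3083)
  (nat_lit 513) (nat_lit 2747) (.node (.node .nil (nat_lit 3084) (nat_lit 519) (nat_lit 2747) .nil) (nat_lit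
  3085) (nat_lit 484) (nat_lit 2754) .nil))) (nat_lit 3086) (nat_lit 520) (nat_lit 2759) (.node (.node (.node
  (.node .nil (nat_lit 3087) (nat_lit 484) (nat_lit 2756) .nil) (nat_lit 3088) (nat_lit 512) (nat_lit 2759)
  (.node .nil (nat_lit 3089) (nat_lit 519) (nat_lit 2759) .nil)) (nat_lit 3090) (nat_lit 454) (nat_lit 2763)
  (.node (.node .nil (nat_lit 3091) (nat_lit 454) (nat_lit 2801) .nil) (nat_lit 3092) (nat_lit 454) (nat_lit
  2765) .nil)) (nat_lit 3093) (nat_lit 488) (nat_lit 3277) (.node (.node (.node .nil (nat_lit 3094) (nat_lit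
  488) (nat_lit 3300) .nil) (nat_lit 3095) (nat_lit 488) (nat_lit 3184) (.node .nil (nat_lit 3096) (nat_lit
  488) (nat_lit 3149) .nil)) (nat_lit 3097) (nat_lit 487) (nat_lit 2818) (.node (.node .nil (nat_lit 3098)
  (nat_lit 454) (nat_lit 2787) .nil) (nat_lit 3099) (nat_lit 420) (nat_lit 2792) .nil)))) (nat_lit 3100)
  (nat_lit 454) (nat_lit 2789) (.node (.node (.node (.node (.node .nil (nat_lit 3101) (nat_lit 385) (nat_lit
  3154) .nil) (nat_lit 3102) (nat_lit 416) (nat_lit 3131) (.node .nil (nat_lit 3103) (nat_lit 488) (nat_lit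
  3185) .nil)) (nat_lit 3104) (nat_lit 486) (nat_lit 2794) (.node (.node .nil (nat_lit 3105) (nat_lit 487)
  (nat_lit 2794) .nil) (nat_lit 3106) (nat_lit 486) (nat_lit 2796) .nil)) (nat_lit 3107) (nat_lit 488)
  (nat_lit 3181) (.node (.node (.node .nil (nat_lit 3108) (nat_lit 453) (nat_lit 3188) .nil) (nat_lit 3109)
  (nat_lit 488) (nat_lit 3183) (.node .nil (nat_lit 3110) (nat_lit 484) (nat_lit 2799) .nil)) (nat_lit 3111)
  (nat_lit 488) (nat_lit 3243) (.node (.node .nil (nat_lit 3112) (nat_lit 486) (nat_lit 2805) .nil) (nat_lit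
  3113) (nat_lit 484) (nat_lit 2806) .nil))) (nat_lit 3114) (nat_lit 487) (nat_lit 2806) (.node (.node (.node
  (.node .nil (nat_lit 3115) (nat_lit 486) (nat_lit 2808) .nil) (nat_lit 3116) (nat_lit 484) (nat_lit 2809)
  (.node .nil (nat_lit 3117) (nat_lit 487) (nat_lit 2809) .nil)) (nat_lit 3118) (nat_lit 480) (nat_lit 2812)
  (.node (.node .nil (nat_lit 3119) (nat_lit 486) (nat_lit 2811) .nil) (nat_lit 3120) (nat_lit 453) (nat_lit
  3155) .nil)) (nat_lit 3121) (nat_lit 484) (nat_lit 2813) (.node (.node (.node .nil (nat_lit 3122) (nat_lit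
  481) (nat_lit 2818) .nil) (nat_lit 3123) (nat_lit 485) (nat_lit 2816) .nil) (nat_lit 3124) (nat_lit 488)
  (nat_lit 3245) (.node (.node .nil (nat_lit 3125) (nat_lit 488) (nat_lit 3246) .nil) (nat_lit 3126) (nat_lit
  486) (nat_lit 2822) .nil))))) (nat_lit 3127) (nat_lit 488) (nat_lit 3249) (.node (.node (.node (.node (.node
  (.node .nil (nat_lit 3128) (nat_lit 484) (nat_lit 2824) .nil) (nat_lit 3129) (nat_lit 481) (nat_lit 2825)
  (.node .nil (nat_lit 3130) (nat_lit 488) (nat_lit 3236) .nil)) (nat_lit 3131) (nat_lit 401) (nat_lit 3014)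
  (.node (.node .nil (nat_lit 3132) (nat_lit 436) (nat_lit 3102) .nil) (nat_lit 3133) (nat_lit 404) (nat_lit
  3101) .nil)) (nat_lit 3134) (nat_lit 438) (nat_lit 2836) (.node (.node (.node .nil (nat_lit 3135) (nat_lit
  433) (nat_lit 2838) .nil) (nat_lit 3136) (nat_lit 438) (nat_lit 2838) (.node .nil (nat_lit 3137) (nat_lit
  406) (nat_lit 2839) .nil)) (nat_lit 3138) (nat_lit 406) (nat_lit 2853) (.node (.node .nil (nat_lit 3139)
  (nat_lit 440) (nat_lit 3035) .nil) (nat_lit 3140) (nat_lit 433) (nat_lit 2850) .nil))) (nat_lit 3141)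
  (nat_lit 470) (nat_lit 2842) (.node (.node (.node (.node .nil (nat_lit 3142) (nat_lit 438) (nat_lit 2850)
  .nil) (nat_lit 3143) (nat_lit 406) (nat_lit 2863) (.node .nil (nat_lit 3144) (nat_lit 438) (nat_lit 2861)
  .nil)) (nat_lit 3145) (nat_lit 440) (nat_lit 3015) (.node (.node .nil (nat_lit 3146) (nat_lit 470) (nat_lit
  2865) .nil) (nat_lit 3147) (nat_lit 468) (nat_lit 2866) .nil)) (nat_lit 3148) (nat_lit 470) (nat_lit 2902)
  (.node (.node (.node .nil (nat_lit 3149) (nat_lit 470) (nat_lit 2903) .nil) (nat_lit 3150) (nat_lit 470)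
  (nat_lit 2869) (.node .nil (nat_lit 3151) (nat_lit 468) (nat_lit 2870) .nil)) (nat_lit 3152) (nat_lit 465)
  (nat_lit 2871) (.node (.node .nil (nat_lit 3153) (nat_lit 468) (nat_lit 3001) .nil) (nat_lit 3154) (nat_lit
  370) (nat_lit 2901) .nil)))) (nat_lit 3155) (nat_lit 440) (nat_lit 2961) (.node (.node (.node (.node (.node
  .nil (nat_lit 3156) (nat_lit 433) (nat_lit 3099) .nil) (nat_lit 3157) (nat_lit 438) (nat_lit 2875) (.node
  .nil (nat_lit 3158) (nat_lit 376) (nat_lit 2960) .nil)) (nat_lit 3159) (nat_lit 438) (nat_lit 3033) (.node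
  (.node .nil (nat_lit 3160) (nat_lit 464) (nat_lit 3009) .nil) (nat_lit 3161) (nat_lit 470) (nat_lit 2879)
  .nil)) (nat_lit 3162) (nat_lit 468) (nat_lit 2880) (.node (.node (.node .nil (nat_lit 3163) (nat_lit 498)
  (nat_lit 2979) .nil) (nat_lit 3164) (nat_lit 470) (nat_lit 2883) (.node .nil (nat_lit 3165) (nat_lit 466)
  (nat_lit 3322) .nil)) (nat_lit 3166) (nat_lit 502) (nat_lit 2884) (.node (.node .nil (nat_lit 3167) (nat_lit
  464) (nat_lit 2983) .nil) (nat_lit 3168) (nat_lit 500) (nat_lit 2885) .nil))) (nat_lit 3169) (nat_lit 496)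
  (nat_lit 2888) (.node (.node (.node (.node .nil (nat_lit 3170) (nat_lit 470) (nat_lit 2886) .nil) (nat_lit
  3171) (nat_lit 468) (nat_lit 2890) (.node .nil (nat_lit 3172) (nat_lit 497) (nat_lit 3354) .nil)) (nat_lit
  3173) (nat_lit 468) (nat_lit 2889) (.node (.node .nil (nat_lit 3174) (nat_lit 504) (nat_lit 3358) .nil)
  (nat_lit 3175) (nat_lit 465) (nat_lit 2893) .nil)) (nat_lit 3176) (nat_lit 470) (nat_lit 2894) (.node (.node
  (.node .nil (nat_lit 3177) (nat_lit 470) (nat_lit 3074) .nil) (nat_lit 3178) (nat_lit 468) (nat_lit 3020)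
  .nil) (nat_lit 3179) (nat_lit 468) (nat_lit 2955) (.node (.node .nil (nat_lit 3180) (nat_lit 469) (nat_lit
  2894) .nil) (nat_lit 3181) (nat_lit 464) (nat_lit 3108) .nil))))))
def t0_29 : T := (.node (.node (.node (.node (.node (.node (.node .nil (nat_lit 3183) (nat_lit 469) (nat_lit
  3322) .nil) (nat_lit 3184) (nat_lit 470) (nat_lit 2915) (.node .nil (nat_lit 3185) (nat_lit 469) (nat_lit
  2926) .nil)) (nat_lit 3186) (nat_lit 501) (nat_lit 2927) (.node (.node .nil (nat_lit 3187) (nat_lit 468)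
  (nat_lit 3021) .nil) (nat_lit 3188) (nat_lit 433) (nat_lit 2987) .nil)) (nat_lit 3189) (nat_lit 472)
  (nat_lit 3010) (.node (.node (.node .nil (nat_lit 3190) (nat_lit 470) (nat_lit 2926) .nil) (nat_lit 3191)
  (nat_lit 504) (nat_lit 3331) (.node .nil (nat_lit 3192) (nat_lit 438) (nat_lit 3028) .nil)) (nat_lit 3193)
  (nat_lit 438) (nat_lit 2941) (.node (.node .nil (nat_lit 3194) (nat_lit 438) (nat_lit 2943) .nil) (nat_lit
  3195) (nat_lit 470) (nat_lit 2945) .nil))) (nat_lit 3196) (nat_lit 472) (nat_lit 3368) (.node (.node (.node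
  (.node .nil (nat_lit 3197) (nat_lit 438) (nat_lit 3032) .nil) (nat_lit 3198) (nat_lit 440) (nat_lit 2962)
  (.node .nil (nat_lit 3199) (nat_lit 468) (nat_lit 2950) .nil)) (nat_lit 3200) (nat_lit 502) (nat_lit 2951)
  (.node (.node .nil (nat_lit 3201) (nat_lit 500) (nat_lit 2952) .nil) (nat_lit 3202) (nat_lit 470) (nat_lit
  3077) .nil)) (nat_lit 3203) (nat_lit 468) (nat_lit 2954) (.node (.node (.node .nil (nat_lit 3204) (nat_lit
  470) (nat_lit 3036) .nil) (nat_lit 3205) (nat_lit 502) (nat_lit 2956) (.node .nil (nat_lit 3206) (nat_lit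
  496) (nat_lit 2958) .nil)) (nat_lit 3207) (nat_lit 504) (nat_lit 3352) (.node (.node .nil (nat_lit 3208)
  (nat_lit 504) (nat_lit 3357) .nil) (nat_lit 3209) (nat_lit 438) (nat_lit 2961) .nil)))) (nat_lit 3210)
  (nat_lit 436) (nat_lit 2962) (.node (.node (.node (.node (.node .nil (nat_lit 3211) (nat_lit 470) (nat_lit
  2963) .nil) (nat_lit 3212) (nat_lit 468) (nat_lit 2964) (.node .nil (nat_lit 3213) (nat_lit 496) (nat_lit
  2966) .nil)) (nat_lit 3214) (nat_lit 468) (nat_lit 2967) (.node (.node .nil (nat_lit 3215) (nat_lit 497)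
  (nat_lit 3331) .nil) (nat_lit 3216) (nat_lit 497) (nat_lit 2968) .nil)) (nat_lit 3217) (nat_lit 504)
  (nat_lit 2970) (.node (.node (.node .nil (nat_lit 3218) (nat_lit 500) (nat_lit 2970) .nil) (nat_lit 3219)
  (nat_lit 503) (nat_lit 2970) (.node .nil (nat_lit 3220) (nat_lit 496) (nat_lit 3335) .nil)) (nat_lit 3221)
  (nat_lit 497) (nat_lit 3334) (.node (.node .nil (nat_lit 3222) (nat_lit 496) (nat_lit 2977) .nil) (nat_lit
  3223) (nat_lit 497) (nat_lit 3000) .nil))) (nat_lit 3224) (nat_lit 465) (nat_lit 2993) (.node (.node (.node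
  (.node .nil (nat_lit 3225) (nat_lit 468) (nat_lit 2980) .nil) (nat_lit 3226) (nat_lit 530) (nat_lit 3083)
  (.node .nil (nat_lit 3227) (nat_lit 497) (nat_lit 3366) .nil)) (nat_lit 3228) (nat_lit 497) (nat_lit 3332)
  (.node (.node .nil (nat_lit 3229) (nat_lit 497) (nat_lit 3087) .nil) (nat_lit 3230) (nat_lit 497) (nat_lit
  2981) .nil)) (nat_lit 3231) (nat_lit 497) (nat_lit 2982) (.node (.node (.node .nil (nat_lit 3232) (nat_lit
  470) (nat_lit 2983) .nil) (nat_lit 3233) (nat_lit 401) (nat_lit 3013) .nil) (nat_lit 3234) (nat_lit 438)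
  (nat_lit 2987) (.node (.node .nil (nat_lit 3235) (nat_lit 438) (nat_lit 3030) .nil) (nat_lit 3236) (nat_lit
  468) (nat_lit 2992) .nil))))) (nat_lit 3237) (nat_lit 503) (nat_lit 2997) (.node (.node (.node (.node (.node
  (.node .nil (nat_lit 3238) (nat_lit 504) (nat_lit 2997) .nil) (nat_lit 3239) (nat_lit 497) (nat_lit 2997)
  (.node .nil (nat_lit 3240) (nat_lit 500) (nat_lit 3004) .nil)) (nat_lit 3241) (nat_lit 500) (nat_lit 3006)
  (.node (.node .nil (nat_lit 3242) (nat_lit 500) (nat_lit 3008) .nil) (nat_lit 3243) (nat_lit 470) (nat_lit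
  3009) .nil)) (nat_lit 3244) (nat_lit 468) (nat_lit 3010) (.node (.node (.node .nil (nat_lit 3245) (nat_lit
  468) (nat_lit 3016) .nil) (nat_lit 3246) (nat_lit 468) (nat_lit 3012) (.node .nil (nat_lit 3247) (nat_lit
  433) (nat_lit 3027) .nil)) (nat_lit 3248) (nat_lit 470) (nat_lit 3022) (.node (.node .nil (nat_lit 3249)
  (nat_lit 470) (nat_lit 3038) .nil) (nat_lit 3250) (nat_lit 464) (nat_lit 3037) .nil))) (nat_lit 3251)
  (nat_lit 400) (nat_lit 3026) (.node (.node (.node (.node .nil (nat_lit 3252) (nat_lit 401) (nat_lit 3053)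
  .nil) (nat_lit 3253) (nat_lit 436) (nat_lit 3060) (.node .nil (nat_lit 3254) (nat_lit 438) (nat_lit 3027)
  .nil)) (nat_lit 3255) (nat_lit 404) (nat_lit 3054) (.node (.node .nil (nat_lit 3256) (nat_lit 433) (nat_lit
  3059) .nil) (nat_lit 3257) (nat_lit 433) (nat_lit 3033) .nil)) (nat_lit 3258) (nat_lit 469) (nat_lit 3075)
  (.node (.node (.node .nil (nat_lit 3259) (nat_lit 470) (nat_lit 3037) .nil) (nat_lit 3260) (nat_lit 469)
  (nat_lit 3047) .nil) (nat_lit 3261) (nat_lit 502) (nat_lit 3039) (.node (.node .nil (nat_lit 3262) (nat_lit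
  500) (nat_lit 3040) .nil) (nat_lit 3263) (nat_lit 503) (nat_lit 3040) .nil)))) (nat_lit 3264) (nat_lit 504)
  (nat_lit 3050) (.node (.node (.node (.node (.node .nil (nat_lit 3265) (nat_lit 504) (nat_lit 3051) .nil)
  (nat_lit 3266) (nat_lit 470) (nat_lit 3044) (.node .nil (nat_lit 3267) (nat_lit 500) (nat_lit 3045) .nil))
  (nat_lit 3268) (nat_lit 470) (nat_lit 3046) (.node (.node .nil (nat_lit 3269) (nat_lit 470) (nat_lit 3047)
  .nil) (nat_lit 3270) (nat_lit 472) (nat_lit 3372) .nil)) (nat_lit 3271) (nat_lit 472) (nat_lit 3339) (.node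
  (.node (.node .nil (nat_lit 3272) (nat_lit 501) (nat_lit 3365) .nil) (nat_lit 3273) (nat_lit 503) (nat_lit
  3050) (.node .nil (nat_lit 3274) (nat_lit 496) (nat_lit 3057) .nil)) (nat_lit 3275) (nat_lit 469) (nat_lit
  3330) (.node (.node .nil (nat_lit 3276) (nat_lit 438) (nat_lit 3059) .nil) (nat_lit 3277) (nat_lit 470)
  (nat_lit 3062) .nil))) (nat_lit 3278) (nat_lit 502) (nat_lit 3063) (.node (.node (.node (.node .nil (nat_lit
  3279) (nat_lit 504) (nat_lit 3403) .nil) (nat_lit 3280) (nat_lit 504) (nat_lit 3410) (.node .nil (nat_lit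
  3281) (nat_lit 504) (nat_lit 3416) .nil)) (nat_lit 3282) (nat_lit 504) (nat_lit 3417) (.node (.node .nil
  (nat_lit 3283) (nat_lit 500) (nat_lit 3068) .nil) (nat_lit 3284) (nat_lit 536) (nat_lit 3083) .nil))
  (nat_lit 3285) (nat_lit 500) (nat_lit 3070) (.node (.node (.node .nil (nat_lit 3286) (nat_lit 502) (nat_lit
  3071) .nil) (nat_lit 3287) (nat_lit 500) (nat_lit 3072) .nil) (nat_lit 3288) (nat_lit 503) (nat_lit 3072)
  (.node (.node .nil (nat_lit 3289) (nat_lit 470) (nat_lit 3075) .nil) (nat_lit 3290) (nat_lit 500) (nat_lit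
  3076) .nil))))))
def t0_30 : T := (.node (.node (.node (.node (.node (.node (.node .nil (nat_lit 3292) (nat_lit 500) (nat_lit
  3079) .nil) (nat_lit 3293) (nat_lit 500) (nat_lit 3080) (.node .nil (nat_lit 3294) (nat_lit 504) (nat_lit
  3354) .nil)) (nat_lit 3295) (nat_lit 528) (nat_lit 3083) (.node (.node .nil (nat_lit 3296) (nat_lit 535)
  (nat_lit 3083) .nil) (nat_lit 3297) (nat_lit 497) (nat_lit 3085) .nil)) (nat_lit 3298) (nat_lit 498)
  (nat_lit 3358) (.node (.node (.node .nil (nat_lit 3299) (nat_lit 438) (nat_lit 3099) .nil) (nat_lit 3300)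
  (nat_lit 470) (nat_lit 3108) (.node .nil (nat_lit 3301) (nat_lit 504) (nat_lit 3362) .nil)) (nat_lit 3302)
  (nat_lit 504) (nat_lit 3333) (.node (.node .nil (nat_lit 3303) (nat_lit 504) (nat_lit 3361) .nil) (nat_lit
  3304) (nat_lit 500) (nat_lit 3104) .nil))) (nat_lit 3305) (nat_lit 503) (nat_lit 3104) (.node (.node (.node
  (.node .nil (nat_lit 3306) (nat_lit 500) (nat_lit 3106) .nil) (nat_lit 3307) (nat_lit 504) (nat_lit 3404)
  (.node .nil (nat_lit 3308) (nat_lit 500) (nat_lit 3112) .nil)) (nat_lit 3309) (nat_lit 497) (nat_lit 3113)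
  (.node (.node .nil (nat_lit 3310) (nat_lit 503) (nat_lit 3113) .nil) (nat_lit 3311) (nat_lit 500) (nat_lit
  3115) .nil)) (nat_lit 3312) (nat_lit 497) (nat_lit 3116) (.node (.node (.node .nil (nat_lit 3313) (nat_lit
  503) (nat_lit 3116) .nil) (nat_lit 3314) (nat_lit 500) (nat_lit 3119) (.node .nil (nat_lit 3315) (nat_lit
  496) (nat_lit 3122) .nil)) (nat_lit 3316) (nat_lit 501) (nat_lit 3125) (.node (.node .nil (nat_lit 3317)
  (nat_lit 500) (nat_lit 3126) .nil) (nat_lit 3318) (nat_lit 504) (nat_lit 3406) .nil)))) (nat_lit 3319)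
  (nat_lit 497) (nat_lit 3128) (.node (.node (.node (.node (.node .nil (nat_lit 3320) (nat_lit 498) (nat_lit
  3129) .nil) (nat_lit 3321) (nat_lit 496) (nat_lit 3359) (.node .nil (nat_lit 3322) (nat_lit 449) (nat_lit
  3132) .nil)) (nat_lit 3323) (nat_lit 454) (nat_lit 3132) (.node (.node .nil (nat_lit 3324) (nat_lit 422)
  (nat_lit 3133) .nil) (nat_lit 3325) (nat_lit 422) (nat_lit 3255) .nil)) (nat_lit 3326) (nat_lit 454)
  (nat_lit 3135) (.node (.node (.node .nil (nat_lit 3327) (nat_lit 454) (nat_lit 3140) .nil) (nat_lit 3328)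
  (nat_lit 484) (nat_lit 3141) (.node .nil (nat_lit 3329) (nat_lit 452) (nat_lit 3144) .nil)) (nat_lit 3330)
  (nat_lit 456) (nat_lit 3209) (.node (.node .nil (nat_lit 3331) (nat_lit 484) (nat_lit 3146) .nil) (nat_lit
  3332) (nat_lit 484) (nat_lit 3148) .nil))) (nat_lit 3333) (nat_lit 486) (nat_lit 3181) (.node (.node (.node
  (.node .nil (nat_lit 3334) (nat_lit 484) (nat_lit 3150) .nil) (nat_lit 3335) (nat_lit 481) (nat_lit 3225)
  (.node .nil (nat_lit 3336) (nat_lit 481) (nat_lit 3153) .nil)) (nat_lit 3337) (nat_lit 454) (nat_lit 3156)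
  (.node (.node .nil (nat_lit 3338) (nat_lit 452) (nat_lit 3157) .nil) (nat_lit 3339) (nat_lit 454) (nat_lit
  3257) .nil)) (nat_lit 3340) (nat_lit 486) (nat_lit 3160) (.node (.node (.node .nil (nat_lit 3341) (nat_lit
  484) (nat_lit 3161) .nil) (nat_lit 3342) (nat_lit 482) (nat_lit 3224) .nil) (nat_lit 3343) (nat_lit 484)
  (nat_lit 3164) (.node (.node .nil (nat_lit 3344) (nat_lit 514) (nat_lit 3228) .nil) (nat_lit 3345) (nat_lit
  486) (nat_lit 3165) .nil))))) (nat_lit 3346) (nat_lit 516) (nat_lit 3166) (.node (.node (.node (.node (.node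
  (.node .nil (nat_lit 3347) (nat_lit 486) (nat_lit 3167) .nil) (nat_lit 3348) (nat_lit 513) (nat_lit 3168)
  (.node .nil (nat_lit 3349) (nat_lit 512) (nat_lit 3172) .nil)) (nat_lit 3350) (nat_lit 484) (nat_lit 3170)
  (.node (.node .nil (nat_lit 3351) (nat_lit 514) (nat_lit 3239) .nil) (nat_lit 3352) (nat_lit 480) (nat_lit
  3175) .nil)) (nat_lit 3353) (nat_lit 484) (nat_lit 3176) (.node (.node (.node .nil (nat_lit 3354) (nat_lit
  484) (nat_lit 3177) .nil) (nat_lit 3355) (nat_lit 513) (nat_lit 3317) (.node .nil (nat_lit 3356) (nat_lit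
  513) (nat_lit 3293) .nil)) (nat_lit 3357) (nat_lit 481) (nat_lit 3203) (.node (.node .nil (nat_lit 3358)
  (nat_lit 481) (nat_lit 3178) .nil) (nat_lit 3359) (nat_lit 481) (nat_lit 3179) .nil))) (nat_lit 3360)
  (nat_lit 486) (nat_lit 3180) (.node (.node (.node (.node .nil (nat_lit 3361) (nat_lit 486) (nat_lit 3183)
  .nil) (nat_lit 3362) (nat_lit 486) (nat_lit 3185) (.node .nil (nat_lit 3363) (nat_lit 517) (nat_lit 3191)
  .nil)) (nat_lit 3364) (nat_lit 454) (nat_lit 3188) (.node (.node .nil (nat_lit 3365) (nat_lit 488) (nat_lit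
  3244) .nil) (nat_lit 3366) (nat_lit 484) (nat_lit 3190) .nil)) (nat_lit 3367) (nat_lit 454) (nat_lit 3253)
  (.node (.node (.node .nil (nat_lit 3368) (nat_lit 452) (nat_lit 3194) .nil) (nat_lit 3369) (nat_lit 484)
  (nat_lit 3195) (.node .nil (nat_lit 3370) (nat_lit 454) (nat_lit 3247) .nil)) (nat_lit 3371) (nat_lit 456)
  (nat_lit 3210) (.node (.node .nil (nat_lit 3372) (nat_lit 452) (nat_lit 3197) .nil) (nat_lit 3373) (nat_lit
  516) (nat_lit 3200) .nil)))) (nat_lit 3374) (nat_lit 513) (nat_lit 3201) (.node (.node (.node (.node (.node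
  .nil (nat_lit 3375) (nat_lit 484) (nat_lit 3202) .nil) (nat_lit 3376) (nat_lit 484) (nat_lit 3204) (.node
  .nil (nat_lit 3377) (nat_lit 484) (nat_lit 3289) .nil)) (nat_lit 3378) (nat_lit 516) (nat_lit 3205) (.node
  (.node .nil (nat_lit 3379) (nat_lit 512) (nat_lit 3227) .nil) (nat_lit 3380) (nat_lit 520) (nat_lit 3461)
  .nil)) (nat_lit 3381) (nat_lit 514) (nat_lit 3223) (.node (.node (.node .nil (nat_lit 3382) (nat_lit 513)
  (nat_lit 3290) .nil) (nat_lit 3383) (nat_lit 452) (nat_lit 3209) (.node .nil (nat_lit 3384) (nat_lit 484)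
  (nat_lit 3211) .nil)) (nat_lit 3385) (nat_lit 481) (nat_lit 3212) (.node (.node .nil (nat_lit 3386) (nat_lit
  512) (nat_lit 3215) .nil) (nat_lit 3387) (nat_lit 517) (nat_lit 3213) .nil))) (nat_lit 3388) (nat_lit 513)
  (nat_lit 3240) (.node (.node (.node (.node .nil (nat_lit 3389) (nat_lit 512) (nat_lit 3216) .nil) (nat_lit
  3390) (nat_lit 520) (nat_lit 3218) (.node .nil (nat_lit 3391) (nat_lit 513) (nat_lit 3218) .nil)) (nat_lit
  3392) (nat_lit 519) (nat_lit 3218) (.node (.node .nil (nat_lit 3393) (nat_lit 513) (nat_lit 3241) .nil)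
  (nat_lit 3394) (nat_lit 481) (nat_lit 3236) .nil)) (nat_lit 3395) (nat_lit 484) (nat_lit 3232) (.node (.node
  (.node .nil (nat_lit 3396) (nat_lit 513) (nat_lit 3285) .nil) (nat_lit 3397) (nat_lit 513) (nat_lit 3308)
  .nil) (nat_lit 3398) (nat_lit 513) (nat_lit 3470) (.node (.node .nil (nat_lit 3399) (nat_lit 513) (nat_lit
  3445) .nil) (nat_lit 3400) (nat_lit 513) (nat_lit 3446) .nil))))))
def t0_31 : T := (.node (.node (.node (.node (.node (.node (.node .nil (nat_lit 3402) (nat_lit 512) (nat_lit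
  3239) .nil) (nat_lit 3403) (nat_lit 484) (nat_lit 3259) (.node .nil (nat_lit 3404) (nat_lit 484) (nat_lit
  3243) .nil)) (nat_lit 3405) (nat_lit 484) (nat_lit 3248) (.node (.node .nil (nat_lit 3406) (nat_lit 484)
  (nat_lit 3249) .nil) (nat_lit 3407) (nat_lit 486) (nat_lit 3250) .nil)) (nat_lit 3408) (nat_lit 454)
  (nat_lit 3256) (.node (.node (.node .nil (nat_lit 3409) (nat_lit 486) (nat_lit 3258) .nil) (nat_lit 3410)
  (nat_lit 486) (nat_lit 3260) (.node .nil (nat_lit 3411) (nat_lit 516) (nat_lit 3261) .nil)) (nat_lit 3412)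
  (nat_lit 513) (nat_lit 3262) (.node (.node .nil (nat_lit 3413) (nat_lit 519) (nat_lit 3262) .nil) (nat_lit
  3414) (nat_lit 520) (nat_lit 3273) .nil))) (nat_lit 3415) (nat_lit 484) (nat_lit 3266) (.node (.node (.node
  (.node .nil (nat_lit 3416) (nat_lit 484) (nat_lit 3300) .nil) (nat_lit 3417) (nat_lit 484) (nat_lit 3268)
  (.node .nil (nat_lit 3418) (nat_lit 484) (nat_lit 3269) .nil)) (nat_lit 3419) (nat_lit 488) (nat_lit 3450)
  (.node (.node .nil (nat_lit 3420) (nat_lit 512) (nat_lit 3272) .nil) (nat_lit 3421) (nat_lit 485) (nat_lit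
  3444) .nil)) (nat_lit 3422) (nat_lit 516) (nat_lit 3278) (.node (.node (.node .nil (nat_lit 3423) (nat_lit
  520) (nat_lit 3488) .nil) (nat_lit 3424) (nat_lit 520) (nat_lit 3470) (.node .nil (nat_lit 3425) (nat_lit
  520) (nat_lit 3445) .nil)) (nat_lit 3426) (nat_lit 520) (nat_lit 3469) (.node (.node .nil (nat_lit 3427)
  (nat_lit 513) (nat_lit 3283) .nil) (nat_lit 3428) (nat_lit 516) (nat_lit 3286) .nil)))) (nat_lit 3429)
  (nat_lit 513) (nat_lit 3287) (.node (.node (.node (.node (.node .nil (nat_lit 3430) (nat_lit 519) (nat_lit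
  3287) .nil) (nat_lit 3431) (nat_lit 513) (nat_lit 3314) (.node .nil (nat_lit 3432) (nat_lit 513) (nat_lit
  3292) .nil)) (nat_lit 3433) (nat_lit 519) (nat_lit 3309) (.node (.node .nil (nat_lit 3434) (nat_lit 513)
  (nat_lit 3304) .nil) (nat_lit 3435) (nat_lit 519) (nat_lit 3304) .nil)) (nat_lit 3436) (nat_lit 513)
  (nat_lit 3306) (.node (.node (.node .nil (nat_lit 3437) (nat_lit 512) (nat_lit 3309) .nil) (nat_lit 3438)
  (nat_lit 513) (nat_lit 3311) (.node .nil (nat_lit 3439) (nat_lit 514) (nat_lit 3312) .nil)) (nat_lit 3440)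
  (nat_lit 512) (nat_lit 3467) (.node (.node .nil (nat_lit 3441) (nat_lit 470) (nat_lit 3322) .nil) (nat_lit
  3442) (nat_lit 468) (nat_lit 3326) .nil))) (nat_lit 3443) (nat_lit 468) (nat_lit 3327) (.node (.node (.node
  (.node .nil (nat_lit 3444) (nat_lit 472) (nat_lit 3383) .nil) (nat_lit 3445) (nat_lit 500) (nat_lit 3333)
  (.node .nil (nat_lit 3446) (nat_lit 500) (nat_lit 3345) .nil)) (nat_lit 3447) (nat_lit 497) (nat_lit 3395)
  (.node (.node .nil (nat_lit 3448) (nat_lit 497) (nat_lit 3353) .nil) (nat_lit 3449) (nat_lit 468) (nat_lit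
  3337) .nil)) (nat_lit 3450) (nat_lit 468) (nat_lit 3339) (.node (.node (.node .nil (nat_lit 3451) (nat_lit
  500) (nat_lit 3340) .nil) (nat_lit 3452) (nat_lit 497) (nat_lit 3341) .nil) (nat_lit 3453) (nat_lit 498)
  (nat_lit 3385) (.node (.node .nil (nat_lit 3454) (nat_lit 497) (nat_lit 3375) .nil) (nat_lit 3455) (nat_lit
  529) (nat_lit 3346) .nil))))) (nat_lit 3456) (nat_lit 500) (nat_lit 3347) (.node (.node (.node (.node (.node
  (.node .nil (nat_lit 3457) (nat_lit 528) (nat_lit 3356) .nil) (nat_lit 3458) (nat_lit 528) (nat_lit 3382)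
  (.node .nil (nat_lit 3459) (nat_lit 497) (nat_lit 3350) .nil)) (nat_lit 3460) (nat_lit 530) (nat_lit 3391)
  (.node (.node .nil (nat_lit 3461) (nat_lit 496) (nat_lit 3357) .nil) (nat_lit 3462) (nat_lit 531) (nat_lit
  3381) .nil)) (nat_lit 3463) (nat_lit 501) (nat_lit 3352) (.node (.node (.node .nil (nat_lit 3464) (nat_lit
  500) (nat_lit 3360) .nil) (nat_lit 3465) (nat_lit 497) (nat_lit 3405) (.node .nil (nat_lit 3466) (nat_lit
  529) (nat_lit 3422) .nil)) (nat_lit 3467) (nat_lit 497) (nat_lit 3376) (.node (.node .nil (nat_lit 3468)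
  (nat_lit 497) (nat_lit 3377) .nil) (nat_lit 3469) (nat_lit 500) (nat_lit 3361) .nil))) (nat_lit 3470)
  (nat_lit 500) (nat_lit 3362) (.node (.node (.node (.node .nil (nat_lit 3471) (nat_lit 468) (nat_lit 3364)
  .nil) (nat_lit 3472) (nat_lit 468) (nat_lit 3408) (.node .nil (nat_lit 3473) (nat_lit 468) (nat_lit 3370)
  .nil)) (nat_lit 3474) (nat_lit 529) (nat_lit 3373) (.node (.node .nil (nat_lit 3475) (nat_lit 500) (nat_lit
  3409) .nil) (nat_lit 3476) (nat_lit 529) (nat_lit 3378) .nil)) (nat_lit 3477) (nat_lit 530) (nat_lit 3393)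
  (.node (.node (.node .nil (nat_lit 3478) (nat_lit 497) (nat_lit 3384) .nil) (nat_lit 3479) (nat_lit 533)
  (nat_lit 3386) .nil) (nat_lit 3480) (nat_lit 528) (nat_lit 3388) (.node (.node .nil (nat_lit 3481) (nat_lit
  531) (nat_lit 3344) .nil) (nat_lit 3482) (nat_lit 528) (nat_lit 3391) .nil)))) (nat_lit 3483) (nat_lit 535)
  (nat_lit 3412) (.node (.node (.node (.node (.node .nil (nat_lit 3484) (nat_lit 530) (nat_lit 3412) .nil)
  (nat_lit 3485) (nat_lit 530) (nat_lit 3429) (.node .nil (nat_lit 3486) (nat_lit 529) (nat_lit 3420) .nil))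
  (nat_lit 3487) (nat_lit 500) (nat_lit 3407) (.node (.node .nil (nat_lit 3488) (nat_lit 500) (nat_lit 3410)
  .nil) (nat_lit 3489) (nat_lit 529) (nat_lit 3411) .nil)) (nat_lit 3490) (nat_lit 529) (nat_lit 3428) (.node
  (.node (.node .nil (nat_lit 3491) (nat_lit 528) (nat_lit 3429) .nil) (nat_lit 3492) (nat_lit 535) (nat_lit
  3429) (.node .nil (nat_lit 3493) (nat_lit 535) (nat_lit 3434) .nil)) (nat_lit 3494) (nat_lit 533) (nat_lit
  3499) (.node (.node .nil (nat_lit 3495) (nat_lit 530) (nat_lit 3436) .nil) (nat_lit 3496) (nat_lit 484)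
  (nat_lit 3441) .nil))) (nat_lit 3497) (nat_lit 513) (nat_lit 3464) (.node (.node (.node (.node .nil (nat_lit
  3498) (nat_lit 513) (nat_lit 3451) .nil) (nat_lit 3499) (nat_lit 512) (nat_lit 3454) (.node .nil (nat_lit
  3500) (nat_lit 512) (nat_lit 3468) .nil)) (nat_lit 3501) (nat_lit 546) (nat_lit 3455) (.node (.node .nil
  (nat_lit 3502) (nat_lit 544) (nat_lit 3455) .nil) (nat_lit 3503) (nat_lit 513) (nat_lit 3456) .nil))
  (nat_lit 3504) (nat_lit 546) (nat_lit 3476) (.node (.node (.node .nil (nat_lit 3505) (nat_lit 549) (nat_lit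
  3480) .nil) (nat_lit 3506) (nat_lit 517) (nat_lit 3461) .nil) (nat_lit 3507) (nat_lit 513) (nat_lit 3487)
  (.node (.node .nil (nat_lit 3508) (nat_lit 544) (nat_lit 3474) .nil) (nat_lit 3509) (nat_lit 513) (nat_lit
  3475) .nil))))))
def t0 : T := (.node (.node (.node (.node (.node t0_0 (nat_lit 109) (nat_lit 257) (nat_lit 71) t0_1) (nat_lit
  219) (nat_lit 248) (nat_lit 271) (.node t0_2 (nat_lit 329) (nat_lit 341) (nat_lit 393) t0_3)) (nat_lit 438)
  (nat_lit 323) (nat_lit 1339) (.node (.node t0_4 (nat_lit 548) (nat_lit 354) (nat_lit 511) t0_5) (nat_lit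
  658) (nat_lit 374) (nat_lit 593) (.node t0_6 (nat_lit 768) (nat_lit 199) (nat_lit 820) t0_7))) (nat_lit 877)
  (nat_lit 324) (nat_lit 973) (.node (.node (.node t0_8 (nat_lit 987) (nat_lit 305) (nat_lit 1129) t0_9)
  (nat_lit 1097) (nat_lit 356) (nat_lit 1269) (.node t0_10 (nat_lit 1207) (nat_lit 296) (nat_lit 1376) t0_11))
  (nat_lit 1316) (nat_lit 279) (nat_lit 1556) (.node (.node t0_12 (nat_lit 1426) (nat_lit 280) (nat_lit 1570)
  t0_13) (nat_lit 1536) (nat_lit 389) (nat_lit 1327) (.node t0_14 (nat_lit 1646) (nat_lit 450) (nat_lit 1978)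
  t0_15)))) (nat_lit 1755) (nat_lit 438) (nat_lit 1476) (.node (.node (.node (.node t0_16 (nat_lit 1865)
  (nat_lit 404) (nat_lit 1672) t0_17) (nat_lit 1975) (nat_lit 280) (nat_lit 2370) (.node t0_18 (nat_lit 2085)
  (nat_lit 328) (nat_lit 1838) t0_19)) (nat_lit 2194) (nat_lit 456) (nat_lit 2607) (.node (.node t0_20
  (nat_lit 2304) (nat_lit 354) (nat_lit 1943) t0_21) (nat_lit 2414) (nat_lit 453) (nat_lit 2534) (.node t0_22
  (nat_lit 2524) (nat_lit 472) (nat_lit 2865) t0_23))) (nat_lit 2633) (nat_lit 470) (nat_lit 2221) (.node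
  (.node (.node t0_24 (nat_lit 2743) (nat_lit 466) (nat_lit 3047) t0_25) (nat_lit 2853) (nat_lit 388) (nat_lit
  2469) (.node t0_26 (nat_lit 2963) (nat_lit 448) (nat_lit 2643) t0_27)) (nat_lit 3072) (nat_lit 486) (nat_lit
  2738) (.node (.node t0_28 (nat_lit 3182) (nat_lit 436) (nat_lit 2991) t0_29) (nat_lit 3291) (nat_lit 529)
  (nat_lit 3078) (.node t0_30 (nat_lit 3401) (nat_lit 515) (nat_lit 3163) t0_31)))))
def t1_0 : T := (.node (.node (.node (.node (.node (.node (.node (.node .nil (nat_lit 0) (nat_lit 65) (nat_lit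
  1) .nil) (nat_lit 1) (nat_lit 50) (nat_lit 2) .nil) (nat_lit 2) (nat_lit 32) (nat_lit 5) (.node (.node .nil
  (nat_lit 3) (nat_lit 34) (nat_lit 5) .nil) (nat_lit 4) (nat_lit 68) (nat_lit 1) .nil)) (nat_lit 5) (nat_lit
  17) (nat_lit 10) (.node (.node (.node .nil (nat_lit 6) (nat_lit 52) (nat_lit 2) .nil) (nat_lit 8) (nat_lit
  52) (nat_lit 3) .nil) (nat_lit 9) (nat_lit 85) (nat_lit 4) (.node .nil (nat_lit 10) (nat_lit 0) (nat_lit 10)
  .nil))) (nat_lit 12) (nat_lit 36) (nat_lit 5) (.node (.node (.node (.node .nil (nat_lit 13) (nat_lit 65)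
  (nat_lit 6) .nil) (nat_lit 14) (nat_lit 69) (nat_lit 6) .nil) (nat_lit 18) (nat_lit 65) (nat_lit 8) (.node
  (.node .nil (nat_lit 19) (nat_lit 69) (nat_lit 8) .nil) (nat_lit 20) (nat_lit 195) (nat_lit 714) .nil))
  (nat_lit 25) (nat_lit 53) (nat_lit 12) (.node (.node (.node .nil (nat_lit 26) (nat_lit 85) (nat_lit 13)
  .nil) (nat_lit 27) (nat_lit 210) (nat_lit 20) .nil) (nat_lit 34) (nat_lit 85) (nat_lit 18) (.node .nil
  (nat_lit 35) (nat_lit 179) (nat_lit 728) .nil)))) (nat_lit 45) (nat_lit 194) (nat_lit 35) (.node (.node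
  (.node (.node (.node .nil (nat_lit 46) (nat_lit 100) (nat_lit 26) .nil) (nat_lit 47) (nat_lit 225) (nat_lit
  27) .nil) (nat_lit 52) (nat_lit 131) (nat_lit 736) (.node (.node .nil (nat_lit 60) (nat_lit 100) (nat_lit
  34) .nil) (nat_lit 61) (nat_lit 163) (nat_lit 753) .nil)) (nat_lit 71) (nat_lit 146) (nat_lit 52) (.node
  (.node (.node .nil (nat_lit 77) (nat_lit 244) (nat_lit 47) .nil) (nat_lit 85) (nat_lit 115) (nat_lit 767)
  .nil) (nat_lit 87) (nat_lit 115) (nat_lit 770) (.node .nil (nat_lit 88) (nat_lit 149) (nat_lit 52) .nil)))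
  (nat_lit 99) (nat_lit 147) (nat_lit 793) (.node (.node (.node (.node .nil (nat_lit 107) (nat_lit 261)
  (nat_lit 77) .nil) (nat_lit 109) (nat_lit 161) (nat_lit 71) .nil) (nat_lit 113) (nat_lit 130) (nat_lit 85)
  (.node (.node .nil (nat_lit 115) (nat_lit 130) (nat_lit 87) .nil) (nat_lit 116) (nat_lit 165) (nat_lit 71)
  .nil)) (nat_lit 127) (nat_lit 131) (nat_lit 806) (.node (.node (.node .nil (nat_lit 132) (nat_lit 131)
  (nat_lit 811) .nil) (nat_lit 136) (nat_lit 99) (nat_lit 816) .nil) (nat_lit 137) (nat_lit 133) (nat_lit 85)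
  (.node .nil (nat_lit 139) (nat_lit 131) (nat_lit 821) .nil))))) (nat_lit 140) (nat_lit 133) (nat_lit 87)
  (.node (.node (.node (.node (.node (.node .nil (nat_lit 141) (nat_lit 164) (nat_lit 88) .nil) (nat_lit 142)
  (nat_lit 194) (nat_lit 177) .nil) (nat_lit 146) (nat_lit 131) (nat_lit 751) (.node (.node .nil (nat_lit 167)
  (nat_lit 184) (nat_lit 269) .nil) (nat_lit 172) (nat_lit 114) (nat_lit 136) .nil)) (nat_lit 173) (nat_lit
  149) (nat_lit 113) (.node (.node (.node .nil (nat_lit 175) (nat_lit 149) (nat_lit 115) .nil) (nat_lit 176)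
  (nat_lit 180) (nat_lit 116) .nil) (nat_lit 177) (nat_lit 177) (nat_lit 235) (.node .nil (nat_lit 188)
  (nat_lit 120) (nat_lit 46) .nil))) (nat_lit 195) (nat_lit 149) (nat_lit 132) (.node (.node (.node (.node
  .nil (nat_lit 201) (nat_lit 117) (nat_lit 136) .nil) (nat_lit 202) (nat_lit 148) (nat_lit 137) .nil)
  (nat_lit 203) (nat_lit 152) (nat_lit 243) (.node (.node .nil (nat_lit 205) (nat_lit 149) (nat_lit 139) .nil)
  (nat_lit 206) (nat_lit 148) (nat_lit 140) .nil)) (nat_lit 207) (nat_lit 210) (nat_lit 248) (.node (.node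
  (.node .nil (nat_lit 208) (nat_lit 179) (nat_lit 900) .nil) (nat_lit 209) (nat_lit 178) (nat_lit 250) .nil)
  (nat_lit 234) (nat_lit 168) (nat_lit 195) (.node .nil (nat_lit 235) (nat_lit 164) (nat_lit 314) .nil))))
  (nat_lit 242) (nat_lit 129) (nat_lit 172) (.node (.node (.node (.node (.node .nil (nat_lit 243) (nat_lit
  133) (nat_lit 172) .nil) (nat_lit 244) (nat_lit 164) (nat_lit 173) .nil) (nat_lit 245) (nat_lit 136)
  (nat_lit 201) (.node (.node .nil (nat_lit 247) (nat_lit 164) (nat_lit 175) .nil) (nat_lit 248) (nat_lit 192)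
  (nat_lit 177) .nil)) (nat_lit 249) (nat_lit 168) (nat_lit 202) (.node (.node (.node .nil (nat_lit 250)
  (nat_lit 161) (nat_lit 322) .nil) (nat_lit 257) (nat_lit 104) (nat_lit 26) .nil) (nat_lit 258) (nat_lit 227)
  (nat_lit 962) (.node .nil (nat_lit 269) (nat_lit 164) (nat_lit 195) .nil))) (nat_lit 270) (nat_lit 168)
  (nat_lit 314) (.node (.node (.node (.node .nil (nat_lit 279) (nat_lit 132) (nat_lit 201) .nil) (nat_lit 280)
  (nat_lit 168) (nat_lit 173) .nil) (nat_lit 281) (nat_lit 161) (nat_lit 202) (.node .nil (nat_lit 282)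
  (nat_lit 168) (nat_lit 322) .nil)) (nat_lit 285) (nat_lit 164) (nat_lit 205) (.node (.node (.node .nil
  (nat_lit 286) (nat_lit 227) (nat_lit 1001) .nil) (nat_lit 287) (nat_lit 161) (nat_lit 206) .nil) (nat_lit
  288) (nat_lit 194) (nat_lit 326) (.node .nil (nat_lit 290) (nat_lit 195) (nat_lit 1317) .nil)))))) (nat_lit
  291) (nat_lit 163) (nat_lit 1009) (.node (.node (.node (.node (.node (.node (.node .nil (nat_lit 292)
  (nat_lit 162) (nat_lit 361) .nil) (nat_lit 293) (nat_lit 194) (nat_lit 325) .nil) (nat_lit 303) (nat_lit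
  200) (nat_lit 208) (.node (.node .nil (nat_lit 313) (nat_lit 152) (nat_lit 137) .nil) (nat_lit 314) (nat_lit
  149) (nat_lit 242) .nil)) (nat_lit 322) (nat_lit 148) (nat_lit 243) (.node (.node (.node .nil (nat_lit 323)
  (nat_lit 177) (nat_lit 244) .nil) (nat_lit 324) (nat_lit 152) (nat_lit 279) .nil) (nat_lit 325) (nat_lit
  177) (nat_lit 247) (.node .nil (nat_lit 326) (nat_lit 176) (nat_lit 250) .nil))) (nat_lit 328) (nat_lit 184)
  (nat_lit 244) (.node (.node (.node (.node .nil (nat_lit 331) (nat_lit 88) (nat_lit 14) .nil) (nat_lit 332)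
  (nat_lit 248) (nat_lit 47) .nil) (nat_lit 350) (nat_lit 177) (nat_lit 269) (.node (.node .nil (nat_lit 351)
  (nat_lit 184) (nat_lit 235) .nil) (nat_lit 357) (nat_lit 184) (nat_lit 291) .nil)) (nat_lit 361) (nat_lit
  145) (nat_lit 279) (.node (.node (.node .nil (nat_lit 362) (nat_lit 184) (nat_lit 141) .nil) (nat_lit 363)
  (nat_lit 176) (nat_lit 281) .nil) (nat_lit 364) (nat_lit 184) (nat_lit 250) (.node .nil (nat_lit 366)
  (nat_lit 177) (nat_lit 285) .nil)))) (nat_lit 367) (nat_lit 243) (nat_lit 1148) (.node (.node (.node (.node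
  (.node .nil (nat_lit 369) (nat_lit 178) (nat_lit 287) .nil) (nat_lit 370) (nat_lit 179) (nat_lit 1153) .nil)
  (nat_lit 371) (nat_lit 216) (nat_lit 444) (.node (.node .nil (nat_lit 373) (nat_lit 184) (nat_lit 292) .nil)
  (nat_lit 375) (nat_lit 179) (nat_lit 1555) .nil)) (nat_lit 377) (nat_lit 178) (nat_lit 431) (.node (.node
  (.node .nil (nat_lit 390) (nat_lit 165) (nat_lit 324) .nil) (nat_lit 393) (nat_lit 168) (nat_lit 361) .nil)
  (nat_lit 394) (nat_lit 104) (nat_lit 9) (.node .nil (nat_lit 395) (nat_lit 72) (nat_lit 25) .nil))) (nat_lit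
  396) (nat_lit 232) (nat_lit 27) (.node (.node (.node (.node .nil (nat_lit 398) (nat_lit 261) (nat_lit 332)
  .nil) (nat_lit 419) (nat_lit 168) (nat_lit 88) .nil) (nat_lit 420) (nat_lit 168) (nat_lit 175) (.node (.node
  .nil (nat_lit 421) (nat_lit 200) (nat_lit 177) .nil) (nat_lit 422) (nat_lit 197) (nat_lit 351) .nil))
  (nat_lit 425) (nat_lit 200) (nat_lit 370) (.node (.node (.node .nil (nat_lit 431) (nat_lit 160) (nat_lit
  361) .nil) (nat_lit 432) (nat_lit 168) (nat_lit 206) .nil) (nat_lit 433) (nat_lit 200) (nat_lit 209) (.node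
  .nil (nat_lit 435) (nat_lit 195) (nat_lit 1325) .nil))))) (nat_lit 437) (nat_lit 194) (nat_lit 366) (.node
  (.node (.node (.node (.node (.node .nil (nat_lit 438) (nat_lit 192) (nat_lit 366) .nil) (nat_lit 439)
  (nat_lit 232) (nat_lit 510) .nil) (nat_lit 441) (nat_lit 259) (nat_lit 1343) (.node (.node .nil (nat_lit
  444) (nat_lit 194) (nat_lit 370) .nil) (nat_lit 446) (nat_lit 200) (nat_lit 369) .nil)) (nat_lit 460)
  (nat_lit 88) (nat_lit 19) (.node (.node (.node .nil (nat_lit 461) (nat_lit 216) (nat_lit 20) .nil) (nat_lit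
  462) (nat_lit 216) (nat_lit 45) .nil) (nat_lit 464) (nat_lit 245) (nat_lit 396) (.node .nil (nat_lit 493)
  (nat_lit 152) (nat_lit 140) .nil))) (nat_lit 494) (nat_lit 216) (nat_lit 142) (.node (.node (.node (.node
  .nil (nat_lit 495) (nat_lit 211) (nat_lit 1519) .nil) (nat_lit 496) (nat_lit 213) (nat_lit 421) .nil)
  (nat_lit 500) (nat_lit 184) (nat_lit 287) (.node (.node .nil (nat_lit 501) (nat_lit 216) (nat_lit 438) .nil)
  (nat_lit 506) (nat_lit 210) (nat_lit 435) .nil)) (nat_lit 510) (nat_lit 210) (nat_lit 438) (.node (.node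
  (.node .nil (nat_lit 512) (nat_lit 216) (nat_lit 437) .nil) (nat_lit 513) (nat_lit 245) (nat_lit 439) .nil)
  (nat_lit 534) (nat_lit 104) (nat_lit 34) (.node .nil (nat_lit 535) (nat_lit 200) (nat_lit 35) .nil))))
  (nat_lit 536) (nat_lit 229) (nat_lit 461) (.node (.node (.node (.node (.node .nil (nat_lit 538) (nat_lit
  229) (nat_lit 462) .nil) (nat_lit 541) (nat_lit 260) (nat_lit 464) .nil) (nat_lit 550) (nat_lit 227)
  (nat_lit 1770) (.node (.node .nil (nat_lit 576) (nat_lit 168) (nat_lit 205) .nil) (nat_lit 578) (nat_lit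
  226) (nat_lit 495) .nil)) (nat_lit 579) (nat_lit 229) (nat_lit 494) (.node (.node (.node .nil (nat_lit 581)
  (nat_lit 228) (nat_lit 653) .nil) (nat_lit 582) (nat_lit 229) (nat_lit 501) .nil) (nat_lit 587) (nat_lit
  200) (nat_lit 366) (.node .nil (nat_lit 594) (nat_lit 229) (nat_lit 512) .nil))) (nat_lit 598) (nat_lit 168)
  (nat_lit 99) (.node (.node (.node (.node .nil (nat_lit 610) (nat_lit 120) (nat_lit 60) .nil) (nat_lit 611)
  (nat_lit 184) (nat_lit 61) .nil) (nat_lit 613) (nat_lit 213) (nat_lit 535) (.node .nil (nat_lit 614)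
  (nat_lit 244) (nat_lit 536) .nil)) (nat_lit 618) (nat_lit 244) (nat_lit 538) (.node (.node (.node .nil
  (nat_lit 625) (nat_lit 243) (nat_lit 2128) .nil) (nat_lit 628) (nat_lit 184) (nat_lit 285) .nil) (nat_lit
  651) (nat_lit 244) (nat_lit 594) (.node .nil (nat_lit 653) (nat_lit 213) (nat_lit 587) .nil)))))))
def t1_1 : T := (.node (.node (.node (.node (.node (.node (.node (.node .nil (nat_lit 665) (nat_lit 197)
  (nat_lit 611) .nil) (nat_lit 667) (nat_lit 228) (nat_lit 613) .nil) (nat_lit 668) (nat_lit 257) (nat_lit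
  614) (.node (.node .nil (nat_lit 673) (nat_lit 257) (nat_lit 618) .nil) (nat_lit 679) (nat_lit 259) (nat_lit
  2543) .nil)) (nat_lit 680) (nat_lit 197) (nat_lit 628) (.node (.node (.node .nil (nat_lit 693) (nat_lit 131)
  (nat_lit 696) .nil) (nat_lit 694) (nat_lit 98) (nat_lit 695) .nil) (nat_lit 695) (nat_lit 83) (nat_lit 0)
  (.node .nil (nat_lit 696) (nat_lit 118) (nat_lit 694) .nil))) (nat_lit 697) (nat_lit 67) (nat_lit 1) (.node
  (.node (.node (.node .nil (nat_lit 698) (nat_lit 102) (nat_lit 695) .nil) (nat_lit 699) (nat_lit 51)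
  (nat_lit 3) .nil) (nat_lit 700) (nat_lit 84) (nat_lit 697) (.node (.node .nil (nat_lit 701) (nat_lit 86)
  (nat_lit 697) .nil) (nat_lit 703) (nat_lit 68) (nat_lit 699) .nil)) (nat_lit 704) (nat_lit 70) (nat_lit 699)
  (.node (.node (.node .nil (nat_lit 705) (nat_lit 101) (nat_lit 700) .nil) (nat_lit 706) (nat_lit 102)
  (nat_lit 700) .nil) (nat_lit 711) (nat_lit 81) (nat_lit 703) (.node .nil (nat_lit 712) (nat_lit 85) (nat_lit
  703) .nil)))) (nat_lit 713) (nat_lit 86) (nat_lit 703) (.node (.node (.node (.node (.node .nil (nat_lit 714)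
  (nat_lit 182) (nat_lit 731) .nil) (nat_lit 715) (nat_lit 118) (nat_lit 705) .nil) (nat_lit 725) (nat_lit 98)
  (nat_lit 711) (.node (.node .nil (nat_lit 726) (nat_lit 101) (nat_lit 711) .nil) (nat_lit 727) (nat_lit 102)
  (nat_lit 711) .nil)) (nat_lit 728) (nat_lit 166) (nat_lit 756) (.node (.node (.node .nil (nat_lit 729)
  (nat_lit 102) (nat_lit 712) .nil) (nat_lit 731) (nat_lit 160) (nat_lit 756) .nil) (nat_lit 736) (nat_lit
  120) (nat_lit 706) (.node .nil (nat_lit 750) (nat_lit 117) (nat_lit 725) .nil))) (nat_lit 751) (nat_lit 118)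
  (nat_lit 725) (.node (.node (.node (.node .nil (nat_lit 752) (nat_lit 116) (nat_lit 726) .nil) (nat_lit 753)
  (nat_lit 150) (nat_lit 791) .nil) (nat_lit 754) (nat_lit 118) (nat_lit 726) (.node (.node .nil (nat_lit 756)
  (nat_lit 145) (nat_lit 791) .nil) (nat_lit 767) (nat_lit 104) (nat_lit 701) .nil)) (nat_lit 770) (nat_lit
  104) (nat_lit 713) (.node (.node (.node .nil (nat_lit 771) (nat_lit 133) (nat_lit 736) .nil) (nat_lit 772)
  (nat_lit 104) (nat_lit 700) .nil) (nat_lit 791) (nat_lit 132) (nat_lit 750) (.node .nil (nat_lit 792)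
  (nat_lit 134) (nat_lit 752) .nil))))) (nat_lit 793) (nat_lit 134) (nat_lit 750) (.node (.node (.node (.node
  (.node (.node .nil (nat_lit 806) (nat_lit 120) (nat_lit 694) .nil) (nat_lit 811) (nat_lit 120) (nat_lit 698)
  .nil) (nat_lit 816) (nat_lit 88) (nat_lit 704) (.node (.node .nil (nat_lit 817) (nat_lit 117) (nat_lit 767)
  .nil) (nat_lit 818) (nat_lit 88) (nat_lit 697) .nil)) (nat_lit 821) (nat_lit 120) (nat_lit 727) (.node
  (.node (.node .nil (nat_lit 822) (nat_lit 117) (nat_lit 770) .nil) (nat_lit 823) (nat_lit 88) (nat_lit 703)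
  .nil) (nat_lit 824) (nat_lit 148) (nat_lit 771) (.node .nil (nat_lit 825) (nat_lit 211) (nat_lit 142)
  .nil))) (nat_lit 826) (nat_lit 117) (nat_lit 772) (.node (.node (.node (.node .nil (nat_lit 864) (nat_lit
  104) (nat_lit 695) .nil) (nat_lit 869) (nat_lit 136) (nat_lit 696) .nil) (nat_lit 871) (nat_lit 133)
  (nat_lit 806) (.node (.node .nil (nat_lit 879) (nat_lit 133) (nat_lit 811) .nil) (nat_lit 887) (nat_lit 101)
  (nat_lit 816) .nil)) (nat_lit 888) (nat_lit 72) (nat_lit 699) (.node (.node (.node .nil (nat_lit 889)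
  (nat_lit 132) (nat_lit 817) .nil) (nat_lit 890) (nat_lit 163) (nat_lit 203) .nil) (nat_lit 891) (nat_lit
  101) (nat_lit 818) (.node .nil (nat_lit 894) (nat_lit 136) (nat_lit 751) .nil)))) (nat_lit 895) (nat_lit
  133) (nat_lit 821) (.node (.node (.node (.node (.node .nil (nat_lit 896) (nat_lit 104) (nat_lit 711) .nil)
  (nat_lit 897) (nat_lit 132) (nat_lit 822) .nil) (nat_lit 898) (nat_lit 230) (nat_lit 1007) (.node (.node
  .nil (nat_lit 899) (nat_lit 101) (nat_lit 823) .nil) (nat_lit 900) (nat_lit 166) (nat_lit 1011) .nil))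
  (nat_lit 901) (nat_lit 195) (nat_lit 209) (.node (.node (.node .nil (nat_lit 902) (nat_lit 132) (nat_lit
  826) .nil) (nat_lit 903) (nat_lit 224) (nat_lit 1007) .nil) (nat_lit 952) (nat_lit 117) (nat_lit 864) (.node
  .nil (nat_lit 959) (nat_lit 149) (nat_lit 869) .nil))) (nat_lit 961) (nat_lit 115) (nat_lit 257) (.node
  (.node (.node (.node .nil (nat_lit 962) (nat_lit 214) (nat_lit 1087) .nil) (nat_lit 974) (nat_lit 148)
  (nat_lit 879) .nil) (nat_lit 975) (nat_lit 179) (nat_lit 270) (.node .nil (nat_lit 988) (nat_lit 116)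
  (nat_lit 887) .nil)) (nat_lit 989) (nat_lit 179) (nat_lit 280) (.node (.node (.node .nil (nat_lit 990)
  (nat_lit 85) (nat_lit 888) .nil) (nat_lit 991) (nat_lit 145) (nat_lit 889) .nil) (nat_lit 992) (nat_lit 179)
  (nat_lit 282) (.node .nil (nat_lit 993) (nat_lit 116) (nat_lit 891) .nil)))))) (nat_lit 994) (nat_lit 182)
  (nat_lit 890) (.node (.node (.node (.node (.node (.node (.node .nil (nat_lit 998) (nat_lit 149) (nat_lit
  894) .nil) (nat_lit 999) (nat_lit 120) (nat_lit 725) .nil) (nat_lit 1000) (nat_lit 148) (nat_lit 895) (.node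
  (.node .nil (nat_lit 1001) (nat_lit 214) (nat_lit 1151) .nil) (nat_lit 1002) (nat_lit 117) (nat_lit 896)
  .nil)) (nat_lit 1003) (nat_lit 145) (nat_lit 897) (.node (.node (.node .nil (nat_lit 1004) (nat_lit 211)
  (nat_lit 288) .nil) (nat_lit 1005) (nat_lit 116) (nat_lit 899) .nil) (nat_lit 1007) (nat_lit 209) (nat_lit
  1151) (.node .nil (nat_lit 1008) (nat_lit 150) (nat_lit 1163) .nil))) (nat_lit 1009) (nat_lit 150) (nat_lit
  1166) (.node (.node (.node (.node .nil (nat_lit 1010) (nat_lit 179) (nat_lit 292) .nil) (nat_lit 1011)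
  (nat_lit 146) (nat_lit 1163) .nil) (nat_lit 1012) (nat_lit 211) (nat_lit 293) (.node (.node .nil (nat_lit
  1013) (nat_lit 214) (nat_lit 901) .nil) (nat_lit 1036) (nat_lit 184) (nat_lit 2213) .nil)) (nat_lit 1074)
  (nat_lit 132) (nat_lit 952) (.node (.node (.node .nil (nat_lit 1075) (nat_lit 198) (nat_lit 975) .nil)
  (nat_lit 1086) (nat_lit 134) (nat_lit 961) .nil) (nat_lit 1087) (nat_lit 194) (nat_lit 975) (.node .nil
  (nat_lit 1089) (nat_lit 99) (nat_lit 331) .nil)))) (nat_lit 1090) (nat_lit 226) (nat_lit 1237) (.node (.node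
  (.node (.node (.node .nil (nat_lit 1109) (nat_lit 161) (nat_lit 974) .nil) (nat_lit 1110) (nat_lit 195)
  (nat_lit 351) .nil) (nat_lit 1117) (nat_lit 168) (nat_lit 1954) (.node (.node .nil (nat_lit 1130) (nat_lit
  129) (nat_lit 988) .nil) (nat_lit 1131) (nat_lit 198) (nat_lit 1319) .nil)) (nat_lit 1132) (nat_lit 100)
  (nat_lit 990) (.node (.node (.node .nil (nat_lit 1134) (nat_lit 196) (nat_lit 1319) .nil) (nat_lit 1135)
  (nat_lit 166) (nat_lit 1323) .nil) (nat_lit 1136) (nat_lit 160) (nat_lit 991) (.node .nil (nat_lit 1137)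
  (nat_lit 198) (nat_lit 1327) .nil))) (nat_lit 1138) (nat_lit 129) (nat_lit 993) (.node (.node (.node (.node
  .nil (nat_lit 1139) (nat_lit 165) (nat_lit 1304) .nil) (nat_lit 1144) (nat_lit 134) (nat_lit 1335) .nil)
  (nat_lit 1145) (nat_lit 198) (nat_lit 1337) (.node .nil (nat_lit 1146) (nat_lit 133) (nat_lit 999) .nil))
  (nat_lit 1147) (nat_lit 161) (nat_lit 1000) (.node (.node (.node .nil (nat_lit 1148) (nat_lit 230) (nat_lit
  1344) .nil) (nat_lit 1149) (nat_lit 132) (nat_lit 1002) .nil) (nat_lit 1151) (nat_lit 194) (nat_lit 1337)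
  (.node .nil (nat_lit 1152) (nat_lit 162) (nat_lit 1003) .nil))))) (nat_lit 1153) (nat_lit 166) (nat_lit
  1353) (.node (.node (.node (.node (.node (.node .nil (nat_lit 1154) (nat_lit 227) (nat_lit 371) .nil)
  (nat_lit 1155) (nat_lit 129) (nat_lit 1005) .nil) (nat_lit 1157) (nat_lit 195) (nat_lit 373) (.node (.node
  .nil (nat_lit 1158) (nat_lit 228) (nat_lit 1007) .nil) (nat_lit 1161) (nat_lit 134) (nat_lit 1363) .nil))
  (nat_lit 1162) (nat_lit 163) (nat_lit 1315) (.node (.node (.node .nil (nat_lit 1163) (nat_lit 131) (nat_lit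
  2030) .nil) (nat_lit 1165) (nat_lit 195) (nat_lit 377) .nil) (nat_lit 1166) (nat_lit 130) (nat_lit 1363)
  (.node .nil (nat_lit 1167) (nat_lit 195) (nat_lit 369) .nil))) (nat_lit 1168) (nat_lit 198) (nat_lit 1010)
  (.node (.node (.node (.node .nil (nat_lit 1169) (nat_lit 193) (nat_lit 1373) .nil) (nat_lit 1190) (nat_lit
  198) (nat_lit 1397) .nil) (nat_lit 1195) (nat_lit 168) (nat_lit 1843) (.node (.node .nil (nat_lit 1236)
  (nat_lit 145) (nat_lit 1074) .nil) (nat_lit 1237) (nat_lit 209) (nat_lit 1444) .nil)) (nat_lit 1255)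
  (nat_lit 118) (nat_lit 1089) (.node (.node (.node .nil (nat_lit 1256) (nat_lit 210) (nat_lit 1110) .nil)
  (nat_lit 1258) (nat_lit 114) (nat_lit 1089) .nil) (nat_lit 1259) (nat_lit 83) (nat_lit 395) (.node .nil
  (nat_lit 1260) (nat_lit 243) (nat_lit 396) .nil)))) (nat_lit 1262) (nat_lit 245) (nat_lit 1090) (.node
  (.node (.node (.node (.node .nil (nat_lit 1287) (nat_lit 150) (nat_lit 1442) .nil) (nat_lit 1288) (nat_lit
  176) (nat_lit 1109) .nil) (nat_lit 1289) (nat_lit 214) (nat_lit 1444) (.node (.node .nil (nat_lit 1290)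
  (nat_lit 213) (nat_lit 1110) .nil) (nat_lit 1295) (nat_lit 184) (nat_lit 1623) .nil)) (nat_lit 1304)
  (nat_lit 152) (nat_lit 2211) (.node (.node (.node .nil (nat_lit 1313) (nat_lit 184) (nat_lit 1654) .nil)
  (nat_lit 1315) (nat_lit 146) (nat_lit 1130) .nil) (nat_lit 1316) (nat_lit 144) (nat_lit 1130) (.node .nil
  (nat_lit 1317) (nat_lit 182) (nat_lit 1557) .nil))) (nat_lit 1318) (nat_lit 113) (nat_lit 1132) (.node
  (.node (.node (.node .nil (nat_lit 1319) (nat_lit 177) (nat_lit 1557) .nil) (nat_lit 1321) (nat_lit 150)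
  (nat_lit 1561) .nil) (nat_lit 1322) (nat_lit 214) (nat_lit 1562) (.node .nil (nat_lit 1323) (nat_lit 149)
  (nat_lit 1163) .nil)) (nat_lit 1325) (nat_lit 182) (nat_lit 1566) (.node (.node (.node .nil (nat_lit 1326)
  (nat_lit 144) (nat_lit 1138) .nil) (nat_lit 1327) (nat_lit 176) (nat_lit 1566) .nil) (nat_lit 1333) (nat_lit
  118) (nat_lit 1576) (.node .nil (nat_lit 1334) (nat_lit 214) (nat_lit 1579) .nil)))))))
def t1_2 : T := (.node (.node (.node (.node (.node (.node (.node (.node .nil (nat_lit 1337) (nat_lit 179)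
  (nat_lit 598) .nil) (nat_lit 1338) (nat_lit 150) (nat_lit 1585) .nil) (nat_lit 1339) (nat_lit 176) (nat_lit
  1147) (.node (.node .nil (nat_lit 1340) (nat_lit 246) (nat_lit 1591) .nil) (nat_lit 1341) (nat_lit 145)
  (nat_lit 1149) .nil)) (nat_lit 1343) (nat_lit 246) (nat_lit 1596) (.node (.node (.node .nil (nat_lit 1344)
  (nat_lit 210) (nat_lit 1579) .nil) (nat_lit 1348) (nat_lit 177) (nat_lit 1597) .nil) (nat_lit 1349) (nat_lit
  211) (nat_lit 1521) (.node .nil (nat_lit 1350) (nat_lit 146) (nat_lit 1155) .nil))) (nat_lit 1352) (nat_lit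
  211) (nat_lit 446) (.node (.node (.node (.node .nil (nat_lit 1353) (nat_lit 145) (nat_lit 1166) .nil)
  (nat_lit 1355) (nat_lit 211) (nat_lit 433) .nil) (nat_lit 1356) (nat_lit 240) (nat_lit 1609) (.node (.node
  .nil (nat_lit 1358) (nat_lit 214) (nat_lit 1157) .nil) (nat_lit 1360) (nat_lit 150) (nat_lit 1616) .nil))
  (nat_lit 1362) (nat_lit 179) (nat_lit 1551) (.node (.node (.node .nil (nat_lit 1363) (nat_lit 115) (nat_lit
  2424) .nil) (nat_lit 1364) (nat_lit 179) (nat_lit 1152) .nil) (nat_lit 1365) (nat_lit 182) (nat_lit 1162)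
  (.node .nil (nat_lit 1370) (nat_lit 210) (nat_lit 1621) .nil)))) (nat_lit 1371) (nat_lit 210) (nat_lit 1622)
  (.node (.node (.node (.node (.node .nil (nat_lit 1372) (nat_lit 178) (nat_lit 1623) .nil) (nat_lit 1373)
  (nat_lit 178) (nat_lit 1624) .nil) (nat_lit 1390) (nat_lit 182) (nat_lit 1654) (.node (.node .nil (nat_lit
  1396) (nat_lit 182) (nat_lit 1657) .nil) (nat_lit 1397) (nat_lit 181) (nat_lit 1557) .nil)) (nat_lit 1412)
  (nat_lit 115) (nat_lit 394) (.node (.node (.node .nil (nat_lit 1442) (nat_lit 129) (nat_lit 1258) .nil)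
  (nat_lit 1443) (nat_lit 160) (nat_lit 1236) .nil) (nat_lit 1444) (nat_lit 196) (nat_lit 1327) (.node .nil
  (nat_lit 1446) (nat_lit 229) (nat_lit 1237) .nil))) (nat_lit 1471) (nat_lit 134) (nat_lit 1258) (.node
  (.node (.node (.node .nil (nat_lit 1472) (nat_lit 102) (nat_lit 1259) .nil) (nat_lit 1473) (nat_lit 225)
  (nat_lit 1256) .nil) (nat_lit 1474) (nat_lit 229) (nat_lit 1256) (.node (.node .nil (nat_lit 1475) (nat_lit
  98) (nat_lit 1259) .nil) (nat_lit 1476) (nat_lit 225) (nat_lit 1707) .nil)) (nat_lit 1477) (nat_lit 227)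
  (nat_lit 462) (.node (.node (.node .nil (nat_lit 1479) (nat_lit 261) (nat_lit 1260) .nil) (nat_lit 1517)
  (nat_lit 166) (nat_lit 1706) .nil) (nat_lit 1518) (nat_lit 230) (nat_lit 1707) (.node .nil (nat_lit 1519)
  (nat_lit 198) (nat_lit 1708) .nil))))) (nat_lit 1520) (nat_lit 230) (nat_lit 1710) (.node (.node (.node
  (.node (.node (.node .nil (nat_lit 1521) (nat_lit 200) (nat_lit 1372) .nil) (nat_lit 1531) (nat_lit 198)
  (nat_lit 1832) .nil) (nat_lit 1532) (nat_lit 200) (nat_lit 1364) (.node (.node .nil (nat_lit 1533) (nat_lit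
  168) (nat_lit 1955) .nil) (nat_lit 1544) (nat_lit 168) (nat_lit 1988) .nil)) (nat_lit 1547) (nat_lit 163)
  (nat_lit 1287) (.node (.node (.node .nil (nat_lit 1549) (nat_lit 227) (nat_lit 494) .nil) (nat_lit 1550)
  (nat_lit 196) (nat_lit 1397) .nil) (nat_lit 1551) (nat_lit 162) (nat_lit 1316) (.node .nil (nat_lit 1552)
  (nat_lit 166) (nat_lit 1853) .nil))) (nat_lit 1553) (nat_lit 130) (nat_lit 1318) (.node (.node (.node (.node
  .nil (nat_lit 1555) (nat_lit 166) (nat_lit 1856) .nil) (nat_lit 1556) (nat_lit 128) (nat_lit 1318) .nil)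
  (nat_lit 1557) (nat_lit 162) (nat_lit 1853) (.node (.node .nil (nat_lit 1558) (nat_lit 166) (nat_lit 1860)
  .nil) (nat_lit 1560) (nat_lit 198) (nat_lit 1864) .nil)) (nat_lit 1561) (nat_lit 133) (nat_lit 1363) (.node
  (.node (.node .nil (nat_lit 1562) (nat_lit 192) (nat_lit 1864) .nil) (nat_lit 1566) (nat_lit 161) (nat_lit
  1856) .nil) (nat_lit 1573) (nat_lit 134) (nat_lit 1878) (.node .nil (nat_lit 1574) (nat_lit 134) (nat_lit
  1412) .nil)))) (nat_lit 1575) (nat_lit 200) (nat_lit 1362) (.node (.node (.node (.node (.node .nil (nat_lit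
  1576) (nat_lit 99) (nat_lit 460) .nil) (nat_lit 1578) (nat_lit 230) (nat_lit 1887) .nil) (nat_lit 1579)
  (nat_lit 195) (nat_lit 611) (.node (.node .nil (nat_lit 1583) (nat_lit 161) (nat_lit 1888) .nil) (nat_lit
  1584) (nat_lit 227) (nat_lit 1816) .nil)) (nat_lit 1585) (nat_lit 129) (nat_lit 1878) (.node (.node (.node
  .nil (nat_lit 1587) (nat_lit 227) (nat_lit 512) .nil) (nat_lit 1588) (nat_lit 160) (nat_lit 1341) .nil)
  (nat_lit 1590) (nat_lit 262) (nat_lit 1903) (.node .nil (nat_lit 1591) (nat_lit 225) (nat_lit 1344) .nil)))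
  (nat_lit 1596) (nat_lit 229) (nat_lit 1344) (.node (.node (.node (.node .nil (nat_lit 1597) (nat_lit 164)
  (nat_lit 1910) .nil) (nat_lit 1599) (nat_lit 230) (nat_lit 1918) .nil) (nat_lit 1600) (nat_lit 161) (nat_lit
  1912) (.node .nil (nat_lit 1602) (nat_lit 227) (nat_lit 1322) .nil)) (nat_lit 1603) (nat_lit 224) (nat_lit
  1918) (.node (.node (.node .nil (nat_lit 1608) (nat_lit 226) (nat_lit 1917) .nil) (nat_lit 1609) (nat_lit
  225) (nat_lit 1371) .nil) (nat_lit 1612) (nat_lit 230) (nat_lit 1355) (.node .nil (nat_lit 1614) (nat_lit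
  165) (nat_lit 1938) .nil)))))) (nat_lit 1615) (nat_lit 198) (nat_lit 1943) (.node (.node (.node (.node
  (.node (.node (.node .nil (nat_lit 1616) (nat_lit 131) (nat_lit 2644) .nil) (nat_lit 1621) (nat_lit 193)
  (nat_lit 1942) .nil) (nat_lit 1622) (nat_lit 195) (nat_lit 2593) (.node (.node .nil (nat_lit 1623) (nat_lit
  163) (nat_lit 1338) .nil) (nat_lit 1624) (nat_lit 163) (nat_lit 2509) .nil)) (nat_lit 1633) (nat_lit 194)
  (nat_lit 1952) (.node (.node (.node .nil (nat_lit 1634) (nat_lit 194) (nat_lit 1953) .nil) (nat_lit 1635)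
  (nat_lit 162) (nat_lit 1955) .nil) (nat_lit 1646) (nat_lit 200) (nat_lit 1365) (.node .nil (nat_lit 1653)
  (nat_lit 166) (nat_lit 1988) .nil))) (nat_lit 1654) (nat_lit 165) (nat_lit 1853) (.node (.node (.node (.node
  .nil (nat_lit 1657) (nat_lit 165) (nat_lit 1856) .nil) (nat_lit 1666) (nat_lit 130) (nat_lit 1412) .nil)
  (nat_lit 1690) (nat_lit 136) (nat_lit 715) (.node (.node .nil (nat_lit 1706) (nat_lit 144) (nat_lit 1442)
  .nil) (nat_lit 1707) (nat_lit 212) (nat_lit 1562) .nil)) (nat_lit 1708) (nat_lit 180) (nat_lit 1566) (.node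
  (.node (.node .nil (nat_lit 1710) (nat_lit 213) (nat_lit 1444) .nil) (nat_lit 1748) (nat_lit 118) (nat_lit
  1475) .nil) (nat_lit 1749) (nat_lit 246) (nat_lit 1476) (.node .nil (nat_lit 1750) (nat_lit 246) (nat_lit
  1477) .nil)))) (nat_lit 1751) (nat_lit 245) (nat_lit 1473) (.node (.node (.node (.node (.node .nil (nat_lit
  1752) (nat_lit 113) (nat_lit 1475) .nil) (nat_lit 1753) (nat_lit 242) (nat_lit 1477) .nil) (nat_lit 1755)
  (nat_lit 245) (nat_lit 1476) (.node (.node .nil (nat_lit 1757) (nat_lit 245) (nat_lit 1477) .nil) (nat_lit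
  1761) (nat_lit 276) (nat_lit 1479) .nil)) (nat_lit 1770) (nat_lit 216) (nat_lit 2183) (.node (.node (.node
  .nil (nat_lit 1805) (nat_lit 184) (nat_lit 2345) .nil) (nat_lit 1809) (nat_lit 150) (nat_lit 2045) .nil)
  (nat_lit 1810) (nat_lit 214) (nat_lit 2046) (.node .nil (nat_lit 1811) (nat_lit 246) (nat_lit 2048) .nil)))
  (nat_lit 1813) (nat_lit 214) (nat_lit 2050) (.node (.node (.node (.node .nil (nat_lit 1814) (nat_lit 213)
  (nat_lit 1532) .nil) (nat_lit 1815) (nat_lit 214) (nat_lit 2185) .nil) (nat_lit 1816) (nat_lit 216) (nat_lit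
  1167) (.node (.node .nil (nat_lit 1817) (nat_lit 184) (nat_lit 1635) .nil) (nat_lit 1831) (nat_lit 216)
  (nat_lit 1621) .nil)) (nat_lit 1832) (nat_lit 181) (nat_lit 1566) (.node (.node (.node .nil (nat_lit 1833)
  (nat_lit 184) (nat_lit 1624) .nil) (nat_lit 1839) (nat_lit 179) (nat_lit 1517) .nil) (nat_lit 1841) (nat_lit
  248) (nat_lit 2314) (.node .nil (nat_lit 1842) (nat_lit 180) (nat_lit 1657) .nil))))) (nat_lit 1843)
  (nat_lit 147) (nat_lit 1471) (.node (.node (.node (.node (.node (.node .nil (nat_lit 1845) (nat_lit 243)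
  (nat_lit 1518) .nil) (nat_lit 1846) (nat_lit 180) (nat_lit 1654) .nil) (nat_lit 1847) (nat_lit 245) (nat_lit
  1549) (.node (.node .nil (nat_lit 1848) (nat_lit 248) (nat_lit 1602) .nil) (nat_lit 1849) (nat_lit 182)
  (nat_lit 2220) .nil)) (nat_lit 1851) (nat_lit 150) (nat_lit 2223) (.node (.node (.node .nil (nat_lit 1852)
  (nat_lit 146) (nat_lit 1556) .nil) (nat_lit 1853) (nat_lit 147) (nat_lit 1690) .nil) (nat_lit 1856) (nat_lit
  146) (nat_lit 2223) (.node .nil (nat_lit 1858) (nat_lit 181) (nat_lit 2230) .nil))) (nat_lit 1859) (nat_lit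
  182) (nat_lit 2234) (.node (.node (.node (.node .nil (nat_lit 1860) (nat_lit 149) (nat_lit 1616) .nil)
  (nat_lit 1864) (nat_lit 177) (nat_lit 2234) .nil) (nat_lit 1876) (nat_lit 150) (nat_lit 1666) (.node (.node
  .nil (nat_lit 1877) (nat_lit 216) (nat_lit 1165) .nil) (nat_lit 1878) (nat_lit 114) (nat_lit 1576) .nil))
  (nat_lit 1879) (nat_lit 184) (nat_lit 1162) (.node (.node (.node .nil (nat_lit 1881) (nat_lit 213) (nat_lit
  1575) .nil) (nat_lit 1882) (nat_lit 211) (nat_lit 535) .nil) (nat_lit 1887) (nat_lit 213) (nat_lit 1579)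
  (.node .nil (nat_lit 1888) (nat_lit 148) (nat_lit 2267) .nil)))) (nat_lit 1890) (nat_lit 246) (nat_lit 2275)
  (.node (.node (.node (.node (.node .nil (nat_lit 1891) (nat_lit 145) (nat_lit 2269) .nil) (nat_lit 1893)
  (nat_lit 245) (nat_lit 1584) .nil) (nat_lit 1894) (nat_lit 241) (nat_lit 2254) (.node (.node .nil (nat_lit
  1899) (nat_lit 245) (nat_lit 1587) .nil) (nat_lit 1900) (nat_lit 244) (nat_lit 1609) .nil)) (nat_lit 1903)
  (nat_lit 245) (nat_lit 1591) (.node (.node (.node .nil (nat_lit 1910) (nat_lit 149) (nat_lit 2299) .nil)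
  (nat_lit 1911) (nat_lit 214) (nat_lit 2304) .nil) (nat_lit 1912) (nat_lit 146) (nat_lit 1616) (.node .nil
  (nat_lit 1917) (nat_lit 211) (nat_lit 1560) .nil))) (nat_lit 1918) (nat_lit 209) (nat_lit 2304) (.node
  (.node (.node (.node .nil (nat_lit 1921) (nat_lit 245) (nat_lit 1603) .nil) (nat_lit 1931) (nat_lit 209)
  (nat_lit 1634) .nil) (nat_lit 1938) (nat_lit 152) (nat_lit 793) (.node .nil (nat_lit 1939) (nat_lit 182)
  (nat_lit 2340) .nil)) (nat_lit 1940) (nat_lit 149) (nat_lit 2337) (.node (.node (.node .nil (nat_lit 1942)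
  (nat_lit 180) (nat_lit 2345) .nil) (nat_lit 1943) (nat_lit 179) (nat_lit 2230) .nil) (nat_lit 1952) (nat_lit
  177) (nat_lit 2208) (.node .nil (nat_lit 1953) (nat_lit 179) (nat_lit 2176) .nil)))))))
def t1_3 : T := (.node (.node (.node (.node (.node (.node (.node (.node .nil (nat_lit 1955) (nat_lit 147)
  (nat_lit 2102) .nil) (nat_lit 1966) (nat_lit 178) (nat_lit 2205) .nil) (nat_lit 1978) (nat_lit 216) (nat_lit
  1168) (.node (.node .nil (nat_lit 1983) (nat_lit 213) (nat_lit 1646) .nil) (nat_lit 1987) (nat_lit 182)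
  (nat_lit 2345) .nil)) (nat_lit 1988) (nat_lit 149) (nat_lit 2223) (.node (.node (.node .nil (nat_lit 1989)
  (nat_lit 149) (nat_lit 1690) .nil) (nat_lit 1993) (nat_lit 148) (nat_lit 2386) .nil) (nat_lit 2020) (nat_lit
  120) (nat_lit 729) (.node .nil (nat_lit 2029) (nat_lit 147) (nat_lit 1553) .nil))) (nat_lit 2030) (nat_lit
  120) (nat_lit 705) (.node (.node (.node (.node .nil (nat_lit 2045) (nat_lit 128) (nat_lit 1752) .nil)
  (nat_lit 2046) (nat_lit 196) (nat_lit 1864) .nil) (nat_lit 2048) (nat_lit 229) (nat_lit 1707) (.node (.node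
  .nil (nat_lit 2050) (nat_lit 197) (nat_lit 1708) .nil) (nat_lit 2053) (nat_lit 197) (nat_lit 1833) .nil))
  (nat_lit 2061) (nat_lit 200) (nat_lit 1987) (.node (.node (.node .nil (nat_lit 2097) (nat_lit 200) (nat_lit
  2601) .nil) (nat_lit 2102) (nat_lit 134) (nat_lit 1752) .nil) (nat_lit 2103) (nat_lit 227) (nat_lit 2605)
  (.node .nil (nat_lit 2104) (nat_lit 259) (nat_lit 2623) .nil)))) (nat_lit 2106) (nat_lit 262) (nat_lit 1757)
  (.node (.node (.node (.node (.node .nil (nat_lit 2107) (nat_lit 264) (nat_lit 1757) .nil) (nat_lit 2108)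
  (nat_lit 132) (nat_lit 1752) .nil) (nat_lit 2109) (nat_lit 228) (nat_lit 2517) (.node (.node .nil (nat_lit
  2111) (nat_lit 261) (nat_lit 1753) .nil) (nat_lit 2115) (nat_lit 260) (nat_lit 1755) .nil)) (nat_lit 2119)
  (nat_lit 260) (nat_lit 1757) (.node (.node (.node .nil (nat_lit 2128) (nat_lit 232) (nat_lit 2600) .nil)
  (nat_lit 2133) (nat_lit 200) (nat_lit 1942) .nil) (nat_lit 2176) (nat_lit 166) (nat_lit 2444) (.node .nil
  (nat_lit 2177) (nat_lit 228) (nat_lit 2594) .nil))) (nat_lit 2179) (nat_lit 230) (nat_lit 2447) (.node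
  (.node (.node (.node .nil (nat_lit 2180) (nat_lit 229) (nat_lit 1816) .nil) (nat_lit 2182) (nat_lit 229)
  (nat_lit 1831) .nil) (nat_lit 2183) (nat_lit 198) (nat_lit 2601) (.node (.node .nil (nat_lit 2184) (nat_lit
  230) (nat_lit 2603) .nil) (nat_lit 2185) (nat_lit 197) (nat_lit 1864) .nil)) (nat_lit 2186) (nat_lit 232)
  (nat_lit 1012) (.node (.node (.node .nil (nat_lit 2187) (nat_lit 200) (nat_lit 1373) .nil) (nat_lit 2203)
  (nat_lit 196) (nat_lit 1832) .nil) (nat_lit 2205) (nat_lit 163) (nat_lit 1809) (.node .nil (nat_lit 2207)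
  (nat_lit 227) (nat_lit 1810) .nil))))) (nat_lit 2208) (nat_lit 164) (nat_lit 1988) (.node (.node (.node
  (.node (.node (.node .nil (nat_lit 2209) (nat_lit 264) (nat_lit 1903) .nil) (nat_lit 2210) (nat_lit 232)
  (nat_lit 1917) .nil) (nat_lit 2211) (nat_lit 131) (nat_lit 1748) (.node (.node .nil (nat_lit 2212) (nat_lit
  230) (nat_lit 2604) .nil) (nat_lit 2213) (nat_lit 163) (nat_lit 1876) .nil)) (nat_lit 2214) (nat_lit 264)
  (nat_lit 2693) (.node (.node (.node .nil (nat_lit 2215) (nat_lit 227) (nat_lit 2662) .nil) (nat_lit 2216)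
  (nat_lit 260) (nat_lit 1903) .nil) (nat_lit 2218) (nat_lit 166) (nat_lit 2631) (.node .nil (nat_lit 2219)
  (nat_lit 166) (nat_lit 2632) .nil))) (nat_lit 2220) (nat_lit 163) (nat_lit 2645) (.node (.node (.node (.node
  .nil (nat_lit 2223) (nat_lit 131) (nat_lit 2020) .nil) (nat_lit 2230) (nat_lit 168) (nat_lit 753) .nil)
  (nat_lit 2231) (nat_lit 197) (nat_lit 2647) (.node (.node .nil (nat_lit 2232) (nat_lit 165) (nat_lit 2645)
  .nil) (nat_lit 2234) (nat_lit 162) (nat_lit 2632) .nil)) (nat_lit 2250) (nat_lit 164) (nat_lit 1989) (.node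
  (.node (.node .nil (nat_lit 2251) (nat_lit 200) (nat_lit 1010) .nil) (nat_lit 2253) (nat_lit 229) (nat_lit
  1877) .nil) (nat_lit 2254) (nat_lit 226) (nat_lit 1882) (.node .nil (nat_lit 2255) (nat_lit 197) (nat_lit
  1879) .nil)))) (nat_lit 2260) (nat_lit 232) (nat_lit 1813) (.node (.node (.node (.node (.node .nil (nat_lit
  2261) (nat_lit 229) (nat_lit 1882) .nil) (nat_lit 2267) (nat_lit 133) (nat_lit 2020) .nil) (nat_lit 2268)
  (nat_lit 230) (nat_lit 2685) (.node (.node .nil (nat_lit 2269) (nat_lit 132) (nat_lit 2682) .nil) (nat_lit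
  2274) (nat_lit 262) (nat_lit 2693) .nil)) (nat_lit 2275) (nat_lit 228) (nat_lit 1918) (.node (.node (.node
  .nil (nat_lit 2278) (nat_lit 261) (nat_lit 1894) .nil) (nat_lit 2286) (nat_lit 261) (nat_lit 1900) .nil)
  (nat_lit 2299) (nat_lit 136) (nat_lit 754) (.node .nil (nat_lit 2300) (nat_lit 198) (nat_lit 2647) .nil)))
  (nat_lit 2301) (nat_lit 133) (nat_lit 2644) (.node (.node (.node (.node .nil (nat_lit 2303) (nat_lit 196)
  (nat_lit 2601) .nil) (nat_lit 2304) (nat_lit 194) (nat_lit 1943) .nil) (nat_lit 2314) (nat_lit 229) (nat_lit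
  1918) (.node .nil (nat_lit 2336) (nat_lit 136) (nat_lit 752) .nil)) (nat_lit 2337) (nat_lit 136) (nat_lit
  750) (.node (.node (.node .nil (nat_lit 2339) (nat_lit 163) (nat_lit 2629) .nil) (nat_lit 2340) (nat_lit
  163) (nat_lit 1938) .nil) (nat_lit 2345) (nat_lit 165) (nat_lit 2632) (.node .nil (nat_lit 2346) (nat_lit
  197) (nat_lit 1943) .nil)))))) (nat_lit 2371) (nat_lit 228) (nat_lit 2771) (.node (.node (.node (.node
  (.node (.node (.node .nil (nat_lit 2378) (nat_lit 229) (nat_lit 1978) .nil) (nat_lit 2383) (nat_lit 232)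
  (nat_lit 1710) .nil) (nat_lit 2385) (nat_lit 230) (nat_lit 2771) (.node (.node .nil (nat_lit 2386) (nat_lit
  133) (nat_lit 2030) .nil) (nat_lit 2423) (nat_lit 168) (nat_lit 756) .nil)) (nat_lit 2424) (nat_lit 104)
  (nat_lit 712) (.node (.node (.node .nil (nat_lit 2433) (nat_lit 166) (nat_lit 2029) .nil) (nat_lit 2444)
  (nat_lit 148) (nat_lit 2045) .nil) (nat_lit 2445) (nat_lit 212) (nat_lit 2835) (.node .nil (nat_lit 2447)
  (nat_lit 213) (nat_lit 2046) .nil))) (nat_lit 2450) (nat_lit 213) (nat_lit 2187) (.node (.node (.node (.node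
  .nil (nat_lit 2454) (nat_lit 212) (nat_lit 2050) .nil) (nat_lit 2462) (nat_lit 216) (nat_lit 2346) .nil)
  (nat_lit 2466) (nat_lit 216) (nat_lit 2303) (.node (.node .nil (nat_lit 2509) (nat_lit 150) (nat_lit 2108)
  .nil) (nat_lit 2510) (nat_lit 211) (nat_lit 2187) .nil)) (nat_lit 2512) (nat_lit 245) (nat_lit 2103) (.node
  (.node (.node .nil (nat_lit 2513) (nat_lit 280) (nat_lit 2111) .nil) (nat_lit 2516) (nat_lit 280) (nat_lit
  1479) .nil) (nat_lit 2517) (nat_lit 208) (nat_lit 2835) (.node .nil (nat_lit 2519) (nat_lit 245) (nat_lit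
  2109) .nil)))) (nat_lit 2523) (nat_lit 243) (nat_lit 3023) (.node (.node (.node (.node (.node .nil (nat_lit
  2528) (nat_lit 244) (nat_lit 2844) .nil) (nat_lit 2533) (nat_lit 248) (nat_lit 1474) .nil) (nat_lit 2543)
  (nat_lit 248) (nat_lit 1596) (.node (.node .nil (nat_lit 2544) (nat_lit 213) (nat_lit 2133) .nil) (nat_lit
  2593) (nat_lit 184) (nat_lit 728) .nil)) (nat_lit 2594) (nat_lit 213) (nat_lit 2986) (.node (.node (.node
  .nil (nat_lit 2596) (nat_lit 244) (nat_lit 2989) .nil) (nat_lit 2598) (nat_lit 246) (nat_lit 2841) .nil)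
  (nat_lit 2599) (nat_lit 245) (nat_lit 2186) (.node .nil (nat_lit 2600) (nat_lit 213) (nat_lit 2304) .nil)))
  (nat_lit 2601) (nat_lit 181) (nat_lit 2234) (.node (.node (.node (.node .nil (nat_lit 2602) (nat_lit 244)
  (nat_lit 2314) .nil) (nat_lit 2603) (nat_lit 212) (nat_lit 2185) .nil) (nat_lit 2604) (nat_lit 211) (nat_lit
  2251) (.node .nil (nat_lit 2605) (nat_lit 216) (nat_lit 1169) .nil)) (nat_lit 2621) (nat_lit 241) (nat_lit
  2841) (.node (.node (.node .nil (nat_lit 2622) (nat_lit 245) (nat_lit 2210) .nil) (nat_lit 2623) (nat_lit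
  248) (nat_lit 2989) .nil) (nat_lit 2624) (nat_lit 245) (nat_lit 2215) (.node .nil (nat_lit 2629) (nat_lit
  152) (nat_lit 792) .nil))))) (nat_lit 2630) (nat_lit 181) (nat_lit 2340) (.node (.node (.node (.node (.node
  (.node .nil (nat_lit 2631) (nat_lit 147) (nat_lit 2337) .nil) (nat_lit 2632) (nat_lit 147) (nat_lit 2299)
  .nil) (nat_lit 2644) (nat_lit 120) (nat_lit 726) (.node (.node .nil (nat_lit 2645) (nat_lit 152) (nat_lit
  791) .nil) (nat_lit 2647) (nat_lit 178) (nat_lit 2340) .nil)) (nat_lit 2648) (nat_lit 178) (nat_lit 2339)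
  (.node (.node (.node .nil (nat_lit 2662) (nat_lit 216) (nat_lit 901) .nil) (nat_lit 2663) (nat_lit 213)
  (nat_lit 2251) .nil) (nat_lit 2666) (nat_lit 248) (nat_lit 2179) (.node .nil (nat_lit 2667) (nat_lit 245)
  (nat_lit 2254) .nil))) (nat_lit 2668) (nat_lit 212) (nat_lit 2255) (.node (.node (.node (.node .nil (nat_lit
  2675) (nat_lit 216) (nat_lit 2050) .nil) (nat_lit 2681) (nat_lit 214) (nat_lit 2986) .nil) (nat_lit 2682)
  (nat_lit 117) (nat_lit 2424) (.node (.node .nil (nat_lit 2684) (nat_lit 246) (nat_lit 2989) .nil) (nat_lit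
  2685) (nat_lit 212) (nat_lit 2986) .nil)) (nat_lit 2693) (nat_lit 245) (nat_lit 2275) (.node (.node (.node
  .nil (nat_lit 2702) (nat_lit 248) (nat_lit 1446) .nil) (nat_lit 2771) (nat_lit 208) (nat_lit 2986) .nil)
  (nat_lit 2774) (nat_lit 245) (nat_lit 2371) (.node .nil (nat_lit 2781) (nat_lit 248) (nat_lit 2048) .nil))))
  (nat_lit 2835) (nat_lit 193) (nat_lit 2648) (.node (.node (.node (.node (.node .nil (nat_lit 2837) (nat_lit
  229) (nat_lit 2445) .nil) (nat_lit 2841) (nat_lit 228) (nat_lit 2447) .nil) (nat_lit 2844) (nat_lit 229)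
  (nat_lit 2605) (.node (.node .nil (nat_lit 2849) (nat_lit 232) (nat_lit 1887) .nil) (nat_lit 2857) (nat_lit
  229) (nat_lit 2466) .nil)) (nat_lit 2904) (nat_lit 195) (nat_lit 1817) (.node (.node (.node .nil (nat_lit
  2906) (nat_lit 229) (nat_lit 2510) .nil) (nat_lit 2909) (nat_lit 264) (nat_lit 1755) .nil) (nat_lit 2910)
  (nat_lit 264) (nat_lit 2519) (.node .nil (nat_lit 2913) (nat_lit 264) (nat_lit 1262) .nil))) (nat_lit 2918)
  (nat_lit 229) (nat_lit 2662) (.node (.node (.node (.node .nil (nat_lit 2924) (nat_lit 228) (nat_lit 2663)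
  .nil) (nat_lit 2929) (nat_lit 264) (nat_lit 2596) .nil) (nat_lit 2932) (nat_lit 232) (nat_lit 1290) (.node
  .nil (nat_lit 2986) (nat_lit 193) (nat_lit 2647) .nil)) (nat_lit 2989) (nat_lit 229) (nat_lit 2685) (.node
  (.node (.node .nil (nat_lit 2990) (nat_lit 260) (nat_lit 2693) .nil) (nat_lit 2991) (nat_lit 229) (nat_lit
  2604) .nil) (nat_lit 3023) (nat_lit 232) (nat_lit 2447) (.node .nil (nat_lit 3182) (nat_lit 248) (nat_lit
  2837) .nil)))))))
def t1 : T := (.node (.node t1_0 (nat_lit 664) (nat_lit 131) (nat_lit 999) t1_1) (nat_lit 1335) (nat_lit 115)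
  (nat_lit 534) (.node t1_2 (nat_lit 1954) (nat_lit 147) (nat_lit 1573) t1_3))
def l1 : Lvl := ⟨nat_lit 10, [nat_lit 1, nat_lit 2, nat_lit 3, nat_lit 4, nat_lit 5, nat_lit 6, nat_lit 7, nat_lit 8, nat_lit 9], [], t1⟩
def t2_0 : T := (.node (.node (.node (.node (.node (.node (.node (.node .nil (nat_lit 1) (nat_lit 16) (nat_lit
  2) .nil) (nat_lit 2) (nat_lit 0) (nat_lit 2) .nil) (nat_lit 3) (nat_lit 197) (nat_lit 6) (.node .nil
  (nat_lit 4) (nat_lit 161) (nat_lit 9) .nil)) (nat_lit 5) (nat_lit 181) (nat_lit 4) (.node (.node .nil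
  (nat_lit 6) (nat_lit 177) (nat_lit 14) .nil) (nat_lit 8) (nat_lit 21) (nat_lit 2) (.node .nil (nat_lit 9)
  (nat_lit 146) (nat_lit 394) .nil))) (nat_lit 12) (nat_lit 37) (nat_lit 1) (.node (.node (.node .nil (nat_lit
  14) (nat_lit 162) (nat_lit 331) .nil) (nat_lit 19) (nat_lit 33) (nat_lit 8) (.node .nil (nat_lit 20)
  (nat_lit 100) (nat_lit 714) .nil)) (nat_lit 25) (nat_lit 49) (nat_lit 12) (.node (.node .nil (nat_lit 27)
  (nat_lit 112) (nat_lit 20) .nil) (nat_lit 35) (nat_lit 180) (nat_lit 728) (.node .nil (nat_lit 45) (nat_lit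
  162) (nat_lit 462) .nil)))) (nat_lit 52) (nat_lit 196) (nat_lit 736) (.node (.node (.node (.node .nil
  (nat_lit 71) (nat_lit 177) (nat_lit 116) .nil) (nat_lit 85) (nat_lit 84) (nat_lit 767) (.node .nil (nat_lit
  87) (nat_lit 84) (nat_lit 770) .nil)) (nat_lit 88) (nat_lit 180) (nat_lit 771) (.node (.node .nil (nat_lit
  113) (nat_lit 96) (nat_lit 85) .nil) (nat_lit 115) (nat_lit 101) (nat_lit 85) (.node .nil (nat_lit 116)
  (nat_lit 162) (nat_lit 350) .nil))) (nat_lit 136) (nat_lit 193) (nat_lit 201) (.node (.node (.node .nil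
  (nat_lit 137) (nat_lit 100) (nat_lit 817) .nil) (nat_lit 140) (nat_lit 100) (nat_lit 822) (.node .nil
  (nat_lit 141) (nat_lit 132) (nat_lit 824) .nil)) (nat_lit 142) (nat_lit 165) (nat_lit 362) (.node (.node
  .nil (nat_lit 172) (nat_lit 209) (nat_lit 243) .nil) (nat_lit 173) (nat_lit 112) (nat_lit 137) (.node .nil
  (nat_lit 175) (nat_lit 113) (nat_lit 115) .nil))))) (nat_lit 176) (nat_lit 146) (nat_lit 281) (.node (.node
  (.node (.node (.node .nil (nat_lit 177) (nat_lit 149) (nat_lit 281) .nil) (nat_lit 201) (nat_lit 181)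
  (nat_lit 425) (.node .nil (nat_lit 202) (nat_lit 148) (nat_lit 889) .nil)) (nat_lit 203) (nat_lit 181)
  (nat_lit 444) (.node (.node .nil (nat_lit 206) (nat_lit 178) (nat_lit 432) .nil) (nat_lit 207) (nat_lit 181)
  (nat_lit 432) (.node .nil (nat_lit 208) (nat_lit 116) (nat_lit 900) .nil))) (nat_lit 209) (nat_lit 177)
  (nat_lit 293) (.node (.node (.node .nil (nat_lit 243) (nat_lit 197) (nat_lit 371) .nil) (nat_lit 244)
  (nat_lit 161) (nat_lit 176) (.node .nil (nat_lit 245) (nat_lit 165) (nat_lit 370) .nil)) (nat_lit 247)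
  (nat_lit 162) (nat_lit 363) (.node (.node .nil (nat_lit 248) (nat_lit 165) (nat_lit 363) .nil) (nat_lit 249)
  (nat_lit 165) (nat_lit 366) (.node .nil (nat_lit 250) (nat_lit 161) (nat_lit 325) .nil)))) (nat_lit 279)
  (nat_lit 196) (nat_lit 988) (.node (.node (.node (.node .nil (nat_lit 280) (nat_lit 130) (nat_lit 173) .nil)
  (nat_lit 281) (nat_lit 132) (nat_lit 991) (.node .nil (nat_lit 282) (nat_lit 161) (nat_lit 357) .nil))
  (nat_lit 287) (nat_lit 133) (nat_lit 313) (.node (.node .nil (nat_lit 288) (nat_lit 133) (nat_lit 493) .nil)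
  (nat_lit 290) (nat_lit 128) (nat_lit 208) (.node .nil (nat_lit 291) (nat_lit 132) (nat_lit 1009) .nil)))
  (nat_lit 292) (nat_lit 161) (nat_lit 369) (.node (.node (.node .nil (nat_lit 293) (nat_lit 162) (nat_lit
  377) .nil) (nat_lit 303) (nat_lit 130) (nat_lit 208) (.node .nil (nat_lit 313) (nat_lit 114) (nat_lit 137)
  .nil)) (nat_lit 322) (nat_lit 177) (nat_lit 247) (.node (.node .nil (nat_lit 323) (nat_lit 146) (nat_lit
  290) .nil) (nat_lit 324) (nat_lit 177) (nat_lit 390) (.node .nil (nat_lit 325) (nat_lit 146) (nat_lit 431)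
  .nil)))))) (nat_lit 326) (nat_lit 146) (nat_lit 435) (.node (.node (.node (.node (.node (.node .nil (nat_lit
  328) (nat_lit 145) (nat_lit 303) .nil) (nat_lit 331) (nat_lit 144) (nat_lit 394) (.node .nil (nat_lit 350)
  (nat_lit 148) (nat_lit 1109) .nil)) (nat_lit 357) (nat_lit 146) (nat_lit 291) (.node (.node .nil (nat_lit
  361) (nat_lit 145) (nat_lit 287) .nil) (nat_lit 362) (nat_lit 144) (nat_lit 281) (.node .nil (nat_lit 363)
  (nat_lit 148) (nat_lit 1136) .nil))) (nat_lit 364) (nat_lit 180) (nat_lit 1137) (.node (.node (.node .nil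
  (nat_lit 366) (nat_lit 148) (nat_lit 1147) .nil) (nat_lit 369) (nat_lit 149) (nat_lit 280) (.node .nil
  (nat_lit 370) (nat_lit 148) (nat_lit 1153) .nil)) (nat_lit 371) (nat_lit 176) (nat_lit 425) (.node (.node
  .nil (nat_lit 373) (nat_lit 145) (nat_lit 288) .nil) (nat_lit 375) (nat_lit 144) (nat_lit 291) (.node .nil
  (nat_lit 377) (nat_lit 144) (nat_lit 431) .nil)))) (nat_lit 390) (nat_lit 162) (nat_lit 375) (.node (.node
  (.node (.node .nil (nat_lit 393) (nat_lit 162) (nat_lit 361) .nil) (nat_lit 394) (nat_lit 132) (nat_lit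
  1412) (.node .nil (nat_lit 395) (nat_lit 66) (nat_lit 25) .nil)) (nat_lit 396) (nat_lit 130) (nat_lit 27)
  (.node (.node .nil (nat_lit 419) (nat_lit 164) (nat_lit 1313) .nil) (nat_lit 420) (nat_lit 130) (nat_lit
  175) (.node .nil (nat_lit 421) (nat_lit 165) (nat_lit 176) .nil))) (nat_lit 425) (nat_lit 164) (nat_lit
  1295) (.node (.node (.node .nil (nat_lit 431) (nat_lit 132) (nat_lit 1316) .nil) (nat_lit 432) (nat_lit 160)
  (nat_lit 363) (.node .nil (nat_lit 433) (nat_lit 192) (nat_lit 364) .nil)) (nat_lit 435) (nat_lit 129)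
  (nat_lit 500) (.node (.node .nil (nat_lit 437) (nat_lit 164) (nat_lit 1372) .nil) (nat_lit 438) (nat_lit
  164) (nat_lit 1339) (.node .nil (nat_lit 439) (nat_lit 196) (nat_lit 1340) .nil))))) (nat_lit 444) (nat_lit
  160) (nat_lit 370) (.node (.node (.node (.node (.node .nil (nat_lit 446) (nat_lit 133) (nat_lit 173) .nil)
  (nat_lit 460) (nat_lit 50) (nat_lit 19) (.node .nil (nat_lit 461) (nat_lit 114) (nat_lit 20) .nil)) (nat_lit
  462) (nat_lit 148) (nat_lit 1477) (.node (.node .nil (nat_lit 464) (nat_lit 145) (nat_lit 396) .nil)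
  (nat_lit 493) (nat_lit 114) (nat_lit 140) (.node .nil (nat_lit 494) (nat_lit 148) (nat_lit 1549) .nil)))
  (nat_lit 495) (nat_lit 181) (nat_lit 247) (.node (.node (.node .nil (nat_lit 496) (nat_lit 177) (nat_lit
  421) .nil) (nat_lit 500) (nat_lit 117) (nat_lit 137) (.node .nil (nat_lit 501) (nat_lit 180) (nat_lit 1532)
  .nil)) (nat_lit 506) (nat_lit 117) (nat_lit 140) (.node (.node .nil (nat_lit 510) (nat_lit 180) (nat_lit
  1633) .nil) (nat_lit 512) (nat_lit 178) (nat_lit 437) (.node .nil (nat_lit 513) (nat_lit 212) (nat_lit 1590)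
  .nil)))) (nat_lit 535) (nat_lit 160) (nat_lit 462) (.node (.node (.node (.node .nil (nat_lit 536) (nat_lit
  129) (nat_lit 461) .nil) (nat_lit 538) (nat_lit 164) (nat_lit 1757) (.node .nil (nat_lit 541) (nat_lit 196)
  (nat_lit 1761) .nil)) (nat_lit 578) (nat_lit 197) (nat_lit 206) (.node (.node .nil (nat_lit 579) (nat_lit
  164) (nat_lit 1847) .nil) (nat_lit 581) (nat_lit 193) (nat_lit 495) (.node .nil (nat_lit 582) (nat_lit 196)
  (nat_lit 1814) .nil))) (nat_lit 587) (nat_lit 162) (nat_lit 366) (.node (.node (.node .nil (nat_lit 594)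
  (nat_lit 193) (nat_lit 512) .nil) (nat_lit 613) (nat_lit 176) (nat_lit 538) (.node .nil (nat_lit 614)
  (nat_lit 181) (nat_lit 538) .nil)) (nat_lit 618) (nat_lit 149) (nat_lit 536) (.node (.node .nil (nat_lit
  651) (nat_lit 209) (nat_lit 578) .nil) (nat_lit 653) (nat_lit 177) (nat_lit 587) (.node .nil (nat_lit 667)
  (nat_lit 165) (nat_lit 464) .nil)))))))
def t2_1 : T := (.node (.node (.node (.node (.node (.node (.node .nil (nat_lit 699) (nat_lit 212) (nat_lit 3)
  .nil) (nat_lit 700) (nat_lit 145) (nat_lit 705) (.node .nil (nat_lit 701) (nat_lit 51) (nat_lit 697) .nil))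
  (nat_lit 703) (nat_lit 36) (nat_lit 8) (.node (.node .nil (nat_lit 704) (nat_lit 226) (nat_lit 816) .nil)
  (nat_lit 705) (nat_lit 130) (nat_lit 2030) (.node .nil (nat_lit 706) (nat_lit 163) (nat_lit 700) .nil)))
  (nat_lit 712) (nat_lit 52) (nat_lit 19) (.node (.node (.node .nil (nat_lit 713) (nat_lit 51) (nat_lit 703)
  .nil) (nat_lit 714) (nat_lit 85) (nat_lit 729) (.node .nil (nat_lit 715) (nat_lit 147) (nat_lit 705) .nil))
  (nat_lit 728) (nat_lit 163) (nat_lit 756) (.node (.node .nil (nat_lit 729) (nat_lit 67) (nat_lit 712) .nil)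
  (nat_lit 731) (nat_lit 69) (nat_lit 712) (.node .nil (nat_lit 736) (nat_lit 179) (nat_lit 772) .nil))))
  (nat_lit 756) (nat_lit 146) (nat_lit 2423) (.node (.node (.node (.node .nil (nat_lit 767) (nat_lit 67)
  (nat_lit 818) .nil) (nat_lit 770) (nat_lit 67) (nat_lit 823) (.node .nil (nat_lit 771) (nat_lit 163)
  (nat_lit 826) .nil)) (nat_lit 772) (nat_lit 161) (nat_lit 826) (.node (.node .nil (nat_lit 816) (nat_lit
  209) (nat_lit 887) .nil) (nat_lit 817) (nat_lit 83) (nat_lit 891) (.node .nil (nat_lit 818) (nat_lit 50)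
  (nat_lit 697) .nil))) (nat_lit 822) (nat_lit 83) (nat_lit 899) (.node (.node (.node .nil (nat_lit 823)
  (nat_lit 50) (nat_lit 703) .nil) (nat_lit 824) (nat_lit 117) (nat_lit 2267) (.node .nil (nat_lit 825)
  (nat_lit 180) (nat_lit 142) .nil)) (nat_lit 826) (nat_lit 146) (nat_lit 2386) (.node (.node .nil (nat_lit
  887) (nat_lit 197) (nat_lit 1809) .nil) (nat_lit 888) (nat_lit 193) (nat_lit 990) (.node .nil (nat_lit 889)
  (nat_lit 129) (nat_lit 824) .nil))))) (nat_lit 890) (nat_lit 196) (nat_lit 203) (.node (.node (.node (.node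
  (.node .nil (nat_lit 891) (nat_lit 65) (nat_lit 818) .nil) (nat_lit 897) (nat_lit 165) (nat_lit 1989) (.node
  .nil (nat_lit 898) (nat_lit 196) (nat_lit 207) .nil)) (nat_lit 899) (nat_lit 65) (nat_lit 823) (.node (.node
  .nil (nat_lit 900) (nat_lit 101) (nat_lit 1333) .nil) (nat_lit 901) (nat_lit 196) (nat_lit 209) (.node .nil
  (nat_lit 902) (nat_lit 101) (nat_lit 2682) .nil))) (nat_lit 903) (nat_lit 194) (nat_lit 2771) (.node (.node
  (.node .nil (nat_lit 988) (nat_lit 181) (nat_lit 2176) .nil) (nat_lit 989) (nat_lit 148) (nat_lit 280)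
  (.node .nil (nat_lit 990) (nat_lit 181) (nat_lit 2045) .nil)) (nat_lit 991) (nat_lit 113) (nat_lit 900)
  (.node (.node .nil (nat_lit 992) (nat_lit 145) (nat_lit 1117) .nil) (nat_lit 993) (nat_lit 113) (nat_lit
  902) (.node .nil (nat_lit 994) (nat_lit 213) (nat_lit 2109) .nil)))) (nat_lit 1003) (nat_lit 148) (nat_lit
  287) (.node (.node (.node (.node .nil (nat_lit 1004) (nat_lit 148) (nat_lit 288) .nil) (nat_lit 1005)
  (nat_lit 149) (nat_lit 2386) (.node .nil (nat_lit 1007) (nat_lit 210) (nat_lit 2986) .nil)) (nat_lit 1008)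
  (nat_lit 117) (nat_lit 1573) (.node (.node .nil (nat_lit 1009) (nat_lit 115) (nat_lit 1166) .nil) (nat_lit
  1010) (nat_lit 147) (nat_lit 1168) (.node .nil (nat_lit 1011) (nat_lit 85) (nat_lit 1576) .nil))) (nat_lit
  1012) (nat_lit 180) (nat_lit 293) (.node (.node (.node .nil (nat_lit 1013) (nat_lit 177) (nat_lit 1169)
  .nil) (nat_lit 1036) (nat_lit 146) (nat_lit 2213) (.node .nil (nat_lit 1089) (nat_lit 128) (nat_lit 1258)
  .nil)) (nat_lit 1109) (nat_lit 131) (nat_lit 1236) (.node (.node .nil (nat_lit 1117) (nat_lit 130) (nat_lit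
  1954) .nil) (nat_lit 1130) (nat_lit 131) (nat_lit 1318) (.node .nil (nat_lit 1131) (nat_lit 161) (nat_lit
  1036) .nil)))))) (nat_lit 1132) (nat_lit 165) (nat_lit 2444) (.node (.node (.node (.node (.node (.node .nil
  (nat_lit 1134) (nat_lit 163) (nat_lit 989) .nil) (nat_lit 1135) (nat_lit 129) (nat_lit 1008) (.node .nil
  (nat_lit 1136) (nat_lit 131) (nat_lit 1326) .nil)) (nat_lit 1137) (nat_lit 163) (nat_lit 1327) (.node (.node
  .nil (nat_lit 1138) (nat_lit 97) (nat_lit 1011) .nil) (nat_lit 1139) (nat_lit 161) (nat_lit 1304) (.node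
  .nil (nat_lit 1147) (nat_lit 131) (nat_lit 1341) .nil))) (nat_lit 1152) (nat_lit 131) (nat_lit 1350) (.node
  (.node (.node .nil (nat_lit 1153) (nat_lit 131) (nat_lit 1353) .nil) (nat_lit 1154) (nat_lit 192) (nat_lit
  1349) (.node .nil (nat_lit 1155) (nat_lit 128) (nat_lit 1350) .nil)) (nat_lit 1157) (nat_lit 165) (nat_lit
  1304) (.node (.node .nil (nat_lit 1158) (nat_lit 161) (nat_lit 1358) .nil) (nat_lit 1161) (nat_lit 99)
  (nat_lit 1363) (.node .nil (nat_lit 1162) (nat_lit 131) (nat_lit 1365) .nil)))) (nat_lit 1163) (nat_lit 101)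
  (nat_lit 1878) (.node (.node (.node (.node .nil (nat_lit 1165) (nat_lit 160) (nat_lit 1362) .nil) (nat_lit
  1166) (nat_lit 98) (nat_lit 1878) (.node .nil (nat_lit 1167) (nat_lit 164) (nat_lit 369) .nil)) (nat_lit
  1168) (nat_lit 128) (nat_lit 1365) (.node (.node .nil (nat_lit 1169) (nat_lit 162) (nat_lit 2605) .nil)
  (nat_lit 1190) (nat_lit 130) (nat_lit 1846) (.node .nil (nat_lit 1195) (nat_lit 163) (nat_lit 1036) .nil)))
  (nat_lit 1236) (nat_lit 112) (nat_lit 1442) (.node (.node (.node .nil (nat_lit 1255) (nat_lit 147) (nat_lit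
  1089) .nil) (nat_lit 1258) (nat_lit 116) (nat_lit 1666) (.node .nil (nat_lit 1259) (nat_lit 84) (nat_lit
  395) .nil)) (nat_lit 1260) (nat_lit 148) (nat_lit 396) (.node (.node .nil (nat_lit 1287) (nat_lit 115)
  (nat_lit 1442) .nil) (nat_lit 1288) (nat_lit 148) (nat_lit 420) (.node .nil (nat_lit 1289) (nat_lit 180)
  (nat_lit 421) .nil))))) (nat_lit 1295) (nat_lit 147) (nat_lit 1533) (.node (.node (.node (.node (.node .nil
  (nat_lit 1304) (nat_lit 146) (nat_lit 2211) .nil) (nat_lit 1313) (nat_lit 147) (nat_lit 1550) (.node .nil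
  (nat_lit 1315) (nat_lit 115) (nat_lit 1553) .nil)) (nat_lit 1316) (nat_lit 117) (nat_lit 1472) (.node (.node
  .nil (nat_lit 1317) (nat_lit 144) (nat_lit 1552) .nil) (nat_lit 1318) (nat_lit 112) (nat_lit 1553) (.node
  .nil (nat_lit 1319) (nat_lit 179) (nat_lit 1131) .nil))) (nat_lit 1321) (nat_lit 115) (nat_lit 1561) (.node
  (.node (.node .nil (nat_lit 1322) (nat_lit 179) (nat_lit 1562) .nil) (nat_lit 1323) (nat_lit 113) (nat_lit
  1163) (.node .nil (nat_lit 1325) (nat_lit 148) (nat_lit 435) .nil)) (nat_lit 1326) (nat_lit 113) (nat_lit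
  1166) (.node (.node .nil (nat_lit 1327) (nat_lit 145) (nat_lit 1533) .nil) (nat_lit 1333) (nat_lit 83)
  (nat_lit 1576) (.node .nil (nat_lit 1338) (nat_lit 115) (nat_lit 1585) .nil)))) (nat_lit 1339) (nat_lit 147)
  (nat_lit 1588) (.node (.node (.node (.node .nil (nat_lit 1340) (nat_lit 178) (nat_lit 1599) .nil) (nat_lit
  1341) (nat_lit 112) (nat_lit 1585) (.node .nil (nat_lit 1348) (nat_lit 147) (nat_lit 1600) .nil)) (nat_lit
  1349) (nat_lit 180) (nat_lit 1521) (.node (.node .nil (nat_lit 1350) (nat_lit 116) (nat_lit 2108) .nil)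
  (nat_lit 1352) (nat_lit 148) (nat_lit 446) (.node .nil (nat_lit 1353) (nat_lit 114) (nat_lit 1585) .nil)))
  (nat_lit 1355) (nat_lit 181) (nat_lit 2208) (.node (.node (.node .nil (nat_lit 1356) (nat_lit 177) (nat_lit
  1612) .nil) (nat_lit 1358) (nat_lit 149) (nat_lit 1117) (.node .nil (nat_lit 1362) (nat_lit 148) (nat_lit
  1551) .nil)) (nat_lit 1363) (nat_lit 82) (nat_lit 1576) (.node (.node .nil (nat_lit 1364) (nat_lit 147)
  (nat_lit 1624) .nil) (nat_lit 1365) (nat_lit 116) (nat_lit 2433) (.node .nil (nat_lit 1370) (nat_lit 176)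
  (nat_lit 1621) .nil)))))))
def t2_2 : T := (.node (.node (.node (.node (.node (.node (.node .nil (nat_lit 1372) (nat_lit 147) (nat_lit
  1635) .nil) (nat_lit 1373) (nat_lit 144) (nat_lit 1624) (.node .nil (nat_lit 1390) (nat_lit 148) (nat_lit
  1135) .nil)) (nat_lit 1396) (nat_lit 144) (nat_lit 1653) (.node (.node .nil (nat_lit 1397) (nat_lit 147)
  (nat_lit 1190) .nil) (nat_lit 1412) (nat_lit 117) (nat_lit 1166) (.node .nil (nat_lit 1442) (nat_lit 100)
  (nat_lit 1993) .nil))) (nat_lit 1443) (nat_lit 163) (nat_lit 1288) (.node (.node (.node .nil (nat_lit 1444)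
  (nat_lit 195) (nat_lit 1289) .nil) (nat_lit 1471) (nat_lit 131) (nat_lit 1258) (.node .nil (nat_lit 1472)
  (nat_lit 99) (nat_lit 1259) .nil)) (nat_lit 1473) (nat_lit 160) (nat_lit 1749) (.node (.node .nil (nat_lit
  1475) (nat_lit 96) (nat_lit 1259) .nil) (nat_lit 1476) (nat_lit 163) (nat_lit 1749) (.node .nil (nat_lit
  1477) (nat_lit 133) (nat_lit 1856) .nil)))) (nat_lit 1479) (nat_lit 164) (nat_lit 464) (.node (.node (.node
  (.node .nil (nat_lit 1517) (nat_lit 160) (nat_lit 1288) .nil) (nat_lit 1518) (nat_lit 164) (nat_lit 1845)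
  (.node .nil (nat_lit 1519) (nat_lit 196) (nat_lit 495) .nil)) (nat_lit 1520) (nat_lit 197) (nat_lit 2781)
  (.node (.node .nil (nat_lit 1521) (nat_lit 163) (nat_lit 1817) .nil) (nat_lit 1531) (nat_lit 132) (nat_lit
  500) (.node .nil (nat_lit 1532) (nat_lit 163) (nat_lit 1833) .nil))) (nat_lit 1533) (nat_lit 130) (nat_lit
  1955) (.node (.node (.node .nil (nat_lit 1544) (nat_lit 130) (nat_lit 1988) .nil) (nat_lit 1547) (nat_lit
  131) (nat_lit 1846) (.node .nil (nat_lit 1549) (nat_lit 133) (nat_lit 1988) .nil)) (nat_lit 1550) (nat_lit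
  128) (nat_lit 1846) (.node (.node .nil (nat_lit 1551) (nat_lit 133) (nat_lit 1748) .nil) (nat_lit 1552)
  (nat_lit 132) (nat_lit 1008) (.node .nil (nat_lit 1553) (nat_lit 100) (nat_lit 2029) .nil))))) (nat_lit
  1555) (nat_lit 128) (nat_lit 1851) (.node (.node (.node (.node (.node .nil (nat_lit 1556) (nat_lit 101)
  (nat_lit 1259) .nil) (nat_lit 1557) (nat_lit 163) (nat_lit 1317) (.node .nil (nat_lit 1560) (nat_lit 160)
  (nat_lit 1325) .nil)) (nat_lit 1561) (nat_lit 97) (nat_lit 1363) (.node (.node .nil (nat_lit 1562) (nat_lit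
  161) (nat_lit 1817) .nil) (nat_lit 1566) (nat_lit 163) (nat_lit 1325) (.node .nil (nat_lit 1573) (nat_lit
  99) (nat_lit 1878) .nil))) (nat_lit 1574) (nat_lit 133) (nat_lit 1009) (.node (.node (.node .nil (nat_lit
  1575) (nat_lit 162) (nat_lit 1362) .nil) (nat_lit 1576) (nat_lit 68) (nat_lit 460) (.node .nil (nat_lit
  1583) (nat_lit 162) (nat_lit 1003) .nil)) (nat_lit 1584) (nat_lit 162) (nat_lit 1352) (.node (.node .nil
  (nat_lit 1585) (nat_lit 100) (nat_lit 1752) .nil) (nat_lit 1587) (nat_lit 194) (nat_lit 1349) (.node .nil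
  (nat_lit 1588) (nat_lit 130) (nat_lit 1350) .nil)))) (nat_lit 1590) (nat_lit 193) (nat_lit 1340) (.node
  (.node (.node (.node .nil (nat_lit 1591) (nat_lit 195) (nat_lit 1340) .nil) (nat_lit 1599) (nat_lit 160)
  (nat_lit 1352) (.node .nil (nat_lit 1600) (nat_lit 130) (nat_lit 1341) .nil)) (nat_lit 1602) (nat_lit 165)
  (nat_lit 1842) (.node (.node .nil (nat_lit 1603) (nat_lit 161) (nat_lit 1921) .nil) (nat_lit 1608) (nat_lit
  132) (nat_lit 506) (.node .nil (nat_lit 1609) (nat_lit 163) (nat_lit 1352) .nil))) (nat_lit 1612) (nat_lit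
  165) (nat_lit 1839) (.node (.node (.node .nil (nat_lit 1621) (nat_lit 164) (nat_lit 1348) .nil) (nat_lit
  1622) (nat_lit 163) (nat_lit 1362) (.node .nil (nat_lit 1623) (nat_lit 131) (nat_lit 1955) .nil)) (nat_lit
  1624) (nat_lit 132) (nat_lit 2509) (.node (.node .nil (nat_lit 1633) (nat_lit 162) (nat_lit 1815) .nil)
  (nat_lit 1634) (nat_lit 161) (nat_lit 1371) (.node .nil (nat_lit 1635) (nat_lit 128) (nat_lit 1955)
  .nil)))))) (nat_lit 1646) (nat_lit 130) (nat_lit 1365) (.node (.node (.node (.node (.node (.node .nil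
  (nat_lit 1653) (nat_lit 132) (nat_lit 1321) .nil) (nat_lit 1654) (nat_lit 163) (nat_lit 1390) (.node .nil
  (nat_lit 1657) (nat_lit 128) (nat_lit 1988) .nil)) (nat_lit 1666) (nat_lit 101) (nat_lit 1363) (.node (.node
  .nil (nat_lit 1690) (nat_lit 131) (nat_lit 2030) .nil) (nat_lit 1706) (nat_lit 179) (nat_lit 1517) (.node
  .nil (nat_lit 1707) (nat_lit 179) (nat_lit 1518) .nil))) (nat_lit 1708) (nat_lit 211) (nat_lit 1519) (.node
  (.node (.node .nil (nat_lit 1710) (nat_lit 210) (nat_lit 2383) .nil) (nat_lit 1748) (nat_lit 115) (nat_lit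
  1475) (.node .nil (nat_lit 1749) (nat_lit 148) (nat_lit 2212) .nil)) (nat_lit 1750) (nat_lit 149) (nat_lit
  1555) (.node (.node .nil (nat_lit 1751) (nat_lit 176) (nat_lit 2104) .nil) (nat_lit 1752) (nat_lit 85)
  (nat_lit 891) (.node .nil (nat_lit 1753) (nat_lit 117) (nat_lit 2223) .nil)))) (nat_lit 1755) (nat_lit 179)
  (nat_lit 2104) (.node (.node (.node (.node .nil (nat_lit 1757) (nat_lit 145) (nat_lit 1477) .nil) (nat_lit
  1761) (nat_lit 178) (nat_lit 2106) (.node .nil (nat_lit 1809) (nat_lit 180) (nat_lit 2205) .nil)) (nat_lit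
  1810) (nat_lit 180) (nat_lit 2207) (.node (.node .nil (nat_lit 1811) (nat_lit 180) (nat_lit 2214) .nil)
  (nat_lit 1813) (nat_lit 212) (nat_lit 581) (.node .nil (nat_lit 1814) (nat_lit 179) (nat_lit 2053) .nil)))
  (nat_lit 1815) (nat_lit 144) (nat_lit 1531) (.node (.node (.node .nil (nat_lit 1816) (nat_lit 178) (nat_lit
  1167) .nil) (nat_lit 1817) (nat_lit 146) (nat_lit 1635) (.node .nil (nat_lit 1831) (nat_lit 149) (nat_lit
  1624) .nil)) (nat_lit 1832) (nat_lit 147) (nat_lit 1531) (.node (.node .nil (nat_lit 1833) (nat_lit 146)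
  (nat_lit 1624) .nil) (nat_lit 1839) (nat_lit 146) (nat_lit 1657) (.node .nil (nat_lit 1841) (nat_lit 181)
  (nat_lit 1654) .nil))))) (nat_lit 1842) (nat_lit 146) (nat_lit 1653) (.node (.node (.node (.node (.node .nil
  (nat_lit 1843) (nat_lit 147) (nat_lit 2213) .nil) (nat_lit 1845) (nat_lit 149) (nat_lit 1657) (.node .nil
  (nat_lit 1846) (nat_lit 116) (nat_lit 2250) .nil)) (nat_lit 1847) (nat_lit 145) (nat_lit 1549) (.node (.node
  .nil (nat_lit 1848) (nat_lit 149) (nat_lit 1653) .nil) (nat_lit 1851) (nat_lit 116) (nat_lit 1161) (.node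
  .nil (nat_lit 1852) (nat_lit 117) (nat_lit 1475) .nil))) (nat_lit 1853) (nat_lit 147) (nat_lit 1552) (.node
  (.node (.node .nil (nat_lit 1856) (nat_lit 112) (nat_lit 2223) .nil) (nat_lit 1864) (nat_lit 179) (nat_lit
  1560) (.node .nil (nat_lit 1876) (nat_lit 117) (nat_lit 1161) .nil)) (nat_lit 1877) (nat_lit 147) (nat_lit
  2254) (.node (.node .nil (nat_lit 1878) (nat_lit 80) (nat_lit 1576) .nil) (nat_lit 1879) (nat_lit 147)
  (nat_lit 1646) (.node .nil (nat_lit 1881) (nat_lit 177) (nat_lit 1575) .nil)))) (nat_lit 1882) (nat_lit 144)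
  (nat_lit 2254) (.node (.node (.node (.node .nil (nat_lit 1888) (nat_lit 181) (nat_lit 771) .nil) (nat_lit
  1890) (nat_lit 180) (nat_lit 2184) (.node .nil (nat_lit 1891) (nat_lit 146) (nat_lit 1155) .nil)) (nat_lit
  1893) (nat_lit 177) (nat_lit 1584) (.node (.node .nil (nat_lit 1894) (nat_lit 179) (nat_lit 1584) .nil)
  (nat_lit 1899) (nat_lit 178) (nat_lit 2216) (.node .nil (nat_lit 1900) (nat_lit 178) (nat_lit 1603) .nil)))
  (nat_lit 1903) (nat_lit 211) (nat_lit 1590) (.node (.node (.node .nil (nat_lit 1917) (nat_lit 144) (nat_lit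
  1608) .nil) (nat_lit 1918) (nat_lit 179) (nat_lit 1599) (.node .nil (nat_lit 1921) (nat_lit 149) (nat_lit
  1544) .nil)) (nat_lit 1931) (nat_lit 147) (nat_lit 1608) (.node (.node .nil (nat_lit 1952) (nat_lit 146)
  (nat_lit 1531) .nil) (nat_lit 1953) (nat_lit 179) (nat_lit 1621) (.node .nil (nat_lit 1954) (nat_lit 116)
  (nat_lit 1573) .nil)))))))
def t2_3 : T := (.node (.node (.node (.node (.node (.node (.node .nil (nat_lit 1966) (nat_lit 179) (nat_lit
  1633) .nil) (nat_lit 1978) (nat_lit 146) (nat_lit 1168) (.node .nil (nat_lit 1983) (nat_lit 145) (nat_lit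
  1646) .nil)) (nat_lit 1988) (nat_lit 116) (nat_lit 2267) (.node (.node .nil (nat_lit 1989) (nat_lit 147)
  (nat_lit 2386) .nil) (nat_lit 1993) (nat_lit 85) (nat_lit 899) (.node .nil (nat_lit 2020) (nat_lit 83)
  (nat_lit 2424) .nil))) (nat_lit 2029) (nat_lit 85) (nat_lit 2424) (.node (.node (.node .nil (nat_lit 2030)
  (nat_lit 116) (nat_lit 1163) .nil) (nat_lit 2045) (nat_lit 164) (nat_lit 1891) (.node .nil (nat_lit 2046)
  (nat_lit 196) (nat_lit 2685) .nil)) (nat_lit 2048) (nat_lit 194) (nat_lit 2781) (.node (.node .nil (nat_lit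
  2050) (nat_lit 192) (nat_lit 2447) .nil) (nat_lit 2053) (nat_lit 161) (nat_lit 1833) (.node .nil (nat_lit
  2102) (nat_lit 101) (nat_lit 817) .nil)))) (nat_lit 2103) (nat_lit 133) (nat_lit 1851) (.node (.node (.node
  (.node .nil (nat_lit 2104) (nat_lit 164) (nat_lit 2623) .nil) (nat_lit 2106) (nat_lit 161) (nat_lit 1750)
  (.node .nil (nat_lit 2107) (nat_lit 162) (nat_lit 1757) .nil)) (nat_lit 2108) (nat_lit 97) (nat_lit 2029)
  (.node (.node .nil (nat_lit 2109) (nat_lit 196) (nat_lit 1894) .nil) (nat_lit 2111) (nat_lit 129) (nat_lit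
  1753) (.node .nil (nat_lit 2115) (nat_lit 162) (nat_lit 2512) .nil))) (nat_lit 2119) (nat_lit 164) (nat_lit
  618) (.node (.node (.node .nil (nat_lit 2176) (nat_lit 163) (nat_lit 2444) .nil) (nat_lit 2177) (nat_lit
  165) (nat_lit 989) (.node .nil (nat_lit 2179) (nat_lit 195) (nat_lit 2447) .nil)) (nat_lit 2180) (nat_lit
  165) (nat_lit 1983) (.node (.node .nil (nat_lit 2182) (nat_lit 165) (nat_lit 2667) .nil) (nat_lit 2184)
  (nat_lit 165) (nat_lit 1373) (.node .nil (nat_lit 2185) (nat_lit 163) (nat_lit 1815) .nil))))) (nat_lit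
  2186) (nat_lit 163) (nat_lit 2605) (.node (.node (.node (.node (.node .nil (nat_lit 2187) (nat_lit 162)
  (nat_lit 1373) .nil) (nat_lit 2203) (nat_lit 165) (nat_lit 1364) (.node .nil (nat_lit 2205) (nat_lit 163)
  (nat_lit 1952) .nil)) (nat_lit 2207) (nat_lit 163) (nat_lit 2602) (.node (.node .nil (nat_lit 2208) (nat_lit
  162) (nat_lit 1396) .nil) (nat_lit 2209) (nat_lit 197) (nat_lit 1755) (.node .nil (nat_lit 2210) (nat_lit
  165) (nat_lit 1390) .nil))) (nat_lit 2211) (nat_lit 132) (nat_lit 1748) (.node (.node (.node .nil (nat_lit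
  2212) (nat_lit 133) (nat_lit 1954) .nil) (nat_lit 2213) (nat_lit 132) (nat_lit 1876) (.node .nil (nat_lit
  2214) (nat_lit 161) (nat_lit 1845) .nil)) (nat_lit 2215) (nat_lit 165) (nat_lit 1396) (.node (.node .nil
  (nat_lit 2216) (nat_lit 161) (nat_lit 1848) .nil) (nat_lit 2223) (nat_lit 100) (nat_lit 2020) (.node .nil
  (nat_lit 2250) (nat_lit 101) (nat_lit 822) .nil)))) (nat_lit 2251) (nat_lit 164) (nat_lit 2604) (.node
  (.node (.node (.node .nil (nat_lit 2253) (nat_lit 163) (nat_lit 2667) .nil) (nat_lit 2254) (nat_lit 132)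
  (nat_lit 1753) (.node .nil (nat_lit 2255) (nat_lit 163) (nat_lit 1983) .nil)) (nat_lit 2260) (nat_lit 197)
  (nat_lit 2447) (.node (.node .nil (nat_lit 2261) (nat_lit 160) (nat_lit 2667) .nil) (nat_lit 2267) (nat_lit
  99) (nat_lit 2682) (.node .nil (nat_lit 2268) (nat_lit 162) (nat_lit 1004) .nil))) (nat_lit 2269) (nat_lit
  165) (nat_lit 826) (.node (.node (.node .nil (nat_lit 2274) (nat_lit 194) (nat_lit 2624) .nil) (nat_lit
  2275) (nat_lit 196) (nat_lit 2445) (.node .nil (nat_lit 2278) (nat_lit 195) (nat_lit 1893) .nil)) (nat_lit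
  2286) (nat_lit 162) (nat_lit 1847) (.node (.node .nil (nat_lit 2314) (nat_lit 163) (nat_lit 1917) .nil)
  (nat_lit 2371) (nat_lit 195) (nat_lit 2662) (.node .nil (nat_lit 2378) (nat_lit 161) (nat_lit 1978)
  .nil)))))) (nat_lit 2383) (nat_lit 192) (nat_lit 2781) (.node (.node (.node (.node (.node (.node .nil
  (nat_lit 2385) (nat_lit 164) (nat_lit 1921) .nil) (nat_lit 2386) (nat_lit 132) (nat_lit 1323) (.node .nil
  (nat_lit 2423) (nat_lit 132) (nat_lit 1852) .nil)) (nat_lit 2424) (nat_lit 66) (nat_lit 712) (.node (.node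
  .nil (nat_lit 2433) (nat_lit 101) (nat_lit 2020) .nil) (nat_lit 2444) (nat_lit 148) (nat_lit 1600) (.node
  .nil (nat_lit 2445) (nat_lit 181) (nat_lit 1134) .nil))) (nat_lit 2447) (nat_lit 180) (nat_lit 2989) (.node
  (.node (.node .nil (nat_lit 2450) (nat_lit 177) (nat_lit 2187) .nil) (nat_lit 2454) (nat_lit 178) (nat_lit
  2261) (.node .nil (nat_lit 2509) (nat_lit 113) (nat_lit 2433) .nil)) (nat_lit 2510) (nat_lit 180) (nat_lit
  2187) (.node (.node .nil (nat_lit 2512) (nat_lit 145) (nat_lit 2103) .nil) (nat_lit 2513) (nat_lit 146)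
  (nat_lit 2111) (.node .nil (nat_lit 2516) (nat_lit 178) (nat_lit 1479) .nil)))) (nat_lit 2517) (nat_lit 179)
  (nat_lit 2904) (.node (.node (.node (.node .nil (nat_lit 2519) (nat_lit 212) (nat_lit 2278) .nil) (nat_lit
  2523) (nat_lit 178) (nat_lit 2104) (.node .nil (nat_lit 2528) (nat_lit 212) (nat_lit 2909) .nil)) (nat_lit
  2593) (nat_lit 147) (nat_lit 2423) (.node (.node .nil (nat_lit 2594) (nat_lit 180) (nat_lit 2185) .nil)
  (nat_lit 2596) (nat_lit 177) (nat_lit 2177) (.node .nil (nat_lit 2598) (nat_lit 181) (nat_lit 2261) .nil)))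
  (nat_lit 2599) (nat_lit 179) (nat_lit 2844) (.node (.node (.node .nil (nat_lit 2602) (nat_lit 146) (nat_lit
  1608) .nil) (nat_lit 2603) (nat_lit 180) (nat_lit 2177) (.node .nil (nat_lit 2604) (nat_lit 149) (nat_lit
  2211) .nil)) (nat_lit 2605) (nat_lit 148) (nat_lit 2103) (.node (.node .nil (nat_lit 2621) (nat_lit 181)
  (nat_lit 1479) .nil) (nat_lit 2622) (nat_lit 181) (nat_lit 2104) (.node .nil (nat_lit 2623) (nat_lit 145)
  (nat_lit 2212) .nil))))) (nat_lit 2624) (nat_lit 177) (nat_lit 2215) (.node (.node (.node (.node (.node .nil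
  (nat_lit 2662) (nat_lit 180) (nat_lit 2215) .nil) (nat_lit 2663) (nat_lit 180) (nat_lit 2991) (.node .nil
  (nat_lit 2666) (nat_lit 213) (nat_lit 2050) .nil)) (nat_lit 2667) (nat_lit 148) (nat_lit 2111) (.node (.node
  .nil (nat_lit 2668) (nat_lit 211) (nat_lit 2383) .nil) (nat_lit 2675) (nat_lit 180) (nat_lit 667) (.node
  .nil (nat_lit 2681) (nat_lit 180) (nat_lit 2314) .nil))) (nat_lit 2682) (nat_lit 81) (nat_lit 2424) (.node
  (.node (.node .nil (nat_lit 2684) (nat_lit 178) (nat_lit 2991) .nil) (nat_lit 2685) (nat_lit 178) (nat_lit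
  1158) (.node .nil (nat_lit 2693) (nat_lit 178) (nat_lit 2214) .nil)) (nat_lit 2771) (nat_lit 180) (nat_lit
  1562) (.node (.node .nil (nat_lit 2774) (nat_lit 178) (nat_lit 2844) .nil) (nat_lit 2781) (nat_lit 180)
  (nat_lit 2115) (.node .nil (nat_lit 2835) (nat_lit 196) (nat_lit 1918) .nil)))) (nat_lit 2837) (nat_lit 193)
  (nat_lit 2445) (.node (.node (.node (.node .nil (nat_lit 2841) (nat_lit 162) (nat_lit 2667) .nil) (nat_lit
  2844) (nat_lit 164) (nat_lit 2512) (.node .nil (nat_lit 2904) (nat_lit 164) (nat_lit 1817) .nil)) (nat_lit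
  2906) (nat_lit 196) (nat_lit 2450) (.node (.node .nil (nat_lit 2909) (nat_lit 195) (nat_lit 2523) .nil)
  (nat_lit 2910) (nat_lit 226) (nat_lit 2519) (.node .nil (nat_lit 2918) (nat_lit 196) (nat_lit 2624) .nil)))
  (nat_lit 2924) (nat_lit 195) (nat_lit 2781) (.node (.node (.node .nil (nat_lit 2929) (nat_lit 164) (nat_lit
  2513) .nil) (nat_lit 2986) (nat_lit 196) (nat_lit 1864) (.node .nil (nat_lit 2989) (nat_lit 162) (nat_lit
  2623) .nil)) (nat_lit 2990) (nat_lit 161) (nat_lit 2602) (.node (.node .nil (nat_lit 2991) (nat_lit 161)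
  (nat_lit 2604) .nil) (nat_lit 3023) (nat_lit 194) (nat_lit 2447) (.node .nil (nat_lit 3182) (nat_lit 179)
  (nat_lit 2929) .nil)))))))
def t2 : T := (.node (.node t2_0 (nat_lit 697) (nat_lit 36) (nat_lit 1) t2_1) (nat_lit 1371) (nat_lit 146)
  (nat_lit 2254) (.node t2_2 (nat_lit 1955) (nat_lit 116) (nat_lit 2102) t2_3))
def l2 : Lvl := ⟨nat_lit 2, [nat_lit 3, nat_lit 6, nat_lit 9, nat_lit 7, nat_lit 4, nat_lit 0x253212352], [], t2⟩
def t3_0 : T := (.node (.node (.node (.node (.node (.node (.node (.node .nil (nat_lit 48) (nat_lit 0) (nat_lit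
  48) .nil) (nat_lit 62) (nat_lit 273) (nat_lit 378) .nil) (nat_lit 78) (nat_lit 209) (nat_lit 266) (.node
  (.node .nil (nat_lit 79) (nat_lit 276) (nat_lit 160) .nil) (nat_lit 80) (nat_lit 241) (nat_lit 134) .nil))
  (nat_lit 95) (nat_lit 161) (nat_lit 451) (.node (.node (.node .nil (nat_lit 100) (nat_lit 147) (nat_lit 794)
  .nil) (nat_lit 101) (nat_lit 129) (nat_lit 447) .nil) (nat_lit 102) (nat_lit 179) (nat_lit 796) (.node
  (.node .nil (nat_lit 111) (nat_lit 145) (nat_lit 344) .nil) (nat_lit 124) (nat_lit 132) (nat_lit 196)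
  .nil))) (nat_lit 125) (nat_lit 148) (nat_lit 101) (.node (.node (.node (.node .nil (nat_lit 126) (nat_lit
  164) (nat_lit 227) .nil) (nat_lit 134) (nat_lit 228) (nat_lit 676) .nil) (nat_lit 149) (nat_lit 195)
  (nat_lit 838) (.node (.node .nil (nat_lit 151) (nat_lit 193) (nat_lit 472) .nil) (nat_lit 152) (nat_lit 208)
  (nat_lit 183) .nil)) (nat_lit 153) (nat_lit 211) (nat_lit 843) (.node (.node (.node .nil (nat_lit 154)
  (nat_lit 176) (nat_lit 95) .nil) (nat_lit 157) (nat_lit 145) (nat_lit 642) .nil) (nat_lit 159) (nat_lit 260)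
  (nat_lit 168) (.node .nil (nat_lit 160) (nat_lit 257) (nat_lit 508) .nil)))) (nat_lit 161) (nat_lit 225)
  (nat_lit 470) (.node (.node (.node (.node (.node .nil (nat_lit 168) (nat_lit 241) (nat_lit 265) .nil)
  (nat_lit 169) (nat_lit 257) (nat_lit 410) .nil) (nat_lit 183) (nat_lit 193) (nat_lit 565) (.node (.node .nil
  (nat_lit 186) (nat_lit 244) (nat_lit 161) .nil) (nat_lit 193) (nat_lit 145) (nat_lit 124) .nil)) (nat_lit
  196) (nat_lit 115) (nat_lit 880) (.node (.node (.node .nil (nat_lit 197) (nat_lit 177) (nat_lit 126) .nil)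
  (nat_lit 198) (nat_lit 17) (nat_lit 48) .nil) (nat_lit 199) (nat_lit 212) (nat_lit 622) (.node (.node .nil
  (nat_lit 210) (nat_lit 211) (nat_lit 1191) .nil) (nat_lit 216) (nat_lit 161) (nat_lit 543) .nil))) (nat_lit
  217) (nat_lit 145) (nat_lit 397) (.node (.node (.node (.node .nil (nat_lit 218) (nat_lit 211) (nat_lit 919)
  .nil) (nat_lit 219) (nat_lit 20) (nat_lit 48) .nil) (nat_lit 220) (nat_lit 160) (nat_lit 157) (.node (.node
  .nil (nat_lit 221) (nat_lit 176) (nat_lit 251) .nil) (nat_lit 222) (nat_lit 227) (nat_lit 925) .nil))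
  (nat_lit 225) (nat_lit 179) (nat_lit 1183) (.node (.node (.node .nil (nat_lit 227) (nat_lit 145) (nat_lit
  551) .nil) (nat_lit 236) (nat_lit 193) (nat_lit 343) .nil) (nat_lit 251) (nat_lit 161) (nat_lit 482) (.node
  .nil (nat_lit 265) (nat_lit 227) (nat_lit 969) .nil))))) (nat_lit 266) (nat_lit 196) (nat_lit 544) (.node
  (.node (.node (.node (.node (.node .nil (nat_lit 267) (nat_lit 163) (nat_lit 971) .nil) (nat_lit 268)
  (nat_lit 147) (nat_lit 973) .nil) (nat_lit 271) (nat_lit 241) (nat_lit 471) (.node (.node .nil (nat_lit 272)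
  (nat_lit 228) (nat_lit 602) .nil) (nat_lit 273) (nat_lit 276) (nat_lit 674) .nil)) (nat_lit 274) (nat_lit
  192) (nat_lit 197) (.node (.node (.node .nil (nat_lit 275) (nat_lit 32) (nat_lit 198) .nil) (nat_lit 276)
  (nat_lit 99) (nat_lit 983) .nil) (nat_lit 277) (nat_lit 244) (nat_lit 691) (.node (.node .nil (nat_lit 283)
  (nat_lit 227) (nat_lit 1032) .nil) (nat_lit 294) (nat_lit 80) (nat_lit 349) .nil))) (nat_lit 298) (nat_lit
  161) (nat_lit 514) (.node (.node (.node (.node .nil (nat_lit 300) (nat_lit 179) (nat_lit 1028) .nil)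
  (nat_lit 301) (nat_lit 160) (nat_lit 217) .nil) (nat_lit 307) (nat_lit 195) (nat_lit 1302) (.node (.node
  .nil (nat_lit 330) (nat_lit 195) (nat_lit 1121) .nil) (nat_lit 336) (nat_lit 259) (nat_lit 1094) .nil))
  (nat_lit 342) (nat_lit 131) (nat_lit 1099) (.node (.node (.node .nil (nat_lit 343) (nat_lit 179) (nat_lit
  1101) .nil) (nat_lit 344) (nat_lit 132) (nat_lit 467) .nil) (nat_lit 345) (nat_lit 211) (nat_lit 1103)
  (.node .nil (nat_lit 346) (nat_lit 180) (nat_lit 465) .nil)))) (nat_lit 347) (nat_lit 164) (nat_lit 498)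
  (.node (.node (.node (.node (.node .nil (nat_lit 348) (nat_lit 228) (nat_lit 689) .nil) (nat_lit 349)
  (nat_lit 65) (nat_lit 542) .nil) (nat_lit 354) (nat_lit 147) (nat_lit 1113) (.node (.node .nil (nat_lit 356)
  (nat_lit 244) (nat_lit 521) .nil) (nat_lit 358) (nat_lit 260) (nat_lit 619) .nil)) (nat_lit 359) (nat_lit
  260) (nat_lit 671) (.node (.node (.node .nil (nat_lit 360) (nat_lit 211) (nat_lit 1124) .nil) (nat_lit 378)
  (nat_lit 260) (nat_lit 499) .nil) (nat_lit 383) (nat_lit 180) (nat_lit 586) (.node .nil (nat_lit 384)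
  (nat_lit 195) (nat_lit 1489) .nil))) (nat_lit 397) (nat_lit 131) (nat_lit 1261) (.node (.node (.node (.node
  .nil (nat_lit 401) (nat_lit 179) (nat_lit 1266) .nil) (nat_lit 402) (nat_lit 129) (nat_lit 196) .nil)
  (nat_lit 403) (nat_lit 148) (nat_lit 585) (.node (.node .nil (nat_lit 404) (nat_lit 244) (nat_lit 440) .nil)
  (nat_lit 410) (nat_lit 244) (nat_lit 540) .nil)) (nat_lit 412) (nat_lit 163) (nat_lit 1278) (.node (.node
  (.node .nil (nat_lit 413) (nat_lit 164) (nat_lit 584) .nil) (nat_lit 414) (nat_lit 148) (nat_lit 397) .nil)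
  (nat_lit 415) (nat_lit 195) (nat_lit 1282) (.node .nil (nat_lit 416) (nat_lit 163) (nat_lit 1283) .nil))))))
  (nat_lit 417) (nat_lit 260) (nat_lit 424) (.node (.node (.node (.node (.node (.node (.node .nil (nat_lit
  418) (nat_lit 227) (nat_lit 1285) .nil) (nat_lit 424) (nat_lit 243) (nat_lit 1440) .nil) (nat_lit 427)
  (nat_lit 163) (nat_lit 1297) (.node (.node .nil (nat_lit 429) (nat_lit 192) (nat_lit 503) .nil) (nat_lit
  430) (nat_lit 163) (nat_lit 1309) .nil)) (nat_lit 440) (nat_lit 227) (nat_lit 1342) (.node (.node (.node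
  .nil (nat_lit 447) (nat_lit 115) (nat_lit 1775) .nil) (nat_lit 451) (nat_lit 147) (nat_lit 1759) .nil)
  (nat_lit 455) (nat_lit 195) (nat_lit 1776) (.node (.node .nil (nat_lit 463) (nat_lit 211) (nat_lit 1478)
  .nil) (nat_lit 465) (nat_lit 161) (nat_lit 268) .nil))) (nat_lit 466) (nat_lit 209) (nat_lit 149) (.node
  (.node (.node (.node .nil (nat_lit 467) (nat_lit 115) (nat_lit 1482) .nil) (nat_lit 470) (nat_lit 211)
  (nat_lit 1487) .nil) (nat_lit 471) (nat_lit 228) (nat_lit 659) (.node (.node .nil (nat_lit 472) (nat_lit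
  180) (nat_lit 654) .nil) (nat_lit 473) (nat_lit 131) (nat_lit 1492) .nil)) (nat_lit 474) (nat_lit 195)
  (nat_lit 1493) (.node (.node (.node .nil (nat_lit 482) (nat_lit 147) (nat_lit 1701) .nil) (nat_lit 483)
  (nat_lit 48) (nat_lit 553) .nil) (nat_lit 485) (nat_lit 228) (nat_lit 463) (.node .nil (nat_lit 487)
  (nat_lit 227) (nat_lit 1509) .nil)))) (nat_lit 488) (nat_lit 211) (nat_lit 1511) (.node (.node (.node (.node
  (.node .nil (nat_lit 489) (nat_lit 212) (nat_lit 597) .nil) (nat_lit 490) (nat_lit 131) (nat_lit 1514) .nil)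
  (nat_lit 491) (nat_lit 195) (nat_lit 1515) (.node (.node .nil (nat_lit 492) (nat_lit 211) (nat_lit 1516)
  .nil) (nat_lit 497) (nat_lit 192) (nat_lit 583) .nil)) (nat_lit 498) (nat_lit 144) (nat_lit 585) (.node
  (.node (.node .nil (nat_lit 499) (nat_lit 241) (nat_lit 540) .nil) (nat_lit 503) (nat_lit 177) (nat_lit 586)
  .nil) (nat_lit 508) (nat_lit 243) (nat_lit 1565) (.node .nil (nat_lit 514) (nat_lit 148) (nat_lit 473)
  .nil))) (nat_lit 515) (nat_lit 243) (nat_lit 1594) (.node (.node (.node (.node .nil (nat_lit 521) (nat_lit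
  224) (nat_lit 602) .nil) (nat_lit 526) (nat_lit 163) (nat_lit 2123) .nil) (nat_lit 528) (nat_lit 180)
  (nat_lit 430) (.node (.node .nil (nat_lit 530) (nat_lit 115) (nat_lit 2139) .nil) (nat_lit 539) (nat_lit
  160) (nat_lit 620) .nil)) (nat_lit 540) (nat_lit 227) (nat_lit 1760) (.node (.node (.node .nil (nat_lit 542)
  (nat_lit 52) (nat_lit 275) .nil) (nat_lit 543) (nat_lit 147) (nat_lit 1763) .nil) (nat_lit 544) (nat_lit
  176) (nat_lit 465) (.node .nil (nat_lit 545) (nat_lit 224) (nat_lit 466) .nil))))) (nat_lit 546) (nat_lit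
  179) (nat_lit 1766) (.node (.node (.node (.node (.node (.node .nil (nat_lit 551) (nat_lit 131) (nat_lit
  1774) .nil) (nat_lit 553) (nat_lit 33) (nat_lit 219) .nil) (nat_lit 555) (nat_lit 212) (nat_lit 595) (.node
  (.node .nil (nat_lit 556) (nat_lit 227) (nat_lit 1781) .nil) (nat_lit 565) (nat_lit 179) (nat_lit 1901)
  .nil)) (nat_lit 566) (nat_lit 225) (nat_lit 210) (.node (.node (.node .nil (nat_lit 567) (nat_lit 131)
  (nat_lit 2039) .nil) (nat_lit 568) (nat_lit 227) (nat_lit 1796) .nil) (nat_lit 569) (nat_lit 208) (nat_lit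
  646) (.node (.node .nil (nat_lit 570) (nat_lit 259) (nat_lit 1798) .nil) (nat_lit 572) (nat_lit 227)
  (nat_lit 1800) .nil))) (nat_lit 573) (nat_lit 211) (nat_lit 1801) (.node (.node (.node (.node .nil (nat_lit
  575) (nat_lit 193) (nat_lit 660) .nil) (nat_lit 577) (nat_lit 179) (nat_lit 1808) .nil) (nat_lit 583)
  (nat_lit 177) (nat_lit 526) (.node (.node .nil (nat_lit 584) (nat_lit 145) (nat_lit 342) .nil) (nat_lit 585)
  (nat_lit 129) (nat_lit 467) .nil)) (nat_lit 586) (nat_lit 163) (nat_lit 1984) (.node (.node (.node .nil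
  (nat_lit 591) (nat_lit 176) (nat_lit 657) .nil) (nat_lit 595) (nat_lit 195) (nat_lit 1904) .nil) (nat_lit
  596) (nat_lit 148) (nat_lit 402) (.node .nil (nat_lit 597) (nat_lit 195) (nat_lit 1907) .nil)))) (nat_lit
  602) (nat_lit 209) (nat_lit 643) (.node (.node (.node (.node (.node .nil (nat_lit 606) (nat_lit 195)
  (nat_lit 1962) .nil) (nat_lit 612) (nat_lit 64) (nat_lit 666) .nil) (nat_lit 619) (nat_lit 241) (nat_lit
  283) (.node (.node .nil (nat_lit 620) (nat_lit 145) (nat_lit 567) .nil) (nat_lit 622) (nat_lit 193) (nat_lit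
  300) .nil)) (nat_lit 624) (nat_lit 36) (nat_lit 198) (.node (.node (.node .nil (nat_lit 626) (nat_lit 147)
  (nat_lit 2129) .nil) (nat_lit 627) (nat_lit 225) (nat_lit 689) .nil) (nat_lit 632) (nat_lit 144) (nat_lit
  682) (.node .nil (nat_lit 633) (nat_lit 211) (nat_lit 2146) .nil))) (nat_lit 642) (nat_lit 132) (nat_lit
  530) (.node (.node (.node (.node .nil (nat_lit 643) (nat_lit 195) (nat_lit 2241) .nil) (nat_lit 644)
  (nat_lit 240) (nat_lit 566) .nil) (nat_lit 645) (nat_lit 212) (nat_lit 307) (.node (.node .nil (nat_lit 646)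
  (nat_lit 193) (nat_lit 688) .nil) (nat_lit 647) (nat_lit 259) (nat_lit 2169) .nil)) (nat_lit 648) (nat_lit
  211) (nat_lit 2170) (.node (.node (.node .nil (nat_lit 650) (nat_lit 116) (nat_lit 276) .nil) (nat_lit 654)
  (nat_lit 160) (nat_lit 584) .nil) (nat_lit 655) (nat_lit 193) (nat_lit 546) (.node .nil (nat_lit 657)
  (nat_lit 161) (nat_lit 685) .nil)))))))
def t3_1 : T := (.node (.node (.node (.node (.node (.node (.node (.node .nil (nat_lit 660) (nat_lit 180)
  (nat_lit 416) .nil) (nat_lit 666) (nat_lit 49) (nat_lit 624) .nil) (nat_lit 671) (nat_lit 243) (nat_lit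
  2531) (.node (.node .nil (nat_lit 674) (nat_lit 256) (nat_lit 619) .nil) (nat_lit 676) (nat_lit 208)
  (nat_lit 622) .nil)) (nat_lit 678) (nat_lit 211) (nat_lit 2542) (.node (.node (.node .nil (nat_lit 682)
  (nat_lit 129) (nat_lit 650) .nil) (nat_lit 685) (nat_lit 148) (nat_lit 551) .nil) (nat_lit 688) (nat_lit
  179) (nat_lit 2590) (.node (.node .nil (nat_lit 689) (nat_lit 211) (nat_lit 2678) .nil) (nat_lit 691)
  (nat_lit 225) (nat_lit 678) .nil))) (nat_lit 755) (nat_lit 273) (nat_lit 1567) (.node (.node (.node (.node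
  .nil (nat_lit 784) (nat_lit 145) (nat_lit 1870) .nil) (nat_lit 794) (nat_lit 129) (nat_lit 1329) .nil)
  (nat_lit 795) (nat_lit 130) (nat_lit 856) (.node (.node .nil (nat_lit 796) (nat_lit 162) (nat_lit 857) .nil)
  (nat_lit 797) (nat_lit 289) (nat_lit 1871) .nil)) (nat_lit 813) (nat_lit 224) (nat_lit 883) (.node (.node
  (.node .nil (nat_lit 830) (nat_lit 113) (nat_lit 1570) .nil) (nat_lit 838) (nat_lit 177) (nat_lit 1569)
  .nil) (nat_lit 841) (nat_lit 211) (nat_lit 151) (.node .nil (nat_lit 842) (nat_lit 196) (nat_lit 928)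
  .nil)))) (nat_lit 843) (nat_lit 194) (nat_lit 926) (.node (.node (.node (.node (.node .nil (nat_lit 844)
  (nat_lit 160) (nat_lit 784) .nil) (nat_lit 845) (nat_lit 162) (nat_lit 784) .nil) (nat_lit 853) (nat_lit
  275) (nat_lit 159) (.node (.node .nil (nat_lit 854) (nat_lit 273) (nat_lit 2226) .nil) (nat_lit 855)
  (nat_lit 241) (nat_lit 1683) .nil)) (nat_lit 856) (nat_lit 113) (nat_lit 2244) (.node (.node (.node .nil
  (nat_lit 857) (nat_lit 145) (nat_lit 1685) .nil) (nat_lit 866) (nat_lit 289) (nat_lit 1426) .nil) (nat_lit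
  876) (nat_lit 148) (nat_lit 2936) (.node .nil (nat_lit 880) (nat_lit 97) (nat_lit 1421) .nil))) (nat_lit
  881) (nat_lit 180) (nat_lit 3367) (.node (.node (.node (.node .nil (nat_lit 882) (nat_lit 35) (nat_lit 198)
  .nil) (nat_lit 883) (nat_lit 209) (nat_lit 1307) .nil) (nat_lit 884) (nat_lit 208) (nat_lit 985) (.node
  (.node .nil (nat_lit 907) (nat_lit 226) (nat_lit 841) .nil) (nat_lit 909) (nat_lit 161) (nat_lit 1873)
  .nil)) (nat_lit 917) (nat_lit 164) (nat_lit 1386) (.node (.node (.node .nil (nat_lit 918) (nat_lit 161)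
  (nat_lit 1425) .nil) (nat_lit 919) (nat_lit 192) (nat_lit 838) .nil) (nat_lit 920) (nat_lit 35) (nat_lit
  219) (.node .nil (nat_lit 921) (nat_lit 179) (nat_lit 220) .nil))))) (nat_lit 922) (nat_lit 192) (nat_lit
  1037) (.node (.node (.node (.node (.node (.node .nil (nat_lit 923) (nat_lit 180) (nat_lit 845) .nil)
  (nat_lit 924) (nat_lit 180) (nat_lit 844) .nil) (nat_lit 925) (nat_lit 210) (nat_lit 1042) (.node (.node
  .nil (nat_lit 926) (nat_lit 177) (nat_lit 2024) .nil) (nat_lit 928) (nat_lit 178) (nat_lit 844) .nil))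
  (nat_lit 939) (nat_lit 129) (nat_lit 2009) (.node (.node (.node .nil (nat_lit 940) (nat_lit 289) (nat_lit
  2637) .nil) (nat_lit 942) (nat_lit 258) (nat_lit 855) .nil) (nat_lit 953) (nat_lit 113) (nat_lit 1679)
  (.node (.node .nil (nat_lit 955) (nat_lit 178) (nat_lit 918) .nil) (nat_lit 969) (nat_lit 208) (nat_lit
  1103) .nil))) (nat_lit 970) (nat_lit 211) (nat_lit 266) (.node (.node (.node (.node .nil (nat_lit 971)
  (nat_lit 148) (nat_lit 2690) .nil) (nat_lit 972) (nat_lit 164) (nat_lit 3139) .nil) (nat_lit 973) (nat_lit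
  132) (nat_lit 1451) (.node (.node .nil (nat_lit 976) (nat_lit 259) (nat_lit 271) .nil) (nat_lit 977)
  (nat_lit 243) (nat_lit 272) .nil)) (nat_lit 978) (nat_lit 260) (nat_lit 3254) (.node (.node (.node .nil
  (nat_lit 979) (nat_lit 196) (nat_lit 3253) .nil) (nat_lit 980) (nat_lit 196) (nat_lit 3276) .nil) (nat_lit
  981) (nat_lit 51) (nat_lit 275) (.node .nil (nat_lit 982) (nat_lit 50) (nat_lit 882) .nil)))) (nat_lit 983)
  (nat_lit 82) (nat_lit 1125) (.node (.node (.node (.node (.node .nil (nat_lit 984) (nat_lit 225) (nat_lit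
  1122) .nil) (nat_lit 985) (nat_lit 193) (nat_lit 1121) .nil) (nat_lit 1018) (nat_lit 50) (nat_lit 920)
  (.node (.node .nil (nat_lit 1019) (nat_lit 180) (nat_lit 1183) .nil) (nat_lit 1020) (nat_lit 176) (nat_lit
  909) .nil)) (nat_lit 1026) (nat_lit 161) (nat_lit 2919) (.node (.node (.node .nil (nat_lit 1028) (nat_lit
  161) (nat_lit 2228) .nil) (nat_lit 1029) (nat_lit 176) (nat_lit 918) .nil) (nat_lit 1032) (nat_lit 212)
  (nat_lit 1080) (.node .nil (nat_lit 1034) (nat_lit 163) (nat_lit 157) .nil))) (nat_lit 1035) (nat_lit 194)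
  (nat_lit 921) (.node (.node (.node (.node .nil (nat_lit 1037) (nat_lit 177) (nat_lit 2916) .nil) (nat_lit
  1038) (nat_lit 210) (nat_lit 922) .nil) (nat_lit 1040) (nat_lit 164) (nat_lit 784) (.node (.node .nil
  (nat_lit 1042) (nat_lit 192) (nat_lit 926) .nil) (nat_lit 1059) (nat_lit 113) (nat_lit 2410) .nil)) (nat_lit
  1076) (nat_lit 274) (nat_lit 976) (.node (.node (.node .nil (nat_lit 1077) (nat_lit 116) (nat_lit 1274)
  .nil) (nat_lit 1078) (nat_lit 164) (nat_lit 3034) .nil) (nat_lit 1079) (nat_lit 226) (nat_lit 970) (.node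
  .nil (nat_lit 1080) (nat_lit 194) (nat_lit 1029) .nil)))))) (nat_lit 1094) (nat_lit 244) (nat_lit 3162)
  (.node (.node (.node (.node (.node (.node (.node .nil (nat_lit 1099) (nat_lit 116) (nat_lit 1240) .nil)
  (nat_lit 1101) (nat_lit 164) (nat_lit 3048) .nil) (nat_lit 1102) (nat_lit 132) (nat_lit 2948) (.node (.node
  .nil (nat_lit 1103) (nat_lit 193) (nat_lit 1714) .nil) (nat_lit 1104) (nat_lit 192) (nat_lit 1243) .nil))
  (nat_lit 1105) (nat_lit 195) (nat_lit 346) (.node (.node (.node .nil (nat_lit 1106) (nat_lit 160) (nat_lit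
  1269) .nil) (nat_lit 1107) (nat_lit 212) (nat_lit 3213) .nil) (nat_lit 1108) (nat_lit 83) (nat_lit 349)
  (.node (.node .nil (nat_lit 1113) (nat_lit 132) (nat_lit 3370) .nil) (nat_lit 1115) (nat_lit 241) (nat_lit
  1238) .nil))) (nat_lit 1116) (nat_lit 244) (nat_lit 3408) (.node (.node (.node (.node .nil (nat_lit 1118)
  (nat_lit 260) (nat_lit 3027) .nil) (nat_lit 1119) (nat_lit 260) (nat_lit 3090) .nil) (nat_lit 1120) (nat_lit
  244) (nat_lit 2617) (.node (.node .nil (nat_lit 1121) (nat_lit 180) (nat_lit 2610) .nil) (nat_lit 1122)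
  (nat_lit 212) (nat_lit 3059) .nil)) (nat_lit 1123) (nat_lit 66) (nat_lit 981) (.node (.node (.node .nil
  (nat_lit 1124) (nat_lit 196) (nat_lit 1826) .nil) (nat_lit 1125) (nat_lit 65) (nat_lit 981) .nil) (nat_lit
  1126) (nat_lit 209) (nat_lit 979) (.node .nil (nat_lit 1171) (nat_lit 132) (nat_lit 2009) .nil)))) (nat_lit
  1177) (nat_lit 145) (nat_lit 2643) (.node (.node (.node (.node (.node .nil (nat_lit 1179) (nat_lit 177)
  (nat_lit 3181) .nil) (nat_lit 1183) (nat_lit 162) (nat_lit 1386) .nil) (nat_lit 1191) (nat_lit 196) (nat_lit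
  955) (.node (.node .nil (nat_lit 1192) (nat_lit 196) (nat_lit 1029) .nil) (nat_lit 1194) (nat_lit 178)
  (nat_lit 1034) .nil)) (nat_lit 1196) (nat_lit 194) (nat_lit 1037) (.node (.node (.node .nil (nat_lit 1221)
  (nat_lit 275) (nat_lit 1773) .nil) (nat_lit 1238) (nat_lit 228) (nat_lit 2999) .nil) (nat_lit 1240) (nat_lit
  98) (nat_lit 1108) (.node .nil (nat_lit 1241) (nat_lit 160) (nat_lit 1454) .nil))) (nat_lit 1242) (nat_lit
  100) (nat_lit 1108) (.node (.node (.node (.node .nil (nat_lit 1243) (nat_lit 177) (nat_lit 1510) .nil)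
  (nat_lit 1244) (nat_lit 210) (nat_lit 1105) .nil) (nat_lit 1245) (nat_lit 116) (nat_lit 3159) (.node (.node
  .nil (nat_lit 1252) (nat_lit 228) (nat_lit 2958) .nil) (nat_lit 1261) (nat_lit 112) (nat_lit 1482) .nil))
  (nat_lit 1266) (nat_lit 161) (nat_lit 2064) (.node (.node (.node .nil (nat_lit 1268) (nat_lit 113) (nat_lit
  2136) .nil) (nat_lit 1269) (nat_lit 145) (nat_lit 1513) .nil) (nat_lit 1270) (nat_lit 244) (nat_lit 2965)
  (.node .nil (nat_lit 1274) (nat_lit 99) (nat_lit 294) .nil))))) (nat_lit 1276) (nat_lit 224) (nat_lit 1506)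
  (.node (.node (.node (.node (.node (.node .nil (nat_lit 1278) (nat_lit 148) (nat_lit 2709) .nil) (nat_lit
  1279) (nat_lit 180) (nat_lit 3271) .nil) (nat_lit 1280) (nat_lit 179) (nat_lit 413) (.node (.node .nil
  (nat_lit 1281) (nat_lit 148) (nat_lit 2689) .nil) (nat_lit 1282) (nat_lit 177) (nat_lit 1455) .nil))
  (nat_lit 1283) (nat_lit 145) (nat_lit 1536) (.node (.node (.node .nil (nat_lit 1284) (nat_lit 241) (nat_lit
  1453) .nil) (nat_lit 1285) (nat_lit 210) (nat_lit 1445) .nil) (nat_lit 1292) (nat_lit 179) (nat_lit 1688)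
  (.node (.node .nil (nat_lit 1297) (nat_lit 148) (nat_lit 3247) .nil) (nat_lit 1298) (nat_lit 116) (nat_lit
  3266) .nil))) (nat_lit 1301) (nat_lit 176) (nat_lit 1537) (.node (.node (.node (.node .nil (nat_lit 1302)
  (nat_lit 177) (nat_lit 1078) .nil) (nat_lit 1303) (nat_lit 225) (nat_lit 1107) .nil) (nat_lit 1305) (nat_lit
  260) (nat_lit 2763) (.node (.node .nil (nat_lit 1306) (nat_lit 244) (nat_lit 2993) .nil) (nat_lit 1307)
  (nat_lit 196) (nat_lit 2196) .nil)) (nat_lit 1309) (nat_lit 145) (nat_lit 1456) (.node (.node (.node .nil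
  (nat_lit 1310) (nat_lit 196) (nat_lit 2201) .nil) (nat_lit 1329) (nat_lit 116) (nat_lit 2296) .nil) (nat_lit
  1342) (nat_lit 210) (nat_lit 1595) (.node .nil (nat_lit 1361) (nat_lit 227) (nat_lit 2135) .nil)))) (nat_lit
  1374) (nat_lit 244) (nat_lit 1683) (.node (.node (.node (.node (.node .nil (nat_lit 1377) (nat_lit 276)
  (nat_lit 2226) .nil) (nat_lit 1378) (nat_lit 164) (nat_lit 3067) .nil) (nat_lit 1379) (nat_lit 116) (nat_lit
  2410) (.node (.node .nil (nat_lit 1386) (nat_lit 145) (nat_lit 2903) .nil) (nat_lit 1398) (nat_lit 180)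
  (nat_lit 918) .nil)) (nat_lit 1421) (nat_lit 84) (nat_lit 1613) (.node (.node (.node .nil (nat_lit 1424)
  (nat_lit 146) (nat_lit 1685) .nil) (nat_lit 1425) (nat_lit 147) (nat_lit 1528) .nil) (nat_lit 1426) (nat_lit
  275) (nat_lit 1640) (.node .nil (nat_lit 1440) (nat_lit 225) (nat_lit 2422) .nil))) (nat_lit 1445) (nat_lit
  192) (nat_lit 1713) (.node (.node (.node (.node .nil (nat_lit 1447) (nat_lit 161) (nat_lit 1278) .nil)
  (nat_lit 1448) (nat_lit 161) (nat_lit 1297) .nil) (nat_lit 1450) (nat_lit 257) (nat_lit 1270) (.node (.node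
  .nil (nat_lit 1451) (nat_lit 114) (nat_lit 1274) .nil) (nat_lit 1452) (nat_lit 193) (nat_lit 1776) .nil))
  (nat_lit 1453) (nat_lit 228) (nat_lit 3151) (.node (.node (.node .nil (nat_lit 1454) (nat_lit 145) (nat_lit
  1716) .nil) (nat_lit 1455) (nat_lit 164) (nat_lit 3049) .nil) (nat_lit 1456) (nat_lit 132) (nat_lit 3033)
  (.node .nil (nat_lit 1457) (nat_lit 240) (nat_lit 1726) .nil)))))))
def t3_2 : T := (.node (.node (.node (.node (.node (.node (.node (.node .nil (nat_lit 1468) (nat_lit 161)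
  (nat_lit 1772) .nil) (nat_lit 1469) (nat_lit 96) (nat_lit 1747) .nil) (nat_lit 1478) (nat_lit 193) (nat_lit
  1828) (.node (.node .nil (nat_lit 1480) (nat_lit 177) (nat_lit 1794) .nil) (nat_lit 1481) (nat_lit 193)
  (nat_lit 1807) .nil)) (nat_lit 1482) (nat_lit 97) (nat_lit 3459) (.node (.node (.node .nil (nat_lit 1485)
  (nat_lit 260) (nat_lit 3442) .nil) (nat_lit 1487) (nat_lit 196) (nat_lit 3446) .nil) (nat_lit 1488) (nat_lit
  256) (nat_lit 1284) (.node (.node .nil (nat_lit 1489) (nat_lit 176) (nat_lit 1266) .nil) (nat_lit 1490)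
  (nat_lit 243) (nat_lit 471) .nil))) (nat_lit 1491) (nat_lit 195) (nat_lit 472) (.node (.node (.node (.node
  .nil (nat_lit 1492) (nat_lit 113) (nat_lit 1718) .nil) (nat_lit 1493) (nat_lit 176) (nat_lit 1766) .nil)
  (nat_lit 1501) (nat_lit 196) (nat_lit 2935) (.node (.node .nil (nat_lit 1504) (nat_lit 67) (nat_lit 483)
  .nil) (nat_lit 1506) (nat_lit 209) (nat_lit 1715) .nil)) (nat_lit 1509) (nat_lit 208) (nat_lit 1801) (.node
  (.node (.node .nil (nat_lit 1510) (nat_lit 164) (nat_lit 2577) .nil) (nat_lit 1511) (nat_lit 196) (nat_lit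
  2459) .nil) (nat_lit 1512) (nat_lit 212) (nat_lit 2583) (.node .nil (nat_lit 1513) (nat_lit 131) (nat_lit
  1329) .nil)))) (nat_lit 1514) (nat_lit 116) (nat_lit 3225) (.node (.node (.node (.node (.node .nil (nat_lit
  1515) (nat_lit 176) (nat_lit 1808) .nil) (nat_lit 1516) (nat_lit 194) (nat_lit 1713) .nil) (nat_lit 1522)
  (nat_lit 132) (nat_lit 2939) (.node (.node .nil (nat_lit 1525) (nat_lit 196) (nat_lit 2985) .nil) (nat_lit
  1526) (nat_lit 195) (nat_lit 2025) .nil)) (nat_lit 1527) (nat_lit 194) (nat_lit 1292) (.node (.node (.node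
  .nil (nat_lit 1528) (nat_lit 128) (nat_lit 1825) .nil) (nat_lit 1536) (nat_lit 132) (nat_lit 3044) .nil)
  (nat_lit 1537) (nat_lit 161) (nat_lit 3461) (.node .nil (nat_lit 1540) (nat_lit 194) (nat_lit 1301) .nil)))
  (nat_lit 1541) (nat_lit 161) (nat_lit 971) (.node (.node (.node (.node .nil (nat_lit 1545) (nat_lit 161)
  (nat_lit 1281) .nil) (nat_lit 1559) (nat_lit 225) (nat_lit 841) .nil) (nat_lit 1565) (nat_lit 228) (nat_lit
  3448) (.node (.node .nil (nat_lit 1567) (nat_lit 260) (nat_lit 1967) .nil) (nat_lit 1569) (nat_lit 164)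
  (nat_lit 2026) .nil)) (nat_lit 1570) (nat_lit 100) (nat_lit 2708) (.node (.node (.node .nil (nat_lit 1577)
  (nat_lit 161) (nat_lit 2822) .nil) (nat_lit 1589) (nat_lit 192) (nat_lit 1874) .nil) (nat_lit 1592) (nat_lit
  164) (nat_lit 3405) (.node .nil (nat_lit 1593) (nat_lit 128) (nat_lit 1906) .nil))))) (nat_lit 1594)
  (nat_lit 228) (nat_lit 3403) (.node (.node (.node (.node (.node (.node .nil (nat_lit 1595) (nat_lit 193)
  (nat_lit 2694) .nil) (nat_lit 1613) (nat_lit 64) (nat_lit 1857) .nil) (nat_lit 1617) (nat_lit 68) (nat_lit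
  1857) (.node (.node .nil (nat_lit 1618) (nat_lit 195) (nat_lit 2525) .nil) (nat_lit 1619) (nat_lit 242)
  (nat_lit 1361) .nil)) (nat_lit 1636) (nat_lit 130) (nat_lit 1970) (.node (.node (.node .nil (nat_lit 1637)
  (nat_lit 130) (nat_lit 1973) .nil) (nat_lit 1639) (nat_lit 131) (nat_lit 1829) .nil) (nat_lit 1640) (nat_lit
  260) (nat_lit 2022) (.node (.node .nil (nat_lit 1642) (nat_lit 115) (nat_lit 1754) .nil) (nat_lit 1643)
  (nat_lit 291) (nat_lit 1871) .nil))) (nat_lit 1644) (nat_lit 148) (nat_lit 2734) (.node (.node (.node (.node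
  .nil (nat_lit 1645) (nat_lit 148) (nat_lit 2733) .nil) (nat_lit 1649) (nat_lit 177) (nat_lit 3480) .nil)
  (nat_lit 1677) (nat_lit 244) (nat_lit 1361) (.node (.node .nil (nat_lit 1678) (nat_lit 145) (nat_lit 973)
  .nil) (nat_lit 1679) (nat_lit 100) (nat_lit 1937) .nil)) (nat_lit 1683) (nat_lit 227) (nat_lit 2468) (.node
  (.node (.node .nil (nat_lit 1684) (nat_lit 178) (nat_lit 2024) .nil) (nat_lit 1685) (nat_lit 131) (nat_lit
  1379) .nil) (nat_lit 1686) (nat_lit 131) (nat_lit 1825) (.node .nil (nat_lit 1687) (nat_lit 162) (nat_lit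
  1425) .nil)))) (nat_lit 1688) (nat_lit 161) (nat_lit 2043) (.node (.node (.node (.node (.node .nil (nat_lit
  1701) (nat_lit 132) (nat_lit 3116) .nil) (nat_lit 1703) (nat_lit 225) (nat_lit 3314) .nil) (nat_lit 1705)
  (nat_lit 225) (nat_lit 2018) (.node (.node .nil (nat_lit 1709) (nat_lit 192) (nat_lit 2052) .nil) (nat_lit
  1711) (nat_lit 212) (nat_lit 2146) .nil)) (nat_lit 1712) (nat_lit 160) (nat_lit 2057) (.node (.node (.node
  .nil (nat_lit 1713) (nat_lit 177) (nat_lit 3500) .nil) (nat_lit 1714) (nat_lit 180) (nat_lit 2871) .nil)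
  (nat_lit 1715) (nat_lit 196) (nat_lit 2979) (.node .nil (nat_lit 1716) (nat_lit 132) (nat_lit 3329) .nil)))
  (nat_lit 1718) (nat_lit 100) (nat_lit 3331) (.node (.node (.node (.node .nil (nat_lit 1719) (nat_lit 176)
  (nat_lit 1468) .nil) (nat_lit 1720) (nat_lit 272) (nat_lit 1450) .nil) (nat_lit 1721) (nat_lit 82) (nat_lit
  1504) (.node (.node .nil (nat_lit 1722) (nat_lit 129) (nat_lit 1514) .nil) (nat_lit 1723) (nat_lit 208)
  (nat_lit 1452) .nil)) (nat_lit 1724) (nat_lit 193) (nat_lit 2047) (.node (.node (.node .nil (nat_lit 1726)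
  (nat_lit 225) (nat_lit 1512) .nil) (nat_lit 1727) (nat_lit 192) (nat_lit 2075) .nil) (nat_lit 1735) (nat_lit
  244) (nat_lit 3379) (.node .nil (nat_lit 1742) (nat_lit 177) (nat_lit 2074) .nil)))))) (nat_lit 1744)
  (nat_lit 256) (nat_lit 2063) (.node (.node (.node (.node (.node (.node (.node .nil (nat_lit 1745) (nat_lit
  196) (nat_lit 3366) .nil) (nat_lit 1746) (nat_lit 193) (nat_lit 2113) .nil) (nat_lit 1747) (nat_lit 81)
  (nat_lit 3348) (.node (.node .nil (nat_lit 1754) (nat_lit 100) (nat_lit 2167) .nil) (nat_lit 1758) (nat_lit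
  164) (nat_lit 2961) .nil)) (nat_lit 1759) (nat_lit 132) (nat_lit 2949) (.node (.node (.node .nil (nat_lit
  1760) (nat_lit 208) (nat_lit 1478) .nil) (nat_lit 1762) (nat_lit 67) (nat_lit 542) .nil) (nat_lit 1763)
  (nat_lit 132) (nat_lit 2157) (.node (.node .nil (nat_lit 1764) (nat_lit 192) (nat_lit 1480) .nil) (nat_lit
  1765) (nat_lit 208) (nat_lit 1481) .nil))) (nat_lit 1766) (nat_lit 161) (nat_lit 3499) (.node (.node (.node
  (.node .nil (nat_lit 1771) (nat_lit 83) (nat_lit 1617) .nil) (nat_lit 1772) (nat_lit 147) (nat_lit 1171)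
  .nil) (nat_lit 1773) (nat_lit 257) (nat_lit 1094) (.node (.node .nil (nat_lit 1774) (nat_lit 114) (nat_lit
  2086) .nil) (nat_lit 1775) (nat_lit 100) (nat_lit 3353) .nil)) (nat_lit 1776) (nat_lit 180) (nat_lit 3332)
  (.node (.node (.node .nil (nat_lit 1777) (nat_lit 130) (nat_lit 2078) .nil) (nat_lit 1778) (nat_lit 51)
  (nat_lit 553) .nil) (nat_lit 1780) (nat_lit 227) (nat_lit 555) (.node .nil (nat_lit 1781) (nat_lit 209)
  (nat_lit 2051) .nil)))) (nat_lit 1788) (nat_lit 178) (nat_lit 2068) (.node (.node (.node (.node (.node .nil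
  (nat_lit 1789) (nat_lit 227) (nat_lit 2276) .nil) (nat_lit 1791) (nat_lit 176) (nat_lit 2162) .nil) (nat_lit
  1792) (nat_lit 180) (nat_lit 2714) (.node (.node .nil (nat_lit 1793) (nat_lit 180) (nat_lit 3158) .nil)
  (nat_lit 1794) (nat_lit 163) (nat_lit 1678) .nil)) (nat_lit 1796) (nat_lit 212) (nat_lit 3335) (.node (.node
  (.node .nil (nat_lit 1797) (nat_lit 212) (nat_lit 1445) .nil) (nat_lit 1798) (nat_lit 241) (nat_lit 2070)
  .nil) (nat_lit 1800) (nat_lit 212) (nat_lit 1540) (.node .nil (nat_lit 1801) (nat_lit 193) (nat_lit 3357)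
  .nil))) (nat_lit 1804) (nat_lit 193) (nat_lit 3356) (.node (.node (.node (.node .nil (nat_lit 1806) (nat_lit
  209) (nat_lit 1491) .nil) (nat_lit 1807) (nat_lit 179) (nat_lit 1569) .nil) (nat_lit 1808) (nat_lit 161)
  (nat_lit 3380) (.node (.node .nil (nat_lit 1818) (nat_lit 195) (nat_lit 2252) .nil) (nat_lit 1819) (nat_lit
  148) (nat_lit 2713) .nil)) (nat_lit 1820) (nat_lit 148) (nat_lit 3154) (.node (.node (.node .nil (nat_lit
  1822) (nat_lit 131) (nat_lit 2432) .nil) (nat_lit 1823) (nat_lit 212) (nat_lit 3233) .nil) (nat_lit 1824)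
  (nat_lit 180) (nat_lit 3131) (.node .nil (nat_lit 1825) (nat_lit 113) (nat_lit 3386) .nil))))) (nat_lit
  1826) (nat_lit 179) (nat_lit 2379) (.node (.node (.node (.node (.node (.node .nil (nat_lit 1827) (nat_lit
  210) (nat_lit 1526) .nil) (nat_lit 1828) (nat_lit 180) (nat_lit 2842) .nil) (nat_lit 1829) (nat_lit 112)
  (nat_lit 2200) (.node (.node .nil (nat_lit 1836) (nat_lit 178) (nat_lit 1537) .nil) (nat_lit 1857) (nat_lit
  49) (nat_lit 920) .nil)) (nat_lit 1861) (nat_lit 147) (nat_lit 2160) (.node (.node (.node .nil (nat_lit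
  1862) (nat_lit 242) (nat_lit 1559) .nil) (nat_lit 1863) (nat_lit 160) (nat_lit 2155) .nil) (nat_lit 1865)
  (nat_lit 180) (nat_lit 2874) (.node (.node .nil (nat_lit 1868) (nat_lit 228) (nat_lit 3374) .nil) (nat_lit
  1869) (nat_lit 114) (nat_lit 2244) .nil))) (nat_lit 1870) (nat_lit 131) (nat_lit 2099) (.node (.node (.node
  (.node .nil (nat_lit 1871) (nat_lit 276) (nat_lit 2363) .nil) (nat_lit 1872) (nat_lit 180) (nat_lit 1687)
  .nil) (nat_lit 1873) (nat_lit 148) (nat_lit 1686) (.node (.node .nil (nat_lit 1874) (nat_lit 177) (nat_lit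
  3420) .nil) (nat_lit 1880) (nat_lit 98) (nat_lit 2259) .nil)) (nat_lit 1883) (nat_lit 144) (nat_lit 2262)
  (.node (.node (.node .nil (nat_lit 1884) (nat_lit 180) (nat_lit 3283) .nil) (nat_lit 1885) (nat_lit 176)
  (nat_lit 1577) .nil) (nat_lit 1886) (nat_lit 161) (nat_lit 3036) (.node .nil (nat_lit 1892) (nat_lit 147)
  (nat_lit 1522) .nil)))) (nat_lit 1901) (nat_lit 164) (nat_lit 3241) (.node (.node (.node (.node (.node .nil
  (nat_lit 1902) (nat_lit 210) (nat_lit 1589) .nil) (nat_lit 1904) (nat_lit 178) (nat_lit 2257) .nil) (nat_lit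
  1905) (nat_lit 145) (nat_lit 3412) (.node (.node .nil (nat_lit 1906) (nat_lit 113) (nat_lit 3431) .nil)
  (nat_lit 1907) (nat_lit 178) (nat_lit 2293) .nil)) (nat_lit 1908) (nat_lit 212) (nat_lit 3488) (.node (.node
  (.node .nil (nat_lit 1916) (nat_lit 129) (nat_lit 3033) .nil) (nat_lit 1933) (nat_lit 275) (nat_lit 2858)
  .nil) (nat_lit 1934) (nat_lit 244) (nat_lit 1559) (.node .nil (nat_lit 1936) (nat_lit 228) (nat_lit 2354)
  .nil))) (nat_lit 1937) (nat_lit 82) (nat_lit 1613) (.node (.node (.node (.node .nil (nat_lit 1944) (nat_lit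
  226) (nat_lit 2349) .nil) (nat_lit 1945) (nat_lit 84) (nat_lit 2229) .nil) (nat_lit 1947) (nat_lit 193)
  (nat_lit 3359) (.node (.node .nil (nat_lit 1948) (nat_lit 210) (nat_lit 1618) .nil) (nat_lit 1956) (nat_lit
  228) (nat_lit 3312) .nil)) (nat_lit 1962) (nat_lit 180) (nat_lit 2379) (.node (.node (.node .nil (nat_lit
  1967) (nat_lit 243) (nat_lit 2062) .nil) (nat_lit 1969) (nat_lit 148) (nat_lit 2377) .nil) (nat_lit 1970)
  (nat_lit 115) (nat_lit 1679) (.node .nil (nat_lit 1972) (nat_lit 180) (nat_lit 3092) .nil)))))))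
def t3_3 : T := (.node (.node (.node (.node (.node (.node (.node (.node .nil (nat_lit 1976) (nat_lit 115)
  (nat_lit 2200) .nil) (nat_lit 1977) (nat_lit 146) (nat_lit 1639) .nil) (nat_lit 1979) (nat_lit 131) (nat_lit
  2114) (.node (.node .nil (nat_lit 1980) (nat_lit 130) (nat_lit 1642) .nil) (nat_lit 1981) (nat_lit 179)
  (nat_lit 2191) .nil)) (nat_lit 1982) (nat_lit 132) (nat_lit 2326) (.node (.node (.node .nil (nat_lit 1984)
  (nat_lit 145) (nat_lit 3437) .nil) (nat_lit 1986) (nat_lit 193) (nat_lit 3439) .nil) (nat_lit 1997) (nat_lit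
  196) (nat_lit 2574) (.node (.node .nil (nat_lit 2009) (nat_lit 115) (nat_lit 2860) .nil) (nat_lit 2010)
  (nat_lit 97) (nat_lit 1108) .nil))) (nat_lit 2011) (nat_lit 260) (nat_lit 1619) (.node (.node (.node (.node
  .nil (nat_lit 2013) (nat_lit 160) (nat_lit 1678) .nil) (nat_lit 2014) (nat_lit 129) (nat_lit 1077) .nil)
  (nat_lit 2018) (nat_lit 211) (nat_lit 1501) (.node (.node .nil (nat_lit 2021) (nat_lit 195) (nat_lit 2202)
  .nil) (nat_lit 2022) (nat_lit 242) (nat_lit 1683) .nil)) (nat_lit 2023) (nat_lit 162) (nat_lit 2429) (.node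
  (.node (.node .nil (nat_lit 2024) (nat_lit 163) (nat_lit 1645) .nil) (nat_lit 2025) (nat_lit 176) (nat_lit
  1688) .nil) (nat_lit 2026) (nat_lit 146) (nat_lit 1686) (.node .nil (nat_lit 2027) (nat_lit 211) (nat_lit
  1525) .nil)))) (nat_lit 2028) (nat_lit 145) (nat_lit 1701) (.node (.node (.node (.node (.node .nil (nat_lit
  2039) (nat_lit 116) (nat_lit 3306) .nil) (nat_lit 2043) (nat_lit 148) (nat_lit 3313) .nil) (nat_lit 2044)
  (nat_lit 225) (nat_lit 3424) (.node (.node .nil (nat_lit 2047) (nat_lit 180) (nat_lit 1794) .nil) (nat_lit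
  2051) (nat_lit 196) (nat_lit 1301) .nil)) (nat_lit 2052) (nat_lit 177) (nat_lit 3453) (.node (.node (.node
  .nil (nat_lit 2054) (nat_lit 225) (nat_lit 1797) .nil) (nat_lit 2055) (nat_lit 225) (nat_lit 1800) .nil)
  (nat_lit 2056) (nat_lit 209) (nat_lit 3468) (.node .nil (nat_lit 2057) (nat_lit 145) (nat_lit 3458) .nil)))
  (nat_lit 2058) (nat_lit 208) (nat_lit 1724) (.node (.node (.node (.node .nil (nat_lit 2060) (nat_lit 180)
  (nat_lit 3191) .nil) (nat_lit 2062) (nat_lit 224) (nat_lit 2468) .nil) (nat_lit 2063) (nat_lit 241) (nat_lit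
  1252) (.node (.node .nil (nat_lit 2064) (nat_lit 148) (nat_lit 3196) .nil) (nat_lit 2065) (nat_lit 212)
  (nat_lit 3215) .nil)) (nat_lit 2066) (nat_lit 84) (nat_lit 3201) (.node (.node (.node .nil (nat_lit 2067)
  (nat_lit 116) (nat_lit 3140) .nil) (nat_lit 2068) (nat_lit 163) (nat_lit 2791) .nil) (nat_lit 2069) (nat_lit
  228) (nat_lit 3221) (.node .nil (nat_lit 2070) (nat_lit 228) (nat_lit 1285) .nil))))) (nat_lit 2071)
  (nat_lit 66) (nat_lit 1778) (.node (.node (.node (.node (.node (.node .nil (nat_lit 2072) (nat_lit 148)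
  (nat_lit 2458) .nil) (nat_lit 2074) (nat_lit 163) (nat_lit 1969) .nil) (nat_lit 2075) (nat_lit 177) (nat_lit
  3172) (.node (.node .nil (nat_lit 2076) (nat_lit 211) (nat_lit 2801) .nil) (nat_lit 2078) (nat_lit 115)
  (nat_lit 2723) .nil)) (nat_lit 2086) (nat_lit 96) (nat_lit 2460) (.node (.node (.node .nil (nat_lit 2088)
  (nat_lit 82) (nat_lit 1762) .nil) (nat_lit 2096) (nat_lit 192) (nat_lit 1742) .nil) (nat_lit 2098) (nat_lit
  98) (nat_lit 1771) (.node (.node .nil (nat_lit 2099) (nat_lit 116) (nat_lit 2476) .nil) (nat_lit 2100)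
  (nat_lit 164) (nat_lit 2641) .nil))) (nat_lit 2101) (nat_lit 208) (nat_lit 1746) (.node (.node (.node (.node
  .nil (nat_lit 2110) (nat_lit 164) (nat_lit 3303) .nil) (nat_lit 2112) (nat_lit 242) (nat_lit 2506) .nil)
  (nat_lit 2113) (nat_lit 179) (nat_lit 1378) (.node (.node .nil (nat_lit 2114) (nat_lit 116) (nat_lit 2585)
  .nil) (nat_lit 2120) (nat_lit 257) (nat_lit 2588) .nil)) (nat_lit 2121) (nat_lit 240) (nat_lit 2536) (.node
  (.node (.node .nil (nat_lit 2122) (nat_lit 148) (nat_lit 3209) .nil) (nat_lit 2123) (nat_lit 148) (nat_lit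
  3198) .nil) (nat_lit 2124) (nat_lit 196) (nat_lit 2475) (.node .nil (nat_lit 2125) (nat_lit 177) (nat_lit
  2578) .nil)))) (nat_lit 2127) (nat_lit 51) (nat_lit 624) (.node (.node (.node (.node (.node .nil (nat_lit
  2129) (nat_lit 129) (nat_lit 3227) .nil) (nat_lit 2130) (nat_lit 209) (nat_lit 3454) .nil) (nat_lit 2134)
  (nat_lit 241) (nat_lit 1868) (.node (.node .nil (nat_lit 2135) (nat_lit 209) (nat_lit 1745) .nil) (nat_lit
  2136) (nat_lit 99) (nat_lit 1421) .nil)) (nat_lit 2137) (nat_lit 192) (nat_lit 2551) (.node (.node (.node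
  .nil (nat_lit 2139) (nat_lit 98) (nat_lit 2460) .nil) (nat_lit 2140) (nat_lit 194) (nat_lit 2473) .nil)
  (nat_lit 2141) (nat_lit 177) (nat_lit 3158) (.node .nil (nat_lit 2142) (nat_lit 146) (nat_lit 2471) .nil)))
  (nat_lit 2145) (nat_lit 163) (nat_lit 632) (.node (.node (.node (.node .nil (nat_lit 2146) (nat_lit 194)
  (nat_lit 2459) .nil) (nat_lit 2155) (nat_lit 145) (nat_lit 2471) .nil) (nat_lit 2156) (nat_lit 114) (nat_lit
  2472) (.node (.node .nil (nat_lit 2157) (nat_lit 113) (nat_lit 2472) .nil) (nat_lit 2158) (nat_lit 164)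
  (nat_lit 2312) .nil)) (nat_lit 2159) (nat_lit 211) (nat_lit 2653) (.node (.node (.node .nil (nat_lit 2160)
  (nat_lit 128) (nat_lit 2576) .nil) (nat_lit 2161) (nat_lit 132) (nat_lit 2392) .nil) (nat_lit 2162) (nat_lit
  161) (nat_lit 2577) (.node .nil (nat_lit 2163) (nat_lit 194) (nat_lit 1791) .nil)))))) (nat_lit 2164)
  (nat_lit 179) (nat_lit 2013) (.node (.node (.node (.node (.node (.node (.node .nil (nat_lit 2165) (nat_lit
  161) (nat_lit 2575) .nil) (nat_lit 2166) (nat_lit 164) (nat_lit 3052) .nil) (nat_lit 2167) (nat_lit 81)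
  (nat_lit 1762) (.node (.node .nil (nat_lit 2168) (nat_lit 196) (nat_lit 1713) .nil) (nat_lit 2169) (nat_lit
  244) (nat_lit 2463) .nil)) (nat_lit 2170) (nat_lit 196) (nat_lit 1836) (.node (.node (.node .nil (nat_lit
  2172) (nat_lit 131) (nat_lit 650) .nil) (nat_lit 2174) (nat_lit 65) (nat_lit 1778) .nil) (nat_lit 2175)
  (nat_lit 195) (nat_lit 1872) (.node (.node .nil (nat_lit 2178) (nat_lit 114) (nat_lit 2446) .nil) (nat_lit
  2188) (nat_lit 128) (nat_lit 2607) .nil))) (nat_lit 2189) (nat_lit 211) (nat_lit 2660) (.node (.node (.node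
  (.node .nil (nat_lit 2190) (nat_lit 195) (nat_lit 2511) .nil) (nat_lit 2191) (nat_lit 161) (nat_lit 2580)
  .nil) (nat_lit 2192) (nat_lit 164) (nat_lit 3053) (.node (.node .nil (nat_lit 2194) (nat_lit 147) (nat_lit
  2829) .nil) (nat_lit 2195) (nat_lit 147) (nat_lit 2831) .nil)) (nat_lit 2196) (nat_lit 177) (nat_lit 2618)
  (.node (.node (.node .nil (nat_lit 2197) (nat_lit 100) (nat_lit 983) .nil) (nat_lit 2198) (nat_lit 196)
  (nat_lit 3026) .nil) (nat_lit 2199) (nat_lit 164) (nat_lit 3141) (.node .nil (nat_lit 2200) (nat_lit 97)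
  (nat_lit 3220) .nil)))) (nat_lit 2201) (nat_lit 177) (nat_lit 3150) (.node (.node (.node (.node (.node .nil
  (nat_lit 2202) (nat_lit 177) (nat_lit 1758) .nil) (nat_lit 2226) (nat_lit 259) (nat_lit 2505) .nil) (nat_lit
  2228) (nat_lit 148) (nat_lit 2816) (.node (.node .nil (nat_lit 2229) (nat_lit 66) (nat_lit 1857) .nil)
  (nat_lit 2233) (nat_lit 226) (nat_lit 2650) .nil)) (nat_lit 2235) (nat_lit 259) (nat_lit 2553) (.node (.node
  (.node .nil (nat_lit 2236) (nat_lit 131) (nat_lit 2576) .nil) (nat_lit 2237) (nat_lit 162) (nat_lit 1861)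
  .nil) (nat_lit 2238) (nat_lit 178) (nat_lit 1863) (.node .nil (nat_lit 2239) (nat_lit 164) (nat_lit 3145)
  .nil))) (nat_lit 2240) (nat_lit 180) (nat_lit 2534) (.node (.node (.node (.node .nil (nat_lit 2241) (nat_lit
  180) (nat_lit 3378) .nil) (nat_lit 2243) (nat_lit 209) (nat_lit 842) .nil) (nat_lit 2244) (nat_lit 99)
  (nat_lit 1945) (.node (.node .nil (nat_lit 2245) (nat_lit 147) (nat_lit 2507) .nil) (nat_lit 2246) (nat_lit
  146) (nat_lit 1870) .nil)) (nat_lit 2247) (nat_lit 163) (nat_lit 1819) (.node (.node (.node .nil (nat_lit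
  2248) (nat_lit 164) (nat_lit 1425) .nil) (nat_lit 2249) (nat_lit 194) (nat_lit 1874) .nil) (nat_lit 2252)
  (nat_lit 178) (nat_lit 2665) (.node .nil (nat_lit 2256) (nat_lit 212) (nat_lit 3440) .nil))))) (nat_lit
  2257) (nat_lit 161) (nat_lit 2664) (.node (.node (.node (.node (.node (.node .nil (nat_lit 2258) (nat_lit
  82) (nat_lit 2674) .nil) (nat_lit 2259) (nat_lit 83) (nat_lit 612) .nil) (nat_lit 2262) (nat_lit 129)
  (nat_lit 3484) (.node (.node .nil (nat_lit 2263) (nat_lit 162) (nat_lit 1905) .nil) (nat_lit 2264) (nat_lit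
  177) (nat_lit 3492) .nil)) (nat_lit 2265) (nat_lit 176) (nat_lit 1886) (.node (.node (.node .nil (nat_lit
  2273) (nat_lit 193) (nat_lit 2724) .nil) (nat_lit 2276) (nat_lit 210) (nat_lit 2695) .nil) (nat_lit 2277)
  (nat_lit 162) (nat_lit 1892) (.node (.node .nil (nat_lit 2287) (nat_lit 147) (nat_lit 642) .nil) (nat_lit
  2288) (nat_lit 148) (nat_lit 3384) .nil))) (nat_lit 2289) (nat_lit 226) (nat_lit 2027) (.node (.node (.node
  (.node .nil (nat_lit 2290) (nat_lit 194) (nat_lit 2671) .nil) (nat_lit 2291) (nat_lit 196) (nat_lit 3231)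
  .nil) (nat_lit 2292) (nat_lit 177) (nat_lit 3491) (.node (.node .nil (nat_lit 2293) (nat_lit 161) (nat_lit
  3485) .nil) (nat_lit 2296) (nat_lit 99) (nat_lit 2467) .nil)) (nat_lit 2302) (nat_lit 228) (nat_lit 2159)
  (.node (.node (.node .nil (nat_lit 2307) (nat_lit 194) (nat_lit 2720) .nil) (nat_lit 2310) (nat_lit 180)
  (nat_lit 2964) .nil) (nat_lit 2311) (nat_lit 180) (nat_lit 2162) (.node .nil (nat_lit 2312) (nat_lit 144)
  (nat_lit 1916) .nil)))) (nat_lit 2313) (nat_lit 146) (nat_lit 1916) (.node (.node (.node (.node (.node .nil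
  (nat_lit 2326) (nat_lit 115) (nat_lit 2476) .nil) (nat_lit 2327) (nat_lit 275) (nat_lit 2011) .nil) (nat_lit
  2328) (nat_lit 211) (nat_lit 2524) (.node (.node .nil (nat_lit 2329) (nat_lit 260) (nat_lit 1862) .nil)
  (nat_lit 2334) (nat_lit 228) (nat_lit 1948) .nil)) (nat_lit 2335) (nat_lit 212) (nat_lit 1947) (.node (.node
  (.node .nil (nat_lit 2347) (nat_lit 162) (nat_lit 2664) .nil) (nat_lit 2348) (nat_lit 226) (nat_lit 2756)
  .nil) (nat_lit 2349) (nat_lit 211) (nat_lit 2606) (.node .nil (nat_lit 2353) (nat_lit 129) (nat_lit 3467)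
  .nil))) (nat_lit 2354) (nat_lit 210) (nat_lit 1947) (.node (.node (.node (.node .nil (nat_lit 2356) (nat_lit
  244) (nat_lit 3436) .nil) (nat_lit 2357) (nat_lit 196) (nat_lit 1981) .nil) (nat_lit 2361) (nat_lit 164)
  (nat_lit 2783) (.node (.node .nil (nat_lit 2362) (nat_lit 163) (nat_lit 2448) .nil) (nat_lit 2363) (nat_lit
  258) (nat_lit 1967) .nil)) (nat_lit 2367) (nat_lit 164) (nat_lit 1977) (.node (.node (.node .nil (nat_lit
  2368) (nat_lit 132) (nat_lit 1976) .nil) (nat_lit 2372) (nat_lit 196) (nat_lit 2765) .nil) (nat_lit 2373)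
  (nat_lit 164) (nat_lit 2764) (.node .nil (nat_lit 2376) (nat_lit 194) (nat_lit 2780) .nil)))))))
def t3_4 : T := (.node (.node (.node (.node (.node (.node (.node (.node .nil (nat_lit 2379) (nat_lit 162)
  (nat_lit 2783) .nil) (nat_lit 2380) (nat_lit 146) (nat_lit 1979) .nil) (nat_lit 2381) (nat_lit 145) (nat_lit
  3313) (.node (.node .nil (nat_lit 2382) (nat_lit 194) (nat_lit 1981) .nil) (nat_lit 2384) (nat_lit 129)
  (nat_lit 3477) .nil)) (nat_lit 2390) (nat_lit 112) (nat_lit 2723) (.node (.node (.node .nil (nat_lit 2392)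
  (nat_lit 114) (nat_lit 2793) .nil) (nat_lit 2393) (nat_lit 195) (nat_lit 3251) .nil) (nat_lit 2401) (nat_lit
  176) (nat_lit 2769) (.node (.node .nil (nat_lit 2409) (nat_lit 225) (nat_lit 1032) .nil) (nat_lit 2410)
  (nat_lit 99) (nat_lit 1937) .nil))) (nat_lit 2412) (nat_lit 112) (nat_lit 2010) (.node (.node (.node (.node
  .nil (nat_lit 2413) (nat_lit 114) (nat_lit 2010) .nil) (nat_lit 2417) (nat_lit 195) (nat_lit 1792) .nil)
  (nat_lit 2418) (nat_lit 144) (nat_lit 2014) (.node (.node .nil (nat_lit 2421) (nat_lit 160) (nat_lit 2820)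
  .nil) (nat_lit 2422) (nat_lit 212) (nat_lit 3430) .nil)) (nat_lit 2426) (nat_lit 193) (nat_lit 2780) (.node
  (.node (.node .nil (nat_lit 2427) (nat_lit 210) (nat_lit 2021) .nil) (nat_lit 2428) (nat_lit 163) (nat_lit
  2612) .nil) (nat_lit 2429) (nat_lit 147) (nat_lit 1982) (.node .nil (nat_lit 2430) (nat_lit 227) (nat_lit
  1823) .nil)))) (nat_lit 2431) (nat_lit 160) (nat_lit 2028) (.node (.node (.node (.node (.node .nil (nat_lit
  2432) (nat_lit 114) (nat_lit 2700) .nil) (nat_lit 2434) (nat_lit 113) (nat_lit 1274) .nil) (nat_lit 2443)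
  (nat_lit 132) (nat_lit 3428) (.node (.node .nil (nat_lit 2446) (nat_lit 99) (nat_lit 3030) .nil) (nat_lit
  2448) (nat_lit 144) (nat_lit 2843) .nil)) (nat_lit 2449) (nat_lit 196) (nat_lit 2164) (.node (.node (.node
  .nil (nat_lit 2455) (nat_lit 178) (nat_lit 2145) .nil) (nat_lit 2456) (nat_lit 180) (nat_lit 1537) .nil)
  (nat_lit 2457) (nat_lit 132) (nat_lit 3327) (.node .nil (nat_lit 2458) (nat_lit 130) (nat_lit 2157) .nil)))
  (nat_lit 2459) (nat_lit 177) (nat_lit 2145) (.node (.node (.node (.node .nil (nat_lit 2460) (nat_lit 81)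
  (nat_lit 1504) .nil) (nat_lit 2461) (nat_lit 228) (nat_lit 2130) .nil) (nat_lit 2463) (nat_lit 226) (nat_lit
  2130) (.node (.node .nil (nat_lit 2464) (nat_lit 145) (nat_lit 3400) .nil) (nat_lit 2465) (nat_lit 114)
  (nat_lit 2136) .nil)) (nat_lit 2467) (nat_lit 82) (nat_lit 2174) (.node (.node (.node .nil (nat_lit 2468)
  (nat_lit 209) (nat_lit 1487) .nil) (nat_lit 2469) (nat_lit 162) (nat_lit 2155) .nil) (nat_lit 2470) (nat_lit
  258) (nat_lit 2121) (.node .nil (nat_lit 2471) (nat_lit 131) (nat_lit 2390) .nil))))) (nat_lit 2472)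
  (nat_lit 99) (nat_lit 2987) (.node (.node (.node (.node (.node (.node .nil (nat_lit 2473) (nat_lit 179)
  (nat_lit 3024) .nil) (nat_lit 2474) (nat_lit 212) (nat_lit 1516) .nil) (nat_lit 2475) (nat_lit 177) (nat_lit
  2842) (.node (.node .nil (nat_lit 2476) (nat_lit 98) (nat_lit 2167) .nil) (nat_lit 2477) (nat_lit 179)
  (nat_lit 2367) .nil)) (nat_lit 2478) (nat_lit 148) (nat_lit 3010) (.node (.node (.node .nil (nat_lit 2479)
  (nat_lit 180) (nat_lit 2726) .nil) (nat_lit 2480) (nat_lit 195) (nat_lit 3091) .nil) (nat_lit 2482) (nat_lit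
  210) (nat_lit 2137) (.node (.node .nil (nat_lit 2483) (nat_lit 193) (nat_lit 2935) .nil) (nat_lit 2484)
  (nat_lit 196) (nat_lit 2125) .nil))) (nat_lit 2496) (nat_lit 257) (nat_lit 2865) (.node (.node (.node (.node
  .nil (nat_lit 2499) (nat_lit 66) (nat_lit 2127) .nil) (nat_lit 2505) (nat_lit 241) (nat_lit 1565) .nil)
  (nat_lit 2506) (nat_lit 227) (nat_lit 2243) (.node (.node .nil (nat_lit 2507) (nat_lit 132) (nat_lit 2866)
  .nil) (nat_lit 2511) (nat_lit 180) (nat_lit 3094) .nil)) (nat_lit 2518) (nat_lit 178) (nat_lit 2905) (.node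
  (.node (.node .nil (nat_lit 2520) (nat_lit 146) (nat_lit 2903) .nil) (nat_lit 2521) (nat_lit 210) (nat_lit
  2907) .nil) (nat_lit 2522) (nat_lit 180) (nat_lit 3109) (.node .nil (nat_lit 2524) (nat_lit 193) (nat_lit
  2240) .nil)))) (nat_lit 2525) (nat_lit 177) (nat_lit 2100) (.node (.node (.node (.node (.node .nil (nat_lit
  2526) (nat_lit 243) (nat_lit 2348) .nil) (nat_lit 2527) (nat_lit 163) (nat_lit 1644) .nil) (nat_lit 2531)
  (nat_lit 226) (nat_lit 2912) (.node (.node .nil (nat_lit 2534) (nat_lit 161) (nat_lit 2961) .nil) (nat_lit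
  2535) (nat_lit 272) (nat_lit 2120) .nil)) (nat_lit 2536) (nat_lit 225) (nat_lit 2958) (.node (.node (.node
  .nil (nat_lit 2537) (nat_lit 98) (nat_lit 2863) .nil) (nat_lit 2538) (nat_lit 196) (nat_lit 1791) .nil)
  (nat_lit 2539) (nat_lit 212) (nat_lit 2856) (.node .nil (nat_lit 2540) (nat_lit 192) (nat_lit 2125) .nil)))
  (nat_lit 2542) (nat_lit 193) (nat_lit 3375) (.node (.node (.node (.node .nil (nat_lit 2546) (nat_lit 162)
  (nat_lit 2873) .nil) (nat_lit 2547) (nat_lit 80) (nat_lit 2174) .nil) (nat_lit 2549) (nat_lit 244) (nat_lit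
  3419) (.node (.node .nil (nat_lit 2550) (nat_lit 211) (nat_lit 2124) .nil) (nat_lit 2551) (nat_lit 177)
  (nat_lit 2068) .nil)) (nat_lit 2553) (nat_lit 241) (nat_lit 2960) (.node (.node (.node .nil (nat_lit 2554)
  (nat_lit 225) (nat_lit 2877) .nil) (nat_lit 2555) (nat_lit 161) (nat_lit 3048) .nil) (nat_lit 2556) (nat_lit
  210) (nat_lit 2850) (.node .nil (nat_lit 2557) (nat_lit 196) (nat_lit 1480) .nil)))))) (nat_lit 2559)
  (nat_lit 147) (nat_lit 682) (.node (.node (.node (.node (.node (.node (.node .nil (nat_lit 2566) (nat_lit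
  163) (nat_lit 685) .nil) (nat_lit 2570) (nat_lit 210) (nat_lit 2859) .nil) (nat_lit 2571) (nat_lit 209)
  (nat_lit 2124) (.node (.node .nil (nat_lit 2572) (nat_lit 98) (nat_lit 2862) .nil) (nat_lit 2573) (nat_lit
  113) (nat_lit 3418) .nil)) (nat_lit 2574) (nat_lit 179) (nat_lit 3022) (.node (.node (.node .nil (nat_lit
  2575) (nat_lit 148) (nat_lit 1916) .nil) (nat_lit 2576) (nat_lit 113) (nat_lit 2976) .nil) (nat_lit 2577)
  (nat_lit 147) (nat_lit 2353) (.node (.node .nil (nat_lit 2578) (nat_lit 163) (nat_lit 2228) .nil) (nat_lit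
  2580) (nat_lit 148) (nat_lit 2687) .nil))) (nat_lit 2581) (nat_lit 116) (nat_lit 2793) (.node (.node (.node
  (.node .nil (nat_lit 2582) (nat_lit 163) (nat_lit 3124) .nil) (nat_lit 2583) (nat_lit 195) (nat_lit 3086)
  .nil) (nat_lit 2584) (nat_lit 178) (nat_lit 2162) (.node (.node .nil (nat_lit 2585) (nat_lit 96) (nat_lit
  2167) .nil) (nat_lit 2586) (nat_lit 225) (nat_lit 3011) .nil)) (nat_lit 2587) (nat_lit 177) (nat_lit 2870)
  (.node (.node (.node .nil (nat_lit 2588) (nat_lit 243) (nat_lit 2409) .nil) (nat_lit 2590) (nat_lit 164)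
  (nat_lit 2381) .nil) (nat_lit 2591) (nat_lit 146) (nat_lit 2172) (.node .nil (nat_lit 2595) (nat_lit 211)
  (nat_lit 2853) .nil)))) (nat_lit 2597) (nat_lit 98) (nat_lit 2840) (.node (.node (.node (.node (.node .nil
  (nat_lit 2606) (nat_lit 193) (nat_lit 924) .nil) (nat_lit 2607) (nat_lit 113) (nat_lit 2197) .nil) (nat_lit
  2608) (nat_lit 112) (nat_lit 2995) (.node (.node .nil (nat_lit 2609) (nat_lit 84) (nat_lit 1125) .nil)
  (nat_lit 2610) (nat_lit 161) (nat_lit 2194) .nil)) (nat_lit 2611) (nat_lit 211) (nat_lit 2908) (.node (.node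
  (.node .nil (nat_lit 2612) (nat_lit 145) (nat_lit 2974) .nil) (nat_lit 2616) (nat_lit 209) (nat_lit 2198)
  .nil) (nat_lit 2617) (nat_lit 225) (nat_lit 2189) (.node .nil (nat_lit 2618) (nat_lit 163) (nat_lit 3096)
  .nil))) (nat_lit 2619) (nat_lit 177) (nat_lit 2977) (.node (.node (.node (.node .nil (nat_lit 2636) (nat_lit
  193) (nat_lit 921) .nil) (nat_lit 2637) (nat_lit 275) (nat_lit 2329) .nil) (nat_lit 2641) (nat_lit 144)
  (nat_lit 3010) (.node (.node .nil (nat_lit 2642) (nat_lit 132) (nat_lit 2413) .nil) (nat_lit 2643) (nat_lit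
  132) (nat_lit 2412) .nil)) (nat_lit 2646) (nat_lit 196) (nat_lit 1292) (.node (.node (.node .nil (nat_lit
  2649) (nat_lit 129) (nat_lit 2078) .nil) (nat_lit 2650) (nat_lit 208) (nat_lit 2859) .nil) (nat_lit 2651)
  (nat_lit 273) (nat_lit 3368) (.node .nil (nat_lit 2652) (nat_lit 257) (nat_lit 2925) .nil))))) (nat_lit
  2653) (nat_lit 194) (nat_lit 3017) (.node (.node (.node (.node (.node (.node .nil (nat_lit 2654) (nat_lit
  146) (nat_lit 2236) .nil) (nat_lit 2655) (nat_lit 164) (nat_lit 2933) .nil) (nat_lit 2656) (nat_lit 164)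
  (nat_lit 3451) (.node (.node .nil (nat_lit 2657) (nat_lit 210) (nat_lit 2992) .nil) (nat_lit 2658) (nat_lit
  178) (nat_lit 3019) .nil)) (nat_lit 2659) (nat_lit 162) (nat_lit 2245) (.node (.node (.node .nil (nat_lit
  2660) (nat_lit 194) (nat_lit 3021) .nil) (nat_lit 2661) (nat_lit 178) (nat_lit 2247) .nil) (nat_lit 2664)
  (nat_lit 147) (nat_lit 2188) (.node (.node .nil (nat_lit 2665) (nat_lit 161) (nat_lit 2287) .nil) (nat_lit
  2669) (nat_lit 162) (nat_lit 2287) .nil))) (nat_lit 2670) (nat_lit 228) (nat_lit 3490) (.node (.node (.node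
  (.node .nil (nat_lit 2671) (nat_lit 176) (nat_lit 2257) .nil) (nat_lit 2673) (nat_lit 209) (nat_lit 3430)
  .nil) (nat_lit 2674) (nat_lit 67) (nat_lit 666) (.node (.node .nil (nat_lit 2676) (nat_lit 177) (nat_lit
  3501) .nil) (nat_lit 2677) (nat_lit 212) (nat_lit 2978) .nil)) (nat_lit 2678) (nat_lit 193) (nat_lit 3429)
  (.node (.node (.node .nil (nat_lit 2683) (nat_lit 68) (nat_lit 981) .nil) (nat_lit 2687) (nat_lit 130)
  (nat_lit 3031) .nil) (nat_lit 2689) (nat_lit 130) (nat_lit 3033) (.node .nil (nat_lit 2690) (nat_lit 129)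
  (nat_lit 3031) .nil)))) (nat_lit 2691) (nat_lit 208) (nat_lit 2273) (.node (.node (.node (.node (.node .nil
  (nat_lit 2692) (nat_lit 193) (nat_lit 2310) .nil) (nat_lit 2694) (nat_lit 179) (nat_lit 2158) .nil) (nat_lit
  2695) (nat_lit 192) (nat_lit 3017) (.node (.node .nil (nat_lit 2700) (nat_lit 97) (nat_lit 2259) .nil)
  (nat_lit 2701) (nat_lit 242) (nat_lit 2430) .nil)) (nat_lit 2707) (nat_lit 146) (nat_lit 3046) (.node (.node
  (.node .nil (nat_lit 2708) (nat_lit 83) (nat_lit 2229) .nil) (nat_lit 2709) (nat_lit 131) (nat_lit 2949)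
  .nil) (nat_lit 2712) (nat_lit 228) (nat_lit 1827) (.node .nil (nat_lit 2713) (nat_lit 128) (nat_lit 2939)
  .nil))) (nat_lit 2714) (nat_lit 163) (nat_lit 2940) (.node (.node (.node (.node .nil (nat_lit 2715) (nat_lit
  244) (nat_lit 1789) .nil) (nat_lit 2716) (nat_lit 212) (nat_lit 2480) .nil) (nat_lit 2719) (nat_lit 210)
  (nat_lit 3056) (.node (.node .nil (nat_lit 2720) (nat_lit 179) (nat_lit 3099) .nil) (nat_lit 2723) (nat_lit
  97) (nat_lit 3030) .nil)) (nat_lit 2724) (nat_lit 179) (nat_lit 3102) (.node (.node (.node .nil (nat_lit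
  2725) (nat_lit 196) (nat_lit 2584) .nil) (nat_lit 2726) (nat_lit 162) (nat_lit 2312) .nil) (nat_lit 2733)
  (nat_lit 131) (nat_lit 2866) (.node .nil (nat_lit 2734) (nat_lit 131) (nat_lit 2413) .nil)))))))
def t3_5 : T := (.node (.node (.node (.node (.node (.node (.node (.node .nil (nat_lit 2736) (nat_lit 211)
  (nat_lit 2927) .nil) (nat_lit 2737) (nat_lit 226) (nat_lit 2328) .nil) (nat_lit 2747) (nat_lit 96) (nat_lit
  3078) (.node (.node .nil (nat_lit 2748) (nat_lit 212) (nat_lit 1618) .nil) (nat_lit 2754) (nat_lit 146)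
  (nat_lit 3020) .nil)) (nat_lit 2755) (nat_lit 179) (nat_lit 2165) (.node (.node (.node .nil (nat_lit 2756)
  (nat_lit 209) (nat_lit 3358) .nil) (nat_lit 2759) (nat_lit 196) (nat_lit 2292) .nil) (nat_lit 2760) (nat_lit
  113) (nat_lit 3355) (.node (.node .nil (nat_lit 2762) (nat_lit 212) (nat_lit 2382) .nil) (nat_lit 2763)
  (nat_lit 241) (nat_lit 3054) .nil))) (nat_lit 2764) (nat_lit 147) (nat_lit 2843) (.node (.node (.node (.node
  .nil (nat_lit 2765) (nat_lit 178) (nat_lit 2362) .nil) (nat_lit 2769) (nat_lit 161) (nat_lit 2429) .nil)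
  (nat_lit 2770) (nat_lit 148) (nat_lit 1639) (.node (.node .nil (nat_lit 2775) (nat_lit 179) (nat_lit 2192)
  .nil) (nat_lit 2776) (nat_lit 180) (nat_lit 2362) .nil)) (nat_lit 2777) (nat_lit 178) (nat_lit 2916) (.node
  (.node (.node .nil (nat_lit 2779) (nat_lit 211) (nat_lit 2198) .nil) (nat_lit 2780) (nat_lit 179) (nat_lit
  2431) .nil) (nat_lit 2782) (nat_lit 115) (nat_lit 2197) (.node .nil (nat_lit 2783) (nat_lit 145) (nat_lit
  3393) .nil)))) (nat_lit 2784) (nat_lit 228) (nat_lit 2930) (.node (.node (.node (.node (.node .nil (nat_lit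
  2785) (nat_lit 129) (nat_lit 3116) .nil) (nat_lit 2787) (nat_lit 177) (nat_lit 3102) .nil) (nat_lit 2790)
  (nat_lit 211) (nat_lit 2854) (.node (.node .nil (nat_lit 2791) (nat_lit 148) (nat_lit 1822) .nil) (nat_lit
  2792) (nat_lit 96) (nat_lit 3060) .nil)) (nat_lit 2793) (nat_lit 99) (nat_lit 3060) (.node (.node (.node
  .nil (nat_lit 2798) (nat_lit 178) (nat_lit 3109) .nil) (nat_lit 2801) (nat_lit 194) (nat_lit 2915) .nil)
  (nat_lit 2802) (nat_lit 194) (nat_lit 2401) (.node .nil (nat_lit 2805) (nat_lit 129) (nat_lit 1099) .nil)))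
  (nat_lit 2809) (nat_lit 228) (nat_lit 2963) (.node (.node (.node (.node .nil (nat_lit 2810) (nat_lit 209)
  (nat_lit 1192) .nil) (nat_lit 2815) (nat_lit 241) (nat_lit 2981) .nil) (nat_lit 2816) (nat_lit 130) (nat_lit
  2412) (.node (.node .nil (nat_lit 2820) (nat_lit 145) (nat_lit 3397) .nil) (nat_lit 2821) (nat_lit 196)
  (nat_lit 3311) .nil)) (nat_lit 2822) (nat_lit 147) (nat_lit 2161) (.node (.node (.node .nil (nat_lit 2823)
  (nat_lit 144) (nat_lit 3127) .nil) (nat_lit 2825) (nat_lit 146) (nat_lit 3130) .nil) (nat_lit 2826) (nat_lit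
  210) (nat_lit 2426) (.node .nil (nat_lit 2827) (nat_lit 161) (nat_lit 3067) .nil))))) (nat_lit 2828)
  (nat_lit 178) (nat_lit 2428) (.node (.node (.node (.node (.node (.node .nil (nat_lit 2829) (nat_lit 130)
  (nat_lit 2955) .nil) (nat_lit 2830) (nat_lit 128) (nat_lit 2434) .nil) (nat_lit 2831) (nat_lit 130) (nat_lit
  2434) (.node (.node .nil (nat_lit 2836) (nat_lit 211) (nat_lit 2692) .nil) (nat_lit 2838) (nat_lit 257)
  (nat_lit 2715) .nil)) (nat_lit 2839) (nat_lit 195) (nat_lit 3255) (.node (.node (.node .nil (nat_lit 2840)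
  (nat_lit 83) (nat_lit 3235) .nil) (nat_lit 2842) (nat_lit 163) (nat_lit 2707) .nil) (nat_lit 2843) (nat_lit
  129) (nat_lit 3228) (.node (.node .nil (nat_lit 2847) (nat_lit 177) (nat_lit 3290) .nil) (nat_lit 2850)
  (nat_lit 195) (nat_lit 2787) .nil))) (nat_lit 2851) (nat_lit 162) (nat_lit 2559) (.node (.node (.node (.node
  .nil (nat_lit 2852) (nat_lit 242) (nat_lit 2536) .nil) (nat_lit 2853) (nat_lit 196) (nat_lit 1742) .nil)
  (nat_lit 2854) (nat_lit 194) (nat_lit 2551) (.node (.node .nil (nat_lit 2855) (nat_lit 129) (nat_lit 3472)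
  .nil) (nat_lit 2856) (nat_lit 193) (nat_lit 3446) .nil)) (nat_lit 2858) (nat_lit 260) (nat_lit 3270) (.node
  (.node (.node .nil (nat_lit 2859) (nat_lit 193) (nat_lit 2473) .nil) (nat_lit 2860) (nat_lit 98) (nat_lit
  2547) .nil) (nat_lit 2861) (nat_lit 212) (nat_lit 1746) (.node .nil (nat_lit 2862) (nat_lit 83) (nat_lit
  3234) .nil)))) (nat_lit 2863) (nat_lit 83) (nat_lit 2683) (.node (.node (.node (.node (.node .nil (nat_lit
  2864) (nat_lit 273) (nat_lit 3171) .nil) (nat_lit 2865) (nat_lit 244) (nat_lit 2506) .nil) (nat_lit 2866)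
  (nat_lit 114) (nat_lit 2585) (.node (.node .nil (nat_lit 2867) (nat_lit 227) (nat_lit 2657) .nil) (nat_lit
  2869) (nat_lit 179) (nat_lit 3181) .nil)) (nat_lit 2870) (nat_lit 164) (nat_lit 2313) (.node (.node (.node
  .nil (nat_lit 2871) (nat_lit 162) (nat_lit 2577) .nil) (nat_lit 2873) (nat_lit 144) (nat_lit 2649) .nil)
  (nat_lit 2874) (nat_lit 160) (nat_lit 3145) (.node .nil (nat_lit 2875) (nat_lit 209) (nat_lit 2538) .nil)))
  (nat_lit 2876) (nat_lit 177) (nat_lit 3271) (.node (.node (.node (.node .nil (nat_lit 2877) (nat_lit 212)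
  (nat_lit 2163) .nil) (nat_lit 2878) (nat_lit 212) (nat_lit 2540) .nil) (nat_lit 2887) (nat_lit 147) (nat_lit
  3279) (.node (.node .nil (nat_lit 2892) (nat_lit 227) (nat_lit 2616) .nil) (nat_lit 2897) (nat_lit 178)
  (nat_lit 2566) .nil)) (nat_lit 2902) (nat_lit 193) (nat_lit 1865) (.node (.node (.node .nil (nat_lit 2903)
  (nat_lit 131) (nat_lit 2608) .nil) (nat_lit 2905) (nat_lit 163) (nat_lit 1820) .nil) (nat_lit 2907) (nat_lit
  195) (nat_lit 1824) (.node .nil (nat_lit 2908) (nat_lit 196) (nat_lit 2798) .nil)))))) (nat_lit 2912)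
  (nat_lit 209) (nat_lit 3456) (.node (.node (.node (.node (.node (.node (.node .nil (nat_lit 2915) (nat_lit
  176) (nat_lit 3184) .nil) (nat_lit 2916) (nat_lit 163) (nat_lit 2028) .nil) (nat_lit 2917) (nat_lit 194)
  (nat_lit 2775) (.node (.node .nil (nat_lit 2919) (nat_lit 148) (nat_lit 2830) .nil) (nat_lit 2920) (nat_lit
  130) (nat_lit 3149) .nil)) (nat_lit 2921) (nat_lit 226) (nat_lit 2779) (.node (.node (.node .nil (nat_lit
  2922) (nat_lit 130) (nat_lit 2782) .nil) (nat_lit 2923) (nat_lit 145) (nat_lit 2733) .nil) (nat_lit 2925)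
  (nat_lit 243) (nat_lit 2554) (.node (.node .nil (nat_lit 2927) (nat_lit 196) (nat_lit 2619) .nil) (nat_lit
  2928) (nat_lit 177) (nat_lit 2582) .nil))) (nat_lit 2930) (nat_lit 209) (nat_lit 3287) (.node (.node (.node
  (.node .nil (nat_lit 2933) (nat_lit 145) (nat_lit 3196) .nil) (nat_lit 2934) (nat_lit 82) (nat_lit 3143)
  .nil) (nat_lit 2935) (nat_lit 179) (nat_lit 2546) (.node (.node .nil (nat_lit 2936) (nat_lit 131) (nat_lit
  2573) .nil) (nat_lit 2937) (nat_lit 212) (nat_lit 1764) .nil)) (nat_lit 2939) (nat_lit 113) (nat_lit 2446)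
  (.node (.node (.node .nil (nat_lit 2940) (nat_lit 146) (nat_lit 2649) .nil) (nat_lit 2941) (nat_lit 147)
  (nat_lit 2458) .nil) (nat_lit 2942) (nat_lit 227) (nat_lit 2539) (.node .nil (nat_lit 2943) (nat_lit 146)
  (nat_lit 3135) .nil)))) (nat_lit 2944) (nat_lit 257) (nat_lit 3197) (.node (.node (.node (.node (.node .nil
  (nat_lit 2945) (nat_lit 113) (nat_lit 2793) .nil) (nat_lit 2946) (nat_lit 226) (nat_lit 3157) .nil) (nat_lit
  2947) (nat_lit 226) (nat_lit 3142) (.node (.node .nil (nat_lit 2948) (nat_lit 114) (nat_lit 3159) .nil)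
  (nat_lit 2949) (nat_lit 114) (nat_lit 3140) .nil)) (nat_lit 2953) (nat_lit 274) (nat_lit 3171) (.node (.node
  (.node .nil (nat_lit 2955) (nat_lit 112) (nat_lit 2700) .nil) (nat_lit 2958) (nat_lit 211) (nat_lit 3272)
  .nil) (nat_lit 2960) (nat_lit 228) (nat_lit 2076) (.node .nil (nat_lit 2961) (nat_lit 147) (nat_lit 3247)
  .nil))) (nat_lit 2962) (nat_lit 224) (nat_lit 2571) (.node (.node (.node (.node .nil (nat_lit 2963) (nat_lit
  210) (nat_lit 2636) .nil) (nat_lit 2964) (nat_lit 163) (nat_lit 3248) .nil) (nat_lit 2965) (nat_lit 227)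
  (nat_lit 3245) (.node (.node .nil (nat_lit 2966) (nat_lit 178) (nat_lit 3152) .nil) (nat_lit 2967) (nat_lit
  147) (nat_lit 2642) .nil)) (nat_lit 2972) (nat_lit 177) (nat_lit 2527) (.node (.node (.node .nil (nat_lit
  2973) (nat_lit 161) (nat_lit 1819) .nil) (nat_lit 2974) (nat_lit 132) (nat_lit 3031) .nil) (nat_lit 2975)
  (nat_lit 259) (nat_lit 2815) (.node .nil (nat_lit 2976) (nat_lit 100) (nat_lit 2460) .nil))))) (nat_lit
  2977) (nat_lit 163) (nat_lit 3281) (.node (.node (.node (.node (.node (.node .nil (nat_lit 2978) (nat_lit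
  194) (nat_lit 3231) .nil) (nat_lit 2979) (nat_lit 179) (nat_lit 3223) .nil) (nat_lit 2980) (nat_lit 243)
  (nat_lit 2809) (.node (.node .nil (nat_lit 2981) (nat_lit 228) (nat_lit 2673) .nil) (nat_lit 2982) (nat_lit
  242) (nat_lit 2586) .nil)) (nat_lit 2984) (nat_lit 148) (nat_lit 2785) (.node (.node (.node .nil (nat_lit
  2985) (nat_lit 179) (nat_lit 2469) .nil) (nat_lit 2987) (nat_lit 80) (nat_lit 3234) .nil) (nat_lit 2988)
  (nat_lit 227) (nat_lit 3138) (.node (.node .nil (nat_lit 2992) (nat_lit 193) (nat_lit 2775) .nil) (nat_lit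
  2993) (nat_lit 225) (nat_lit 2611) .nil))) (nat_lit 2994) (nat_lit 225) (nat_lit 1823) (.node (.node (.node
  (.node .nil (nat_lit 2995) (nat_lit 97) (nat_lit 2609) .nil) (nat_lit 2999) (nat_lit 210) (nat_lit 3213)
  .nil) (nat_lit 3000) (nat_lit 195) (nat_lit 2587) (.node (.node .nil (nat_lit 3006) (nat_lit 193) (nat_lit
  2522) .nil) (nat_lit 3010) (nat_lit 129) (nat_lit 3210) .nil)) (nat_lit 3011) (nat_lit 211) (nat_lit 3214)
  (.node (.node (.node .nil (nat_lit 3012) (nat_lit 116) (nat_lit 2010) .nil) (nat_lit 3013) (nat_lit 212)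
  (nat_lit 1526) .nil) (nat_lit 3014) (nat_lit 212) (nat_lit 1527) (.node .nil (nat_lit 3015) (nat_lit 257)
  (nat_lit 3442) .nil)))) (nat_lit 3016) (nat_lit 163) (nat_lit 2575) (.node (.node (.node (.node (.node .nil
  (nat_lit 3017) (nat_lit 177) (nat_lit 3445) .nil) (nat_lit 3018) (nat_lit 99) (nat_lit 2609) .nil) (nat_lit
  3019) (nat_lit 161) (nat_lit 2764) (.node (.node .nil (nat_lit 3020) (nat_lit 131) (nat_lit 2607) .nil)
  (nat_lit 3021) (nat_lit 176) (nat_lit 2665) .nil)) (nat_lit 3022) (nat_lit 162) (nat_lit 2735) (.node (.node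
  (.node .nil (nat_lit 3024) (nat_lit 164) (nat_lit 2194) .nil) (nat_lit 3026) (nat_lit 179) (nat_lit 2726)
  .nil) (nat_lit 3027) (nat_lit 241) (nat_lit 3252) (.node .nil (nat_lit 3028) (nat_lit 193) (nat_lit 3251)
  .nil))) (nat_lit 3029) (nat_lit 52) (nat_lit 882) (.node (.node (.node (.node .nil (nat_lit 3030) (nat_lit
  84) (nat_lit 1123) .nil) (nat_lit 3031) (nat_lit 115) (nat_lit 2792) .nil) (nat_lit 3032) (nat_lit 227)
  (nat_lit 2571) (.node (.node .nil (nat_lit 3033) (nat_lit 115) (nat_lit 3132) .nil) (nat_lit 3034) (nat_lit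
  146) (nat_lit 2690) .nil)) (nat_lit 3035) (nat_lit 208) (nat_lit 2692) (.node (.node (.node .nil (nat_lit
  3036) (nat_lit 147) (nat_lit 2805) .nil) (nat_lit 3038) (nat_lit 194) (nat_lit 2694) .nil) (nat_lit 3044)
  (nat_lit 112) (nat_lit 3266) (.node .nil (nat_lit 3045) (nat_lit 130) (nat_lit 3268) .nil)))))))
def t3_6 : T := (.node (.node (.node (.node (.node (.node (.node (.node .nil (nat_lit 3047) (nat_lit 242)
  (nat_lit 3256) .nil) (nat_lit 3048) (nat_lit 147) (nat_lit 3198) .nil) (nat_lit 3049) (nat_lit 147) (nat_lit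
  3156) (.node (.node .nil (nat_lit 3050) (nat_lit 177) (nat_lit 2566) .nil) (nat_lit 3052) (nat_lit 147)
  (nat_lit 3154) .nil)) (nat_lit 3053) (nat_lit 146) (nat_lit 2713) (.node (.node (.node .nil (nat_lit 3054)
  (nat_lit 227) (nat_lit 2482) .nil) (nat_lit 3056) (nat_lit 195) (nat_lit 3299) .nil) (nat_lit 3059) (nat_lit
  194) (nat_lit 3253) (.node (.node .nil (nat_lit 3060) (nat_lit 81) (nat_lit 2683) .nil) (nat_lit 3066)
  (nat_lit 258) (nat_lit 3282) .nil))) (nat_lit 3067) (nat_lit 147) (nat_lit 2816) (.node (.node (.node (.node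
  .nil (nat_lit 3068) (nat_lit 129) (nat_lit 3284) .nil) (nat_lit 3069) (nat_lit 162) (nat_lit 3285) .nil)
  (nat_lit 3070) (nat_lit 226) (nat_lit 2736) (.node (.node .nil (nat_lit 3078) (nat_lit 81) (nat_lit 2674)
  .nil) (nat_lit 3081) (nat_lit 148) (nat_lit 2649) .nil)) (nat_lit 3083) (nat_lit 177) (nat_lit 3204) (.node
  (.node (.node .nil (nat_lit 3084) (nat_lit 114) (nat_lit 2747) .nil) (nat_lit 3085) (nat_lit 225) (nat_lit
  2736) .nil) (nat_lit 3086) (nat_lit 178) (nat_lit 3229) (.node .nil (nat_lit 3087) (nat_lit 194) (nat_lit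
  2755) .nil)))) (nat_lit 3088) (nat_lit 177) (nat_lit 3318) (.node (.node (.node (.node (.node .nil (nat_lit
  3089) (nat_lit 179) (nat_lit 3321) .nil) (nat_lit 3090) (nat_lit 241) (nat_lit 3134) .nil) (nat_lit 3091)
  (nat_lit 178) (nat_lit 3184) (.node (.node .nil (nat_lit 3092) (nat_lit 162) (nat_lit 2764) .nil) (nat_lit
  3094) (nat_lit 162) (nat_lit 3303) .nil)) (nat_lit 3095) (nat_lit 178) (nat_lit 2769) (.node (.node (.node
  .nil (nat_lit 3096) (nat_lit 146) (nat_lit 2830) .nil) (nat_lit 3098) (nat_lit 192) (nat_lit 2787) .nil)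
  (nat_lit 3099) (nat_lit 161) (nat_lit 2791) (.node .nil (nat_lit 3101) (nat_lit 211) (nat_lit 2725) .nil)))
  (nat_lit 3102) (nat_lit 164) (nat_lit 2195) (.node (.node (.node (.node .nil (nat_lit 3107) (nat_lit 113)
  (nat_lit 1242) .nil) (nat_lit 3108) (nat_lit 195) (nat_lit 2479) .nil) (nat_lit 3109) (nat_lit 160) (nat_lit
  3303) (.node (.node .nil (nat_lit 3110) (nat_lit 244) (nat_lit 1703) .nil) (nat_lit 3112) (nat_lit 144)
  (nat_lit 2805) .nil)) (nat_lit 3113) (nat_lit 177) (nat_lit 2590) (.node (.node (.node .nil (nat_lit 3116)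
  (nat_lit 115) (nat_lit 3225) .nil) (nat_lit 3117) (nat_lit 212) (nat_lit 2636) .nil) (nat_lit 3121) (nat_lit
  129) (nat_lit 2039) (.node .nil (nat_lit 3124) (nat_lit 148) (nat_lit 1593) .nil))))) (nat_lit 3125)
  (nat_lit 244) (nat_lit 1705) (.node (.node (.node (.node (.node (.node .nil (nat_lit 3126) (nat_lit 163)
  (nat_lit 2580) .nil) (nat_lit 3127) (nat_lit 129) (nat_lit 3295) .nil) (nat_lit 3129) (nat_lit 145) (nat_lit
  1982) (.node (.node .nil (nat_lit 3130) (nat_lit 131) (nat_lit 2760) .nil) (nat_lit 3131) (nat_lit 163)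
  (nat_lit 2313) .nil)) (nat_lit 3132) (nat_lit 96) (nat_lit 3323) (.node (.node (.node .nil (nat_lit 3133)
  (nat_lit 163) (nat_lit 3034) .nil) (nat_lit 3134) (nat_lit 227) (nat_lit 3035) .nil) (nat_lit 3135) (nat_lit
  128) (nat_lit 3326) (.node (.node .nil (nat_lit 3136) (nat_lit 257) (nat_lit 3339) .nil) (nat_lit 3137)
  (nat_lit 211) (nat_lit 3325) .nil))) (nat_lit 3138) (nat_lit 212) (nat_lit 2096) (.node (.node (.node (.node
  .nil (nat_lit 3139) (nat_lit 146) (nat_lit 2936) .nil) (nat_lit 3140) (nat_lit 97) (nat_lit 2863) .nil)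
  (nat_lit 3141) (nat_lit 147) (nat_lit 3045) (.node (.node .nil (nat_lit 3142) (nat_lit 211) (nat_lit 3098)
  .nil) (nat_lit 3143) (nat_lit 67) (nat_lit 3029) .nil)) (nat_lit 3144) (nat_lit 228) (nat_lit 2101) (.node
  (.node (.node .nil (nat_lit 3145) (nat_lit 145) (nat_lit 3338) .nil) (nat_lit 3146) (nat_lit 244) (nat_lit
  2867) .nil) (nat_lit 3147) (nat_lit 257) (nat_lit 2980) (.node .nil (nat_lit 3148) (nat_lit 196) (nat_lit
  2928) .nil)))) (nat_lit 3149) (nat_lit 115) (nat_lit 2995) (.node (.node (.node (.node (.node .nil (nat_lit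
  3150) (nat_lit 163) (nat_lit 3333) .nil) (nat_lit 3151) (nat_lit 211) (nat_lit 3416) .nil) (nat_lit 3152)
  (nat_lit 163) (nat_lit 3129) (.node (.node .nil (nat_lit 3154) (nat_lit 130) (nat_lit 2939) .nil) (nat_lit
  3155) (nat_lit 260) (nat_lit 2121) .nil)) (nat_lit 3156) (nat_lit 130) (nat_lit 2945) (.node (.node (.node
  .nil (nat_lit 3157) (nat_lit 209) (nat_lit 3056) .nil) (nat_lit 3158) (nat_lit 163) (nat_lit 3053) .nil)
  (nat_lit 3159) (nat_lit 99) (nat_lit 3323) (.node .nil (nat_lit 3162) (nat_lit 226) (nat_lit 2958) .nil)))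
  (nat_lit 3168) (nat_lit 192) (nat_lit 2972) (.node (.node (.node (.node .nil (nat_lit 3171) (nat_lit 259)
  (nat_lit 3110) .nil) (nat_lit 3172) (nat_lit 164) (nat_lit 2155) .nil) (nat_lit 3173) (nat_lit 147) (nat_lit
  3121) (.node (.node .nil (nat_lit 3174) (nat_lit 194) (nat_lit 3359) .nil) (nat_lit 3178) (nat_lit 242)
  (nat_lit 3085) .nil)) (nat_lit 3179) (nat_lit 243) (nat_lit 2981) (.node (.node (.node .nil (nat_lit 3181)
  (nat_lit 164) (nat_lit 3096) .nil) (nat_lit 3183) (nat_lit 210) (nat_lit 3108) .nil) (nat_lit 3184) (nat_lit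
  161) (nat_lit 2245) (.node .nil (nat_lit 3186) (nat_lit 132) (nat_lit 2434) .nil)))))) (nat_lit 3187)
  (nat_lit 114) (nat_lit 3018) (.node (.node (.node (.node (.node (.node (.node .nil (nat_lit 3188) (nat_lit
  209) (nat_lit 2393) .nil) (nat_lit 3189) (nat_lit 243) (nat_lit 2946) .nil) (nat_lit 3191) (nat_lit 161)
  (nat_lit 2967) (.node (.node .nil (nat_lit 3192) (nat_lit 208) (nat_lit 3028) .nil) (nat_lit 3193) (nat_lit
  147) (nat_lit 2855) .nil)) (nat_lit 3194) (nat_lit 130) (nat_lit 3326) (.node (.node (.node .nil (nat_lit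
  3195) (nat_lit 128) (nat_lit 2945) .nil) (nat_lit 3196) (nat_lit 131) (nat_lit 3365) .nil) (nat_lit 3197)
  (nat_lit 243) (nat_lit 2962) (.node (.node .nil (nat_lit 3198) (nat_lit 130) (nat_lit 3327) .nil) (nat_lit
  3199) (nat_lit 180) (nat_lit 1468) .nil))) (nat_lit 3201) (nat_lit 65) (nat_lit 2127) (.node (.node (.node
  (.node .nil (nat_lit 3203) (nat_lit 195) (nat_lit 3113) .nil) (nat_lit 3204) (nat_lit 163) (nat_lit 3112)
  .nil) (nat_lit 3206) (nat_lit 148) (nat_lit 1464) (.node (.node .nil (nat_lit 3208) (nat_lit 194) (nat_lit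
  3344) .nil) (nat_lit 3209) (nat_lit 131) (nat_lit 3370) .nil)) (nat_lit 3210) (nat_lit 115) (nat_lit 3372)
  (.node (.node (.node .nil (nat_lit 3211) (nat_lit 209) (nat_lit 2908) .nil) (nat_lit 3212) (nat_lit 129)
  (nat_lit 2114) .nil) (nat_lit 3213) (nat_lit 195) (nat_lit 3088) (.node .nil (nat_lit 3214) (nat_lit 192)
  (nat_lit 3343) .nil)))) (nat_lit 3215) (nat_lit 193) (nat_lit 2164) (.node (.node (.node (.node (.node .nil
  (nat_lit 3218) (nat_lit 194) (nat_lit 3392) .nil) (nat_lit 3220) (nat_lit 84) (nat_lit 1504) .nil) (nat_lit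
  3221) (nat_lit 211) (nat_lit 3399) (.node (.node .nil (nat_lit 3222) (nat_lit 177) (nat_lit 2199) .nil)
  (nat_lit 3223) (nat_lit 162) (nat_lit 3394) .nil)) (nat_lit 3224) (nat_lit 177) (nat_lit 2192) (.node (.node
  (.node .nil (nat_lit 3225) (nat_lit 98) (nat_lit 3331) .nil) (nat_lit 3226) (nat_lit 177) (nat_lit 3016)
  .nil) (nat_lit 3227) (nat_lit 116) (nat_lit 2086) (.node .nil (nat_lit 3228) (nat_lit 116) (nat_lit 2139)
  .nil))) (nat_lit 3229) (nat_lit 161) (nat_lit 3405) (.node (.node (.node (.node .nil (nat_lit 3230) (nat_lit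
  161) (nat_lit 3124) .nil) (nat_lit 3231) (nat_lit 179) (nat_lit 2973) .nil) (nat_lit 3233) (nat_lit 195)
  (nat_lit 2238) (.node (.node .nil (nat_lit 3234) (nat_lit 65) (nat_lit 3029) .nil) (nat_lit 3235) (nat_lit
  68) (nat_lit 982) .nil)) (nat_lit 3236) (nat_lit 210) (nat_lit 3000) (.node (.node (.node .nil (nat_lit
  3240) (nat_lit 145) (nat_lit 2172) .nil) (nat_lit 3241) (nat_lit 146) (nat_lit 3384) .nil) (nat_lit 3242)
  (nat_lit 195) (nat_lit 3343) (.node .nil (nat_lit 3244) (nat_lit 240) (nat_lit 3369) .nil))))) (nat_lit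
  3245) (nat_lit 210) (nat_lit 3406) (.node (.node (.node (.node (.node (.node .nil (nat_lit 3246) (nat_lit
  226) (nat_lit 3011) .nil) (nat_lit 3247) (nat_lit 130) (nat_lit 3044) .nil) (nat_lit 3248) (nat_lit 146)
  (nat_lit 3068) (.node (.node .nil (nat_lit 3249) (nat_lit 178) (nat_lit 3016) .nil) (nat_lit 3251) (nat_lit
  180) (nat_lit 2618) .nil)) (nat_lit 3252) (nat_lit 227) (nat_lit 2877) (.node (.node (.node .nil (nat_lit
  3253) (nat_lit 176) (nat_lit 3367) .nil) (nat_lit 3254) (nat_lit 241) (nat_lit 2988) .nil) (nat_lit 3255)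
  (nat_lit 177) (nat_lit 3024) (.node (.node .nil (nat_lit 3256) (nat_lit 227) (nat_lit 2875) .nil) (nat_lit
  3257) (nat_lit 227) (nat_lit 3322) .nil))) (nat_lit 3262) (nat_lit 178) (nat_lit 3413) (.node (.node (.node
  (.node .nil (nat_lit 3264) (nat_lit 257) (nat_lit 2356) .nil) (nat_lit 3266) (nat_lit 97) (nat_lit 2840)
  .nil) (nat_lit 3267) (nat_lit 192) (nat_lit 3050) (.node (.node .nil (nat_lit 3268) (nat_lit 113) (nat_lit
  3018) .nil) (nat_lit 3269) (nat_lit 241) (nat_lit 2942) .nil)) (nat_lit 3270) (nat_lit 242) (nat_lit 3419)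
  (.node (.node (.node .nil (nat_lit 3271) (nat_lit 163) (nat_lit 3337) .nil) (nat_lit 3272) (nat_lit 193)
  (nat_lit 2241) .nil) (nat_lit 3273) (nat_lit 194) (nat_lit 3050) (.node .nil (nat_lit 3276) (nat_lit 178)
  (nat_lit 3367) .nil)))) (nat_lit 3279) (nat_lit 132) (nat_lit 1906) (.node (.node (.node (.node (.node .nil
  (nat_lit 3281) (nat_lit 144) (nat_lit 3121) .nil) (nat_lit 3282) (nat_lit 241) (nat_lit 2430) .nil) (nat_lit
  3283) (nat_lit 162) (nat_lit 3405) (.node (.node .nil (nat_lit 3284) (nat_lit 115) (nat_lit 2976) .nil)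
  (nat_lit 3285) (nat_lit 145) (nat_lit 3020) .nil)) (nat_lit 3287) (nat_lit 195) (nat_lit 3375) (.node (.node
  (.node .nil (nat_lit 3290) (nat_lit 164) (nat_lit 2873) .nil) (nat_lit 3291) (nat_lit 192) (nat_lit 3083)
  .nil) (nat_lit 3292) (nat_lit 98) (nat_lit 3078) (.node .nil (nat_lit 3293) (nat_lit 226) (nat_lit 3377)
  .nil))) (nat_lit 3294) (nat_lit 164) (nat_lit 2940) (.node (.node (.node (.node .nil (nat_lit 3295) (nat_lit
  115) (nat_lit 3386) .nil) (nat_lit 3296) (nat_lit 177) (nat_lit 3126) .nil) (nat_lit 3297) (nat_lit 210)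
  (nat_lit 3358) (.node (.node .nil (nat_lit 3299) (nat_lit 176) (nat_lit 3099) .nil) (nat_lit 3300) (nat_lit
  179) (nat_lit 2870) .nil)) (nat_lit 3302) (nat_lit 128) (nat_lit 3107) (.node (.node (.node .nil (nat_lit
  3303) (nat_lit 145) (nat_lit 1686) .nil) (nat_lit 3304) (nat_lit 192) (nat_lit 3113) .nil) (nat_lit 3306)
  (nat_lit 99) (nat_lit 3353) (.node .nil (nat_lit 3307) (nat_lit 244) (nat_lit 2044) .nil)))))))
def t3_7 : T := (.node (.node (.node (.node (.node (.node (.node (.node .nil (nat_lit 3309) (nat_lit 195)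
  (nat_lit 3357) .nil) (nat_lit 3310) (nat_lit 161) (nat_lit 2984) .nil) (nat_lit 3311) (nat_lit 179) (nat_lit
  3395) (.node (.node .nil (nat_lit 3312) (nat_lit 210) (nat_lit 3440) .nil) (nat_lit 3313) (nat_lit 131)
  (nat_lit 3084) .nil)) (nat_lit 3314) (nat_lit 211) (nat_lit 3350) (.node (.node (.node .nil (nat_lit 3316)
  (nat_lit 145) (nat_lit 2443) .nil) (nat_lit 3317) (nat_lit 180) (nat_lit 1886) .nil) (nat_lit 3318) (nat_lit
  164) (nat_lit 1883) (.node (.node .nil (nat_lit 3321) (nat_lit 161) (nat_lit 1644) .nil) (nat_lit 3322)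
  (nat_lit 209) (nat_lit 1997) .nil))) (nat_lit 3323) (nat_lit 81) (nat_lit 3235) (.node (.node (.node (.node
  .nil (nat_lit 3324) (nat_lit 162) (nat_lit 3193) .nil) (nat_lit 3325) (nat_lit 192) (nat_lit 3255) .nil)
  (nat_lit 3326) (nat_lit 113) (nat_lit 3159) (.node (.node .nil (nat_lit 3327) (nat_lit 112) (nat_lit 3140)
  .nil) (nat_lit 3328) (nat_lit 196) (nat_lit 1719) .nil)) (nat_lit 3329) (nat_lit 115) (nat_lit 3471) (.node
  (.node (.node .nil (nat_lit 3330) (nat_lit 244) (nat_lit 2536) .nil) (nat_lit 3331) (nat_lit 80) (nat_lit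
  3201) .nil) (nat_lit 3332) (nat_lit 163) (nat_lit 3241) (.node .nil (nat_lit 3333) (nat_lit 148) (nat_lit
  2831) .nil)))) (nat_lit 3334) (nat_lit 145) (nat_lit 2507) (.node (.node (.node (.node (.node .nil (nat_lit
  3335) (nat_lit 193) (nat_lit 2477) .nil) (nat_lit 3337) (nat_lit 146) (nat_lit 3195) .nil) (nat_lit 3338)
  (nat_lit 131) (nat_lit 3472) (.node (.node .nil (nat_lit 3339) (nat_lit 243) (nat_lit 3441) .nil) (nat_lit
  3341) (nat_lit 132) (nat_lit 1268) .nil)) (nat_lit 3343) (nat_lit 177) (nat_lit 2655) (.node (.node (.node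
  .nil (nat_lit 3344) (nat_lit 179) (nat_lit 3481) .nil) (nat_lit 3346) (nat_lit 210) (nat_lit 3456) .nil)
  (nat_lit 3348) (nat_lit 68) (nat_lit 1778) (.node .nil (nat_lit 3349) (nat_lit 162) (nat_lit 3461) .nil)))
  (nat_lit 3350) (nat_lit 192) (nat_lit 3222) (.node (.node (.node (.node .nil (nat_lit 3353) (nat_lit 82)
  (nat_lit 3201) .nil) (nat_lit 3354) (nat_lit 210) (nat_lit 3203) .nil) (nat_lit 3355) (nat_lit 100) (nat_lit
  2259) (.node (.node .nil (nat_lit 3356) (nat_lit 180) (nat_lit 1863) .nil) (nat_lit 3357) (nat_lit 180)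
  (nat_lit 2469) .nil)) (nat_lit 3358) (nat_lit 195) (nat_lit 3224) (.node (.node (.node .nil (nat_lit 3359)
  (nat_lit 179) (nat_lit 3230) .nil) (nat_lit 3361) (nat_lit 194) (nat_lit 3300) .nil) (nat_lit 3363) (nat_lit
  178) (nat_lit 3445) (.node .nil (nat_lit 3364) (nat_lit 224) (nat_lit 3188) .nil))))) (nat_lit 3365)
  (nat_lit 114) (nat_lit 3444) (.node (.node (.node (.node (.node (.node .nil (nat_lit 3366) (nat_lit 176)
  (nat_lit 3191) .nil) (nat_lit 3367) (nat_lit 161) (nat_lit 3193) .nil) (nat_lit 3368) (nat_lit 259) (nat_lit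
  3244) (.node (.node .nil (nat_lit 3369) (nat_lit 225) (nat_lit 2539) .nil) (nat_lit 3370) (nat_lit 114)
  (nat_lit 3266) .nil)) (nat_lit 3371) (nat_lit 258) (nat_lit 3443) (.node (.node (.node .nil (nat_lit 3372)
  (nat_lit 100) (nat_lit 2467) .nil) (nat_lit 3373) (nat_lit 160) (nat_lit 3240) .nil) (nat_lit 3374) (nat_lit
  208) (nat_lit 3215) (.node (.node .nil (nat_lit 3375) (nat_lit 180) (nat_lit 2546) .nil) (nat_lit 3376)
  (nat_lit 180) (nat_lit 1577) .nil))) (nat_lit 3377) (nat_lit 211) (nat_lit 3304) (.node (.node (.node (.node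
  .nil (nat_lit 3378) (nat_lit 162) (nat_lit 3451) .nil) (nat_lit 3379) (nat_lit 227) (nat_lit 3486) .nil)
  (nat_lit 3380) (nat_lit 148) (nat_lit 2471) (.node (.node .nil (nat_lit 3382) (nat_lit 210) (nat_lit 3454)
  .nil) (nat_lit 3383) (nat_lit 228) (nat_lit 1806) .nil)) (nat_lit 3384) (nat_lit 129) (nat_lit 2782) (.node
  (.node (.node .nil (nat_lit 3385) (nat_lit 211) (nat_lit 3465) .nil) (nat_lit 3386) (nat_lit 100) (nat_lit
  1721) .nil) (nat_lit 3388) (nat_lit 178) (nat_lit 3447) (.node .nil (nat_lit 3390) (nat_lit 179) (nat_lit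
  3294) .nil)))) (nat_lit 3391) (nat_lit 179) (nat_lit 3172) (.node (.node (.node (.node (.node .nil (nat_lit
  3392) (nat_lit 179) (nat_lit 3310) .nil) (nat_lit 3393) (nat_lit 131) (nat_lit 3228) .nil) (nat_lit 3394)
  (nat_lit 145) (nat_lit 1979) (.node (.node .nil (nat_lit 3395) (nat_lit 162) (nat_lit 3240) .nil) (nat_lit
  3396) (nat_lit 130) (nat_lit 3284) .nil)) (nat_lit 3397) (nat_lit 131) (nat_lit 3467) (.node (.node (.node
  .nil (nat_lit 3398) (nat_lit 192) (nat_lit 3226) .nil) (nat_lit 3399) (nat_lit 194) (nat_lit 3226) .nil)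
  (nat_lit 3400) (nat_lit 132) (nat_lit 1774) (.node .nil (nat_lit 3403) (nat_lit 210) (nat_lit 3488) .nil)))
  (nat_lit 3404) (nat_lit 210) (nat_lit 3242) (.node (.node (.node (.node .nil (nat_lit 3405) (nat_lit 147)
  (nat_lit 3212) .nil) (nat_lit 3406) (nat_lit 193) (nat_lit 3231) .nil) (nat_lit 3408) (nat_lit 225) (nat_lit
  3137) (.node (.node .nil (nat_lit 3411) (nat_lit 162) (nat_lit 3487) .nil) (nat_lit 3412) (nat_lit 131)
  (nat_lit 3227) .nil)) (nat_lit 3413) (nat_lit 160) (nat_lit 3285) (.node (.node (.node .nil (nat_lit 3414)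
  (nat_lit 241) (nat_lit 2670) .nil) (nat_lit 3415) (nat_lit 225) (nat_lit 3138) .nil) (nat_lit 3416) (nat_lit
  194) (nat_lit 3469) (.node .nil (nat_lit 3417) (nat_lit 210) (nat_lit 3267) .nil)))))) (nat_lit 3418)
  (nat_lit 100) (nat_lit 2547) (.node (.node (.node (.node (.node (.node (.node .nil (nat_lit 3419) (nat_lit
  225) (nat_lit 3142) .nil) (nat_lit 3420) (nat_lit 163) (nat_lit 3206) .nil) (nat_lit 3421) (nat_lit 177)
  (nat_lit 2656) (.node (.node .nil (nat_lit 3422) (nat_lit 196) (nat_lit 2265) .nil) (nat_lit 3423) (nat_lit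
  148) (nat_lit 2262) .nil)) (nat_lit 3424) (nat_lit 211) (nat_lit 3475) (.node (.node (.node .nil (nat_lit
  3425) (nat_lit 195) (nat_lit 3222) .nil) (nat_lit 3426) (nat_lit 160) (nat_lit 3316) .nil) (nat_lit 3427)
  (nat_lit 180) (nat_lit 2257) (.node (.node .nil (nat_lit 3428) (nat_lit 115) (nat_lit 3292) .nil) (nat_lit
  3429) (nat_lit 180) (nat_lit 2421) .nil))) (nat_lit 3430) (nat_lit 195) (nat_lit 3464) (.node (.node (.node
  (.node .nil (nat_lit 3431) (nat_lit 99) (nat_lit 3459) .nil) (nat_lit 3432) (nat_lit 192) (nat_lit 3296)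
  .nil) (nat_lit 3433) (nat_lit 210) (nat_lit 3309) (.node (.node .nil (nat_lit 3434) (nat_lit 211) (nat_lit
  3468) .nil) (nat_lit 3435) (nat_lit 176) (nat_lit 3310) .nil)) (nat_lit 3436) (nat_lit 226) (nat_lit 3490)
  (.node (.node (.node .nil (nat_lit 3437) (nat_lit 132) (nat_lit 2432) .nil) (nat_lit 3438) (nat_lit 148)
  (nat_lit 3127) .nil) (nat_lit 3439) (nat_lit 180) (nat_lit 2347) (.node .nil (nat_lit 3440) (nat_lit 193)
  (nat_lit 1981) .nil)))) (nat_lit 3441) (nat_lit 224) (nat_lit 3322) (.node (.node (.node (.node (.node .nil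
  (nat_lit 3442) (nat_lit 243) (nat_lit 3415) .nil) (nat_lit 3443) (nat_lit 243) (nat_lit 3369) .nil) (nat_lit
  3444) (nat_lit 96) (nat_lit 3496) (.node (.node .nil (nat_lit 3445) (nat_lit 163) (nat_lit 3334) .nil)
  (nat_lit 3446) (nat_lit 179) (nat_lit 3378) .nil)) (nat_lit 3447) (nat_lit 163) (nat_lit 3438) (.node (.node
  (.node .nil (nat_lit 3448) (nat_lit 208) (nat_lit 3335) .nil) (nat_lit 3449) (nat_lit 225) (nat_lit 2878)
  .nil) (nat_lit 3450) (nat_lit 84) (nat_lit 2174) (.node .nil (nat_lit 3451) (nat_lit 144) (nat_lit 3384)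
  .nil))) (nat_lit 3452) (nat_lit 227) (nat_lit 3507) (.node (.node (.node (.node .nil (nat_lit 3453) (nat_lit
  164) (nat_lit 2142) .nil) (nat_lit 3454) (nat_lit 195) (nat_lit 3429) .nil) (nat_lit 3455) (nat_lit 195)
  (nat_lit 3356) (.node (.node .nil (nat_lit 3456) (nat_lit 195) (nat_lit 3435) .nil) (nat_lit 3457) (nat_lit
  178) (nat_lit 3500) .nil)) (nat_lit 3458) (nat_lit 132) (nat_lit 2078) (.node (.node (.node .nil (nat_lit
  3459) (nat_lit 84) (nat_lit 2071) .nil) (nat_lit 3460) (nat_lit 180) (nat_lit 3204) .nil) (nat_lit 3461)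
  (nat_lit 147) (nat_lit 3437) (.node .nil (nat_lit 3464) (nat_lit 178) (nat_lit 3373) .nil))))) (nat_lit
  3465) (nat_lit 196) (nat_lit 1904) (.node (.node (.node (.node (.node (.node .nil (nat_lit 3466) (nat_lit
  84) (nat_lit 2674) .nil) (nat_lit 3467) (nat_lit 116) (nat_lit 1880) .nil) (nat_lit 3468) (nat_lit 196)
  (nat_lit 2238) (.node (.node .nil (nat_lit 3469) (nat_lit 177) (nat_lit 2247) .nil) (nat_lit 3470) (nat_lit
  178) (nat_lit 3420) .nil)) (nat_lit 3471) (nat_lit 98) (nat_lit 3496) (.node (.node (.node .nil (nat_lit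
  3472) (nat_lit 116) (nat_lit 2860) .nil) (nat_lit 3473) (nat_lit 225) (nat_lit 2937) .nil) (nat_lit 3474)
  (nat_lit 194) (nat_lit 3497) (.node (.node .nil (nat_lit 3475) (nat_lit 196) (nat_lit 1885) .nil) (nat_lit
  3476) (nat_lit 147) (nat_lit 3400) .nil))) (nat_lit 3477) (nat_lit 116) (nat_lit 2700) (.node (.node (.node
  (.node .nil (nat_lit 3478) (nat_lit 146) (nat_lit 3393) .nil) (nat_lit 3479) (nat_lit 194) (nat_lit 3391)
  .nil) (nat_lit 3480) (nat_lit 164) (nat_lit 2664) (.node (.node .nil (nat_lit 3481) (nat_lit 164) (nat_lit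
  2820) .nil) (nat_lit 3482) (nat_lit 146) (nat_lit 3505) .nil)) (nat_lit 3483) (nat_lit 146) (nat_lit 3412)
  (.node (.node (.node .nil (nat_lit 3484) (nat_lit 115) (nat_lit 3509) .nil) (nat_lit 3485) (nat_lit 147)
  (nat_lit 3504) .nil) (nat_lit 3486) (nat_lit 210) (nat_lit 3398) (.node .nil (nat_lit 3487) (nat_lit 147)
  (nat_lit 3341) .nil)))) (nat_lit 3488) (nat_lit 195) (nat_lit 3421) (.node (.node (.node (.node (.node .nil
  (nat_lit 3489) (nat_lit 196) (nat_lit 2671) .nil) (nat_lit 3490) (nat_lit 208) (nat_lit 3440) .nil) (nat_lit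
  3491) (nat_lit 163) (nat_lit 3499) (.node (.node .nil (nat_lit 3492) (nat_lit 164) (nat_lit 2823) .nil)
  (nat_lit 3493) (nat_lit 226) (nat_lit 3434) .nil)) (nat_lit 3494) (nat_lit 148) (nat_lit 2829) (.node (.node
  (.node .nil (nat_lit 3495) (nat_lit 164) (nat_lit 2754) .nil) (nat_lit 3496) (nat_lit 81) (nat_lit 3143)
  .nil) (nat_lit 3497) (nat_lit 179) (nat_lit 3492) (.node .nil (nat_lit 3498) (nat_lit 162) (nat_lit 3476)
  .nil))) (nat_lit 3499) (nat_lit 148) (nat_lit 1777) (.node (.node (.node (.node .nil (nat_lit 3500) (nat_lit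
  163) (nat_lit 3494) .nil) (nat_lit 3501) (nat_lit 164) (nat_lit 3036) .nil) (nat_lit 3502) (nat_lit 162)
  (nat_lit 3485) (.node (.node .nil (nat_lit 3503) (nat_lit 210) (nat_lit 3455) .nil) (nat_lit 3504) (nat_lit
  132) (nat_lit 2955) .nil)) (nat_lit 3505) (nat_lit 131) (nat_lit 3477) (.node (.node (.node .nil (nat_lit
  3506) (nat_lit 179) (nat_lit 3453) .nil) (nat_lit 3507) (nat_lit 212) (nat_lit 2290) .nil) (nat_lit 3508)
  (nat_lit 148) (nat_lit 3020) (.node .nil (nat_lit 3509) (nat_lit 100) (nat_lit 2258) .nil)))))))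
def t3 : T := (.node (.node (.node t3_0 (nat_lit 659) (nat_lit 211) (nat_lit 2290) t3_1) (nat_lit 1464)
  (nat_lit 130) (nat_lit 1268) (.node t3_2 (nat_lit 1973) (nat_lit 115) (nat_lit 1570) t3_3)) (nat_lit 2377)
  (nat_lit 130) (nat_lit 1976) (.node (.node t3_4 (nat_lit 2735) (nat_lit 144) (nat_lit 3068) t3_5) (nat_lit
  3046) (nat_lit 128) (nat_lit 3268) (.node t3_6 (nat_lit 3308) (nat_lit 195) (nat_lit 3376) t3_7)))
def l3 : Lvl := ⟨nat_lit 48, [nat_lit 6, nat_lit 9, nat_lit 7, nat_lit 4, nat_lit 0x5625321235265], [], t3⟩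
def t4 : T := (.node (.node (.node (.node (.node (.node .nil (nat_lit 1008) (nat_lit 0) (nat_lit 1008) .nil)
  (nat_lit 1135) (nat_lit 16) (nat_lit 1008) .nil) (nat_lit 1152) (nat_lit 51) (nat_lit 1390) (.node .nil
  (nat_lit 1162) (nat_lit 48) (nat_lit 1364) .nil)) (nat_lit 1163) (nat_lit 17) (nat_lit 1008) (.node (.node
  (.node .nil (nat_lit 1315) (nat_lit 64) (nat_lit 1152) .nil) (nat_lit 1322) (nat_lit 32) (nat_lit 1521)
  .nil) (nat_lit 1323) (nat_lit 33) (nat_lit 1135) (.node .nil (nat_lit 1349) (nat_lit 35) (nat_lit 1552)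
  .nil))) (nat_lit 1350) (nat_lit 67) (nat_lit 1654) (.node (.node (.node (.node .nil (nat_lit 1364) (nat_lit
  35) (nat_lit 1135) .nil) (nat_lit 1365) (nat_lit 64) (nat_lit 1624) .nil) (nat_lit 1390) (nat_lit 34)
  (nat_lit 1135) (.node .nil (nat_lit 1521) (nat_lit 19) (nat_lit 1008) .nil)) (nat_lit 1552) (nat_lit 18)
  (nat_lit 1008) (.node (.node .nil (nat_lit 1553) (nat_lit 80) (nat_lit 1350) .nil) (nat_lit 1562) (nat_lit
  48) (nat_lit 1817) (.node .nil (nat_lit 1602) (nat_lit 48) (nat_lit 1349) .nil)))) (nat_lit 1603) (nat_lit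
  51) (nat_lit 1853) (.node (.node (.node (.node (.node .nil (nat_lit 1624) (nat_lit 51) (nat_lit 1323) .nil)
  (nat_lit 1654) (nat_lit 49) (nat_lit 1390) .nil) (nat_lit 1690) (nat_lit 49) (nat_lit 2030) (.node .nil
  (nat_lit 1817) (nat_lit 35) (nat_lit 1163) .nil)) (nat_lit 1853) (nat_lit 33) (nat_lit 1552) (.node (.node
  .nil (nat_lit 1921) (nat_lit 64) (nat_lit 1603) .nil) (nat_lit 1989) (nat_lit 65) (nat_lit 2386) (.node .nil
  (nat_lit 2029) (nat_lit 96) (nat_lit 2108) .nil))) (nat_lit 2030) (nat_lit 34) (nat_lit 1163) (.node (.node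
  (.node (.node .nil (nat_lit 2108) (nat_lit 83) (nat_lit 1989) .nil) (nat_lit 2385) (nat_lit 80) (nat_lit
  2517) .nil) (nat_lit 2386) (nat_lit 50) (nat_lit 1323) (.node .nil (nat_lit 2433) (nat_lit 80) (nat_lit
  2509) .nil)) (nat_lit 2509) (nat_lit 67) (nat_lit 2386) (.node (.node .nil (nat_lit 2517) (nat_lit 67)
  (nat_lit 1690) .nil) (nat_lit 2771) (nat_lit 64) (nat_lit 2904) (.node .nil (nat_lit 2904) (nat_lit 51)
  (nat_lit 2030) .nil)))))
def l4 : Lvl := ⟨nat_lit 1008, [nat_lit 6, nat_lit 7, nat_lit 4, nat_lit 0x5234712563254321234523652174325], [], t4⟩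
def t5_0 : T := (.node (.node (.node (.node (.node (.node (.node (.node .nil (nat_lit 7) (nat_lit 50) (nat_lit
  11) .nil) (nat_lit 11) (nat_lit 33) (nat_lit 21) .nil) (nat_lit 15) (nat_lit 71) (nat_lit 7) (.node (.node
  .nil (nat_lit 16) (nat_lit 68) (nat_lit 7) .nil) (nat_lit 17) (nat_lit 131) (nat_lit 709) .nil)) (nat_lit
  21) (nat_lit 16) (nat_lit 37) (.node (.node (.node .nil (nat_lit 22) (nat_lit 55) (nat_lit 11) .nil)
  (nat_lit 23) (nat_lit 52) (nat_lit 11) .nil) (nat_lit 24) (nat_lit 120) (nat_lit 51) (.node (.node .nil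
  (nat_lit 28) (nat_lit 56) (nat_lit 11) .nil) (nat_lit 29) (nat_lit 115) (nat_lit 717) .nil))) (nat_lit 30)
  (nat_lit 56) (nat_lit 38) (.node (.node (.node (.node .nil (nat_lit 31) (nat_lit 85) (nat_lit 16) .nil)
  (nat_lit 32) (nat_lit 115) (nat_lit 721) .nil) (nat_lit 33) (nat_lit 147) (nat_lit 723) (.node (.node .nil
  (nat_lit 36) (nat_lit 178) (nat_lit 48) .nil) (nat_lit 37) (nat_lit 0) (nat_lit 37) .nil)) (nat_lit 38)
  (nat_lit 39) (nat_lit 21) (.node (.node (.node .nil (nat_lit 39) (nat_lit 104) (nat_lit 83) .nil) (nat_lit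
  40) (nat_lit 72) (nat_lit 7) .nil) (nat_lit 41) (nat_lit 136) (nat_lit 32) (.node .nil (nat_lit 42) (nat_lit
  69) (nat_lit 23) .nil)))) (nat_lit 43) (nat_lit 130) (nat_lit 32) (.node (.node (.node (.node (.node .nil
  (nat_lit 44) (nat_lit 133) (nat_lit 24) .nil) (nat_lit 48) (nat_lit 161) (nat_lit 78) .nil) (nat_lit 49)
  (nat_lit 40) (nat_lit 21) (.node (.node .nil (nat_lit 50) (nat_lit 69) (nat_lit 28) .nil) (nat_lit 51)
  (nat_lit 99) (nat_lit 734) .nil)) (nat_lit 53) (nat_lit 131) (nat_lit 737) (.node (.node (.node .nil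
  (nat_lit 54) (nat_lit 40) (nat_lit 65) .nil) (nat_lit 55) (nat_lit 69) (nat_lit 30) .nil) (nat_lit 56)
  (nat_lit 99) (nat_lit 742) (.node .nil (nat_lit 57) (nat_lit 229) (nat_lit 96) .nil))) (nat_lit 58) (nat_lit
  131) (nat_lit 746) (.node (.node (.node (.node .nil (nat_lit 59) (nat_lit 163) (nat_lit 748) .nil) (nat_lit
  62) (nat_lit 163) (nat_lit 755) .nil) (nat_lit 63) (nat_lit 194) (nat_lit 79) (.node (.node .nil (nat_lit
  64) (nat_lit 194) (nat_lit 80) .nil) (nat_lit 65) (nat_lit 23) (nat_lit 37) .nil)) (nat_lit 66) (nat_lit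
  120) (nat_lit 129) (.node (.node (.node .nil (nat_lit 67) (nat_lit 120) (nat_lit 56) .nil) (nat_lit 68)
  (nat_lit 117) (nat_lit 39) .nil) (nat_lit 69) (nat_lit 85) (nat_lit 40) (.node .nil (nat_lit 70) (nat_lit
  114) (nat_lit 51) .nil))))) (nat_lit 72) (nat_lit 149) (nat_lit 41) (.node (.node (.node (.node (.node
  (.node .nil (nat_lit 73) (nat_lit 213) (nat_lit 119) .nil) (nat_lit 74) (nat_lit 146) (nat_lit 58) .nil)
  (nat_lit 75) (nat_lit 148) (nat_lit 44) (.node (.node .nil (nat_lit 76) (nat_lit 178) (nat_lit 62) .nil)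
  (nat_lit 78) (nat_lit 148) (nat_lit 108) .nil)) (nat_lit 79) (nat_lit 176) (nat_lit 48) (.node (.node (.node
  .nil (nat_lit 80) (nat_lit 177) (nat_lit 124) .nil) (nat_lit 81) (nat_lit 24) (nat_lit 37) .nil) (nat_lit
  82) (nat_lit 53) (nat_lit 49) (.node .nil (nat_lit 83) (nat_lit 83) (nat_lit 763) .nil))) (nat_lit 84)
  (nat_lit 213) (nat_lit 135) (.node (.node (.node (.node .nil (nat_lit 86) (nat_lit 115) (nat_lit 768) .nil)
  (nat_lit 89) (nat_lit 147) (nat_lit 773) .nil) (nat_lit 90) (nat_lit 53) (nat_lit 54) (.node (.node .nil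
  (nat_lit 91) (nat_lit 115) (nat_lit 778) .nil) (nat_lit 92) (nat_lit 84) (nat_lit 55) .nil)) (nat_lit 93)
  (nat_lit 212) (nat_lit 148) (.node (.node (.node .nil (nat_lit 94) (nat_lit 115) (nat_lit 783) .nil)
  (nat_lit 95) (nat_lit 208) (nat_lit 152) .nil) (nat_lit 96) (nat_lit 216) (nat_lit 548) (.node .nil (nat_lit
  97) (nat_lit 147) (nat_lit 787) .nil)))) (nat_lit 98) (nat_lit 179) (nat_lit 789) (.node (.node (.node
  (.node (.node .nil (nat_lit 100) (nat_lit 147) (nat_lit 794) .nil) (nat_lit 101) (nat_lit 179) (nat_lit 795)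
  .nil) (nat_lit 102) (nat_lit 147) (nat_lit 796) (.node (.node .nil (nat_lit 103) (nat_lit 179) (nat_lit 798)
  .nil) (nat_lit 104) (nat_lit 210) (nat_lit 126) .nil)) (nat_lit 106) (nat_lit 136) (nat_lit 91) (.node
  (.node (.node .nil (nat_lit 108) (nat_lit 133) (nat_lit 66) .nil) (nat_lit 110) (nat_lit 133) (nat_lit 67)
  .nil) (nat_lit 111) (nat_lit 132) (nat_lit 68) (.node .nil (nat_lit 112) (nat_lit 197) (nat_lit 171) .nil)))
  (nat_lit 114) (nat_lit 130) (nat_lit 86) (.node (.node (.node (.node .nil (nat_lit 117) (nat_lit 164)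
  (nat_lit 72) .nil) (nat_lit 118) (nat_lit 192) (nat_lit 179) .nil) (nat_lit 119) (nat_lit 200) (nat_lit 511)
  (.node (.node .nil (nat_lit 120) (nat_lit 162) (nat_lit 97) .nil) (nat_lit 121) (nat_lit 161) (nat_lit 75)
  .nil)) (nat_lit 122) (nat_lit 168) (nat_lit 376) (.node (.node (.node .nil (nat_lit 123) (nat_lit 162)
  (nat_lit 102) .nil) (nat_lit 124) (nat_lit 164) (nat_lit 166) .nil) (nat_lit 125) (nat_lit 160) (nat_lit
  169) (.node .nil (nat_lit 126) (nat_lit 192) (nat_lit 80) .nil)))))) (nat_lit 128) (nat_lit 37) (nat_lit 81)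
  (.node (.node (.node (.node (.node (.node (.node .nil (nat_lit 129) (nat_lit 99) (nat_lit 805) .nil)
  (nat_lit 130) (nat_lit 68) (nat_lit 82) .nil) (nat_lit 131) (nat_lit 228) (nat_lit 192) (.node (.node .nil
  (nat_lit 133) (nat_lit 99) (nat_lit 812) .nil) (nat_lit 134) (nat_lit 193) (nat_lit 193) .nil)) (nat_lit
  135) (nat_lit 200) (nat_lit 468) (.node (.node (.node .nil (nat_lit 138) (nat_lit 131) (nat_lit 819) .nil)
  (nat_lit 143) (nat_lit 163) (nat_lit 827) .nil) (nat_lit 144) (nat_lit 68) (nat_lit 90) (.node .nil (nat_lit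
  145) (nat_lit 196) (nat_lit 213) .nil))) (nat_lit 147) (nat_lit 131) (nat_lit 832) (.node (.node (.node
  (.node .nil (nat_lit 148) (nat_lit 192) (nat_lit 213) .nil) (nat_lit 149) (nat_lit 224) (nat_lit 216) .nil)
  (nat_lit 150) (nat_lit 228) (nat_lit 216) (.node (.node .nil (nat_lit 151) (nat_lit 131) (nat_lit 841) .nil)
  (nat_lit 152) (nat_lit 193) (nat_lit 220) .nil)) (nat_lit 153) (nat_lit 192) (nat_lit 221) (.node (.node
  (.node .nil (nat_lit 154) (nat_lit 194) (nat_lit 181) .nil) (nat_lit 155) (nat_lit 193) (nat_lit 223) .nil)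
  (nat_lit 156) (nat_lit 163) (nat_lit 848) (.node .nil (nat_lit 157) (nat_lit 194) (nat_lit 98) .nil))))
  (nat_lit 158) (nat_lit 195) (nat_lit 851) (.node (.node (.node (.node (.node .nil (nat_lit 159) (nat_lit
  131) (nat_lit 853) .nil) (nat_lit 160) (nat_lit 163) (nat_lit 854) .nil) (nat_lit 161) (nat_lit 163)
  (nat_lit 855) (.node (.node .nil (nat_lit 162) (nat_lit 195) (nat_lit 1043) .nil) (nat_lit 163) (nat_lit
  195) (nat_lit 859) .nil)) (nat_lit 164) (nat_lit 165) (nat_lit 226) (.node (.node (.node .nil (nat_lit 165)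
  (nat_lit 131) (nat_lit 862) .nil) (nat_lit 166) (nat_lit 149) (nat_lit 106) .nil) (nat_lit 168) (nat_lit
  148) (nat_lit 110) (.node .nil (nat_lit 169) (nat_lit 145) (nat_lit 111) .nil))) (nat_lit 170) (nat_lit 213)
  (nat_lit 240) (.node (.node (.node (.node .nil (nat_lit 171) (nat_lit 184) (nat_lit 547) .nil) (nat_lit 174)
  (nat_lit 146) (nat_lit 138) .nil) (nat_lit 178) (nat_lit 177) (nat_lit 117) (.node (.node .nil (nat_lit 179)
  (nat_lit 177) (nat_lit 120) .nil) (nat_lit 180) (nat_lit 176) (nat_lit 246) .nil)) (nat_lit 181) (nat_lit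
  176) (nat_lit 121) (.node (.node (.node .nil (nat_lit 182) (nat_lit 184) (nat_lit 445) .nil) (nat_lit 183)
  (nat_lit 178) (nat_lit 121) .nil) (nat_lit 184) (nat_lit 152) (nat_lit 448) (.node .nil (nat_lit 185)
  (nat_lit 178) (nat_lit 125) .nil))))) (nat_lit 186) (nat_lit 176) (nat_lit 236) (.node (.node (.node (.node
  (.node (.node .nil (nat_lit 187) (nat_lit 146) (nat_lit 165) .nil) (nat_lit 189) (nat_lit 52) (nat_lit 128)
  .nil) (nat_lit 190) (nat_lit 212) (nat_lit 260) (.node (.node .nil (nat_lit 191) (nat_lit 115) (nat_lit 868)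
  .nil) (nat_lit 192) (nat_lit 208) (nat_lit 260) .nil)) (nat_lit 193) (nat_lit 180) (nat_lit 263) (.node
  (.node (.node .nil (nat_lit 194) (nat_lit 212) (nat_lit 268) .nil) (nat_lit 196) (nat_lit 115) (nat_lit 880)
  .nil) (nat_lit 197) (nat_lit 208) (nat_lit 134) (.node .nil (nat_lit 198) (nat_lit 177) (nat_lit 266)
  .nil))) (nat_lit 199) (nat_lit 180) (nat_lit 276) (.node (.node (.node (.node .nil (nat_lit 200) (nat_lit
  177) (nat_lit 278) .nil) (nat_lit 204) (nat_lit 147) (nat_lit 892) .nil) (nat_lit 210) (nat_lit 178)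
  (nat_lit 143) (.node (.node .nil (nat_lit 211) (nat_lit 179) (nat_lit 905) .nil) (nat_lit 212) (nat_lit 81)
  (nat_lit 144) .nil)) (nat_lit 213) (nat_lit 177) (nat_lit 297) (.node (.node (.node .nil (nat_lit 214)
  (nat_lit 213) (nat_lit 148) .nil) (nat_lit 215) (nat_lit 213) (nat_lit 145) .nil) (nat_lit 216) (nat_lit
  209) (nat_lit 300) (.node .nil (nat_lit 217) (nat_lit 208) (nat_lit 268) .nil)))) (nat_lit 218) (nat_lit
  209) (nat_lit 154) (.node (.node (.node (.node (.node .nil (nat_lit 219) (nat_lit 147) (nat_lit 920) .nil)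
  (nat_lit 220) (nat_lit 178) (nat_lit 156) .nil) (nat_lit 221) (nat_lit 177) (nat_lit 283) (.node (.node .nil
  (nat_lit 222) (nat_lit 210) (nat_lit 252) .nil) (nat_lit 223) (nat_lit 178) (nat_lit 160) .nil)) (nat_lit
  224) (nat_lit 179) (nat_lit 932) (.node (.node (.node .nil (nat_lit 225) (nat_lit 210) (nat_lit 158) .nil)
  (nat_lit 226) (nat_lit 147) (nat_lit 936) .nil) (nat_lit 227) (nat_lit 147) (nat_lit 939) (.node .nil
  (nat_lit 228) (nat_lit 147) (nat_lit 941) .nil))) (nat_lit 229) (nat_lit 211) (nat_lit 1198) (.node (.node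
  (.node (.node .nil (nat_lit 230) (nat_lit 181) (nat_lit 297) .nil) (nat_lit 231) (nat_lit 115) (nat_lit 946)
  .nil) (nat_lit 232) (nat_lit 181) (nat_lit 304) (.node (.node .nil (nat_lit 233) (nat_lit 242) (nat_lit 256)
  .nil) (nat_lit 236) (nat_lit 161) (nat_lit 168) .nil)) (nat_lit 237) (nat_lit 162) (nat_lit 169) (.node
  (.node (.node .nil (nat_lit 238) (nat_lit 229) (nat_lit 318) .nil) (nat_lit 239) (nat_lit 197) (nat_lit 319)
  .nil) (nat_lit 240) (nat_lit 196) (nat_lit 320) (.node .nil (nat_lit 241) (nat_lit 168) (nat_lit 518)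
  .nil)))))))
def t5_1 : T := (.node (.node (.node (.node (.node (.node (.node (.node .nil (nat_lit 251) (nat_lit 194)
  (nat_lit 178) .nil) (nat_lit 252) (nat_lit 192) (nat_lit 178) .nil) (nat_lit 253) (nat_lit 162) (nat_lit
  228) (.node (.node .nil (nat_lit 254) (nat_lit 194) (nat_lit 186) .nil) (nat_lit 255) (nat_lit 161) (nat_lit
  187) .nil)) (nat_lit 256) (nat_lit 225) (nat_lit 318) (.node (.node (.node .nil (nat_lit 259) (nat_lit 65)
  (nat_lit 189) .nil) (nat_lit 260) (nat_lit 193) (nat_lit 335) .nil) (nat_lit 261) (nat_lit 136) (nat_lit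
  191) (.node .nil (nat_lit 262) (nat_lit 229) (nat_lit 190) .nil))) (nat_lit 263) (nat_lit 165) (nat_lit 339)
  (.node (.node (.node (.node .nil (nat_lit 264) (nat_lit 229) (nat_lit 192) .nil) (nat_lit 265) (nat_lit 164)
  (nat_lit 341) .nil) (nat_lit 266) (nat_lit 164) (nat_lit 340) (.node (.node .nil (nat_lit 267) (nat_lit 196)
  (nat_lit 347) .nil) (nat_lit 268) (nat_lit 193) (nat_lit 349) .nil)) (nat_lit 271) (nat_lit 131) (nat_lit
  976) (.node (.node (.node .nil (nat_lit 272) (nat_lit 192) (nat_lit 343) .nil) (nat_lit 273) (nat_lit 192)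
  (nat_lit 198) .nil) (nat_lit 274) (nat_lit 196) (nat_lit 359) (.node .nil (nat_lit 275) (nat_lit 164)
  (nat_lit 330) .nil)))) (nat_lit 276) (nat_lit 161) (nat_lit 360) (.node (.node (.node (.node (.node .nil
  (nat_lit 277) (nat_lit 160) (nat_lit 330) .nil) (nat_lit 278) (nat_lit 162) (nat_lit 227) .nil) (nat_lit
  283) (nat_lit 162) (nat_lit 204) (.node (.node .nil (nat_lit 284) (nat_lit 163) (nat_lit 996) .nil) (nat_lit
  289) (nat_lit 200) (nat_lit 230) .nil)) (nat_lit 294) (nat_lit 194) (nat_lit 211) (.node (.node (.node .nil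
  (nat_lit 295) (nat_lit 165) (nat_lit 365) .nil) (nat_lit 296) (nat_lit 98) (nat_lit 212) .nil) (nat_lit 297)
  (nat_lit 162) (nat_lit 226) (.node .nil (nat_lit 298) (nat_lit 225) (nat_lit 225) .nil))) (nat_lit 299)
  (nat_lit 197) (nat_lit 213) (.node (.node (.node (.node .nil (nat_lit 300) (nat_lit 194) (nat_lit 224) .nil)
  (nat_lit 301) (nat_lit 225) (nat_lit 222) .nil) (nat_lit 302) (nat_lit 162) (nat_lit 219) (.node (.node .nil
  (nat_lit 304) (nat_lit 163) (nat_lit 1053) .nil) (nat_lit 305) (nat_lit 131) (nat_lit 1058) .nil)) (nat_lit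
  306) (nat_lit 226) (nat_lit 329) (.node (.node (.node .nil (nat_lit 307) (nat_lit 130) (nat_lit 231) .nil)
  (nat_lit 308) (nat_lit 197) (nat_lit 335) .nil) (nat_lit 309) (nat_lit 99) (nat_lit 1067) (.node .nil
  (nat_lit 310) (nat_lit 131) (nat_lit 1068) .nil))))) (nat_lit 311) (nat_lit 226) (nat_lit 356) (.node (.node
  (.node (.node (.node (.node .nil (nat_lit 312) (nat_lit 232) (nat_lit 229) .nil) (nat_lit 315) (nat_lit 178)
  (nat_lit 236) .nil) (nat_lit 316) (nat_lit 216) (nat_lit 163) (.node (.node .nil (nat_lit 317) (nat_lit 213)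
  (nat_lit 391) .nil) (nat_lit 318) (nat_lit 212) (nat_lit 392) .nil)) (nat_lit 319) (nat_lit 180) (nat_lit
  255) (.node (.node (.node .nil (nat_lit 320) (nat_lit 177) (nat_lit 253) .nil) (nat_lit 321) (nat_lit 176)
  (nat_lit 255) .nil) (nat_lit 327) (nat_lit 184) (nat_lit 164) (.node .nil (nat_lit 329) (nat_lit 209)
  (nat_lit 391) .nil))) (nat_lit 330) (nat_lit 145) (nat_lit 307) (.node (.node (.node (.node .nil (nat_lit
  333) (nat_lit 211) (nat_lit 1091) .nil) (nat_lit 334) (nat_lit 82) (nat_lit 259) .nil) (nat_lit 335)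
  (nat_lit 178) (nat_lit 304) (.node (.node .nil (nat_lit 336) (nat_lit 152) (nat_lit 159) .nil) (nat_lit 337)
  (nat_lit 213) (nat_lit 260) .nil)) (nat_lit 338) (nat_lit 120) (nat_lit 133) (.node (.node (.node .nil
  (nat_lit 339) (nat_lit 152) (nat_lit 147) .nil) (nat_lit 340) (nat_lit 149) (nat_lit 261) .nil) (nat_lit
  341) (nat_lit 149) (nat_lit 406) (.node .nil (nat_lit 342) (nat_lit 209) (nat_lit 294) .nil)))) (nat_lit
  343) (nat_lit 177) (nat_lit 265) (.node (.node (.node (.node (.node .nil (nat_lit 344) (nat_lit 148)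
  (nat_lit 407) .nil) (nat_lit 345) (nat_lit 180) (nat_lit 413) .nil) (nat_lit 346) (nat_lit 180) (nat_lit
  404) (.node (.node .nil (nat_lit 347) (nat_lit 181) (nat_lit 403) .nil) (nat_lit 348) (nat_lit 144) (nat_lit
  415) .nil)) (nat_lit 349) (nat_lit 178) (nat_lit 284) (.node (.node (.node .nil (nat_lit 352) (nat_lit 146)
  (nat_lit 271) .nil) (nat_lit 353) (nat_lit 210) (nat_lit 272) .nil) (nat_lit 354) (nat_lit 176) (nat_lit
  410) (.node .nil (nat_lit 355) (nat_lit 208) (nat_lit 411) .nil))) (nat_lit 356) (nat_lit 209) (nat_lit 274)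
  (.node (.node (.node (.node .nil (nat_lit 358) (nat_lit 180) (nat_lit 277) .nil) (nat_lit 359) (nat_lit 176)
  (nat_lit 276) .nil) (nat_lit 360) (nat_lit 146) (nat_lit 305) (.node (.node .nil (nat_lit 365) (nat_lit 147)
  (nat_lit 1142) .nil) (nat_lit 368) (nat_lit 216) (nat_lit 299) .nil)) (nat_lit 372) (nat_lit 216) (nat_lit
  162) (.node (.node (.node .nil (nat_lit 374) (nat_lit 216) (nat_lit 308) .nil) (nat_lit 376) (nat_lit 149)
  (nat_lit 434) .nil) (nat_lit 378) (nat_lit 184) (nat_lit 62) (.node .nil (nat_lit 379) (nat_lit 149)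
  (nat_lit 310) .nil)))))) (nat_lit 380) (nat_lit 216) (nat_lit 118) (.node (.node (.node (.node (.node (.node
  (.node .nil (nat_lit 381) (nat_lit 115) (nat_lit 1216) .nil) (nat_lit 382) (nat_lit 210) (nat_lit 427) .nil)
  (nat_lit 383) (nat_lit 114) (nat_lit 309) (.node (.node .nil (nat_lit 384) (nat_lit 146) (nat_lit 310) .nil)
  (nat_lit 385) (nat_lit 115) (nat_lit 1228) .nil)) (nat_lit 386) (nat_lit 210) (nat_lit 412) (.node (.node
  (.node .nil (nat_lit 387) (nat_lit 210) (nat_lit 429) .nil) (nat_lit 388) (nat_lit 200) (nat_lit 103) .nil)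
  (nat_lit 389) (nat_lit 200) (nat_lit 232) (.node .nil (nat_lit 391) (nat_lit 196) (nat_lit 321) .nil)))
  (nat_lit 392) (nat_lit 192) (nat_lit 320) (.node (.node (.node (.node .nil (nat_lit 397) (nat_lit 232)
  (nat_lit 217) .nil) (nat_lit 399) (nat_lit 195) (nat_lit 1263) .nil) (nat_lit 400) (nat_lit 227) (nat_lit
  1264) (.node (.node .nil (nat_lit 401) (nat_lit 168) (nat_lit 102) .nil) (nat_lit 402) (nat_lit 136)
  (nat_lit 196) .nil)) (nat_lit 403) (nat_lit 168) (nat_lit 100) (.node (.node (.node .nil (nat_lit 404)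
  (nat_lit 165) (nat_lit 336) .nil) (nat_lit 405) (nat_lit 136) (nat_lit 86) .nil) (nat_lit 406) (nat_lit 136)
  (nat_lit 94) (.node .nil (nat_lit 407) (nat_lit 133) (nat_lit 338) .nil)))) (nat_lit 408) (nat_lit 165)
  (nat_lit 476) (.node (.node (.node (.node (.node .nil (nat_lit 409) (nat_lit 194) (nat_lit 343) .nil)
  (nat_lit 410) (nat_lit 161) (nat_lit 344) .nil) (nat_lit 411) (nat_lit 193) (nat_lit 480) (.node (.node .nil
  (nat_lit 412) (nat_lit 193) (nat_lit 345) .nil) (nat_lit 413) (nat_lit 165) (nat_lit 472) .nil)) (nat_lit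
  414) (nat_lit 164) (nat_lit 473) (.node (.node (.node .nil (nat_lit 415) (nat_lit 129) (nat_lit 383) .nil)
  (nat_lit 416) (nat_lit 160) (nat_lit 489) .nil) (nat_lit 417) (nat_lit 162) (nat_lit 365) (.node .nil
  (nat_lit 418) (nat_lit 164) (nat_lit 348) .nil))) (nat_lit 423) (nat_lit 194) (nat_lit 354) (.node (.node
  (.node (.node .nil (nat_lit 424) (nat_lit 226) (nat_lit 355) .nil) (nat_lit 426) (nat_lit 192) (nat_lit 484)
  .nil) (nat_lit 427) (nat_lit 193) (nat_lit 358) (.node (.node .nil (nat_lit 428) (nat_lit 224) (nat_lit 486)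
  .nil) (nat_lit 429) (nat_lit 193) (nat_lit 474) .nil)) (nat_lit 430) (nat_lit 130) (nat_lit 381) (.node
  (.node (.node .nil (nat_lit 434) (nat_lit 131) (nat_lit 1324) .nil) (nat_lit 436) (nat_lit 194) (nat_lit
  491) .nil) (nat_lit 440) (nat_lit 225) (nat_lit 497) (.node .nil (nat_lit 442) (nat_lit 232) (nat_lit 214)
  .nil))))) (nat_lit 443) (nat_lit 232) (nat_lit 337) (.node (.node (.node (.node (.node (.node .nil (nat_lit
  445) (nat_lit 165) (nat_lit 505) .nil) (nat_lit 447) (nat_lit 165) (nat_lit 490) .nil) (nat_lit 448)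
  (nat_lit 133) (nat_lit 385) (.node (.node .nil (nat_lit 449) (nat_lit 200) (nat_lit 179) .nil) (nat_lit 450)
  (nat_lit 162) (nat_lit 505) .nil)) (nat_lit 451) (nat_lit 232) (nat_lit 95) (.node (.node (.node .nil
  (nat_lit 452) (nat_lit 200) (nat_lit 180) .nil) (nat_lit 453) (nat_lit 229) (nat_lit 380) .nil) (nat_lit
  454) (nat_lit 194) (nat_lit 485) (.node .nil (nat_lit 455) (nat_lit 130) (nat_lit 385) .nil))) (nat_lit 456)
  (nat_lit 131) (nat_lit 1432) (.node (.node (.node (.node .nil (nat_lit 457) (nat_lit 226) (nat_lit 487)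
  .nil) (nat_lit 458) (nat_lit 168) (nat_lit 33) .nil) (nat_lit 459) (nat_lit 229) (nat_lit 387) (.node (.node
  .nil (nat_lit 463) (nat_lit 216) (nat_lit 153) .nil) (nat_lit 465) (nat_lit 216) (nat_lit 268) .nil))
  (nat_lit 466) (nat_lit 248) (nat_lit 149) (.node (.node (.node .nil (nat_lit 467) (nat_lit 245) (nat_lit
  397) .nil) (nat_lit 468) (nat_lit 179) (nat_lit 1483) .nil) (nat_lit 469) (nat_lit 211) (nat_lit 1484)
  (.node .nil (nat_lit 470) (nat_lit 149) (nat_lit 455) .nil)))) (nat_lit 471) (nat_lit 152) (nat_lit 271)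
  (.node (.node (.node (.node (.node .nil (nat_lit 472) (nat_lit 152) (nat_lit 151) .nil) (nat_lit 473)
  (nat_lit 149) (nat_lit 402) .nil) (nat_lit 474) (nat_lit 180) (nat_lit 416) (.node (.node .nil (nat_lit 475)
  (nat_lit 152) (nat_lit 114) .nil) (nat_lit 476) (nat_lit 152) (nat_lit 58) .nil)) (nat_lit 477) (nat_lit
  152) (nat_lit 138) (.node (.node (.node .nil (nat_lit 478) (nat_lit 149) (nat_lit 405) .nil) (nat_lit 479)
  (nat_lit 152) (nat_lit 53) .nil) (nat_lit 480) (nat_lit 180) (nat_lit 408) (.node .nil (nat_lit 481)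
  (nat_lit 178) (nat_lit 410) .nil))) (nat_lit 482) (nat_lit 210) (nat_lit 411) (.node (.node (.node (.node
  .nil (nat_lit 483) (nat_lit 181) (nat_lit 553) .nil) (nat_lit 484) (nat_lit 177) (nat_lit 561) .nil)
  (nat_lit 485) (nat_lit 177) (nat_lit 414) (.node (.node .nil (nat_lit 486) (nat_lit 209) (nat_lit 563) .nil)
  (nat_lit 487) (nat_lit 209) (nat_lit 569) .nil)) (nat_lit 488) (nat_lit 148) (nat_lit 415) (.node (.node
  (.node .nil (nat_lit 489) (nat_lit 145) (nat_lit 430) .nil) (nat_lit 490) (nat_lit 146) (nat_lit 434) .nil)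
  (nat_lit 491) (nat_lit 177) (nat_lit 418) (.node .nil (nat_lit 492) (nat_lit 181) (nat_lit 418) .nil)))))))
def t5_2 : T := (.node (.node (.node (.node (.node (.node (.node (.node .nil (nat_lit 498) (nat_lit 241)
  (nat_lit 424) .nil) (nat_lit 499) (nat_lit 242) (nat_lit 428) .nil) (nat_lit 502) (nat_lit 208) (nat_lit
  571) (.node (.node .nil (nat_lit 503) (nat_lit 213) (nat_lit 429) .nil) (nat_lit 504) (nat_lit 248) (nat_lit
  459) .nil)) (nat_lit 505) (nat_lit 147) (nat_lit 1554) (.node (.node (.node .nil (nat_lit 507) (nat_lit 210)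
  (nat_lit 572) .nil) (nat_lit 508) (nat_lit 184) (nat_lit 160) .nil) (nat_lit 509) (nat_lit 213) (nat_lit
  436) (.node .nil (nat_lit 511) (nat_lit 179) (nat_lit 1586) .nil))) (nat_lit 514) (nat_lit 248) (nat_lit
  298) (.node (.node (.node (.node .nil (nat_lit 515) (nat_lit 241) (nat_lit 583) .nil) (nat_lit 516) (nat_lit
  248) (nat_lit 264) .nil) (nat_lit 517) (nat_lit 181) (nat_lit 450) (.node (.node .nil (nat_lit 518) (nat_lit
  149) (nat_lit 456) .nil) (nat_lit 519) (nat_lit 184) (nat_lit 120) .nil)) (nat_lit 520) (nat_lit 177)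
  (nat_lit 450) (.node (.node (.node .nil (nat_lit 521) (nat_lit 216) (nat_lit 152) .nil) (nat_lit 522)
  (nat_lit 184) (nat_lit 246) .nil) (nat_lit 523) (nat_lit 211) (nat_lit 1627) (.node .nil (nat_lit 524)
  (nat_lit 213) (nat_lit 449) .nil)))) (nat_lit 525) (nat_lit 146) (nat_lit 456) (.node (.node (.node (.node
  (.node .nil (nat_lit 526) (nat_lit 245) (nat_lit 451) .nil) (nat_lit 527) (nat_lit 213) (nat_lit 452) .nil)
  (nat_lit 528) (nat_lit 216) (nat_lit 577) (.node (.node .nil (nat_lit 529) (nat_lit 184) (nat_lit 302) .nil)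
  (nat_lit 530) (nat_lit 145) (nat_lit 455) .nil)) (nat_lit 531) (nat_lit 243) (nat_lit 1693) (.node (.node
  (.node .nil (nat_lit 532) (nat_lit 184) (nat_lit 59) .nil) (nat_lit 533) (nat_lit 242) (nat_lit 573) .nil)
  (nat_lit 537) (nat_lit 200) (nat_lit 211) (.node .nil (nat_lit 539) (nat_lit 200) (nat_lit 221) .nil)))
  (nat_lit 540) (nat_lit 229) (nat_lit 463) (.node (.node (.node (.node .nil (nat_lit 542) (nat_lit 200)
  (nat_lit 349) .nil) (nat_lit 543) (nat_lit 232) (nat_lit 216) .nil) (nat_lit 544) (nat_lit 229) (nat_lit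
  465) (.node (.node .nil (nat_lit 545) (nat_lit 261) (nat_lit 466) .nil) (nat_lit 546) (nat_lit 197) (nat_lit
  474) .nil)) (nat_lit 547) (nat_lit 163) (nat_lit 1895) (.node (.node (.node .nil (nat_lit 548) (nat_lit 195)
  (nat_lit 1768) .nil) (nat_lit 549) (nat_lit 165) (nat_lit 525) .nil) (nat_lit 551) (nat_lit 168) (nat_lit
  227) (.node .nil (nat_lit 552) (nat_lit 168) (nat_lit 352) .nil))))) (nat_lit 553) (nat_lit 168) (nat_lit
  219) (.node (.node (.node (.node (.node (.node .nil (nat_lit 554) (nat_lit 168) (nat_lit 204) .nil) (nat_lit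
  555) (nat_lit 165) (nat_lit 471) .nil) (nat_lit 556) (nat_lit 164) (nat_lit 489) (.node (.node .nil (nat_lit
  557) (nat_lit 168) (nat_lit 74) .nil) (nat_lit 558) (nat_lit 168) (nat_lit 174) .nil)) (nat_lit 559)
  (nat_lit 168) (nat_lit 97) (.node (.node (.node .nil (nat_lit 560) (nat_lit 165) (nat_lit 477) .nil)
  (nat_lit 561) (nat_lit 164) (nat_lit 478) .nil) (nat_lit 562) (nat_lit 168) (nat_lit 89) (.node .nil
  (nat_lit 563) (nat_lit 196) (nat_lit 635) .nil))) (nat_lit 564) (nat_lit 197) (nat_lit 529) (.node (.node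
  (.node (.node .nil (nat_lit 565) (nat_lit 194) (nat_lit 484) .nil) (nat_lit 566) (nat_lit 200) (nat_lit 210)
  .nil) (nat_lit 567) (nat_lit 226) (nat_lit 486) (.node (.node .nil (nat_lit 568) (nat_lit 161) (nat_lit 490)
  .nil) (nat_lit 569) (nat_lit 196) (nat_lit 483) .nil)) (nat_lit 570) (nat_lit 164) (nat_lit 530) (.node
  (.node (.node .nil (nat_lit 571) (nat_lit 193) (nat_lit 636) .nil) (nat_lit 572) (nat_lit 193) (nat_lit 632)
  .nil) (nat_lit 573) (nat_lit 225) (nat_lit 646) (.node .nil (nat_lit 574) (nat_lit 228) (nat_lit 620)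
  .nil)))) (nat_lit 575) (nat_lit 165) (nat_lit 488) (.node (.node (.node (.node (.node .nil (nat_lit 577)
  (nat_lit 197) (nat_lit 491) .nil) (nat_lit 580) (nat_lit 200) (nat_lit 224) .nil) (nat_lit 583) (nat_lit
  226) (nat_lit 502) (.node (.node .nil (nat_lit 584) (nat_lit 232) (nat_lit 342) .nil) (nat_lit 585) (nat_lit
  257) (nat_lit 499) .nil)) (nat_lit 586) (nat_lit 232) (nat_lit 503) (.node (.node (.node .nil (nat_lit 588)
  (nat_lit 232) (nat_lit 509) .nil) (nat_lit 589) (nat_lit 227) (nat_lit 1854) .nil) (nat_lit 590) (nat_lit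
  200) (nat_lit 223) (.node .nil (nat_lit 591) (nat_lit 200) (nat_lit 220) .nil))) (nat_lit 592) (nat_lit 226)
  (nat_lit 648) (.node (.node (.node (.node .nil (nat_lit 593) (nat_lit 196) (nat_lit 520) .nil) (nat_lit 595)
  (nat_lit 232) (nat_lit 225) .nil) (nat_lit 596) (nat_lit 261) (nat_lit 514) (.node (.node .nil (nat_lit 597)
  (nat_lit 200) (nat_lit 492) .nil) (nat_lit 599) (nat_lit 196) (nat_lit 629) .nil)) (nat_lit 600) (nat_lit
  197) (nat_lit 519) (.node (.node (.node .nil (nat_lit 601) (nat_lit 161) (nat_lit 525) .nil) (nat_lit 602)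
  (nat_lit 229) (nat_lit 521) .nil) (nat_lit 603) (nat_lit 197) (nat_lit 522) (.node .nil (nat_lit 604)
  (nat_lit 227) (nat_lit 1959) .nil)))))) (nat_lit 605) (nat_lit 225) (nat_lit 661) (.node (.node (.node
  (.node (.node (.node (.node .nil (nat_lit 606) (nat_lit 228) (nat_lit 524) .nil) (nat_lit 607) (nat_lit 200)
  (nat_lit 98) .nil) (nat_lit 608) (nat_lit 259) (nat_lit 2034) (.node (.node .nil (nat_lit 609) (nat_lit 197)
  (nat_lit 532) .nil) (nat_lit 612) (nat_lit 216) (nat_lit 294) .nil)) (nat_lit 615) (nat_lit 184) (nat_lit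
  143) (.node (.node (.node .nil (nat_lit 616) (nat_lit 216) (nat_lit 158) .nil) (nat_lit 617) (nat_lit 213)
  (nat_lit 537) .nil) (nat_lit 619) (nat_lit 184) (nat_lit 283) (.node .nil (nat_lit 620) (nat_lit 213)
  (nat_lit 539) .nil))) (nat_lit 621) (nat_lit 184) (nat_lit 284) (.node (.node (.node (.node .nil (nat_lit
  622) (nat_lit 216) (nat_lit 300) .nil) (nat_lit 623) (nat_lit 184) (nat_lit 278) .nil) (nat_lit 624)
  (nat_lit 213) (nat_lit 542) (.node (.node .nil (nat_lit 626) (nat_lit 245) (nat_lit 543) .nil) (nat_lit 627)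
  (nat_lit 181) (nat_lit 556) .nil)) (nat_lit 629) (nat_lit 181) (nat_lit 552) (.node (.node (.node .nil
  (nat_lit 630) (nat_lit 184) (nat_lit 156) .nil) (nat_lit 631) (nat_lit 181) (nat_lit 554) .nil) (nat_lit
  632) (nat_lit 180) (nat_lit 555) (.node .nil (nat_lit 633) (nat_lit 180) (nat_lit 568) .nil)))) (nat_lit
  634) (nat_lit 181) (nat_lit 558) (.node (.node (.node (.node (.node .nil (nat_lit 635) (nat_lit 181)
  (nat_lit 559) .nil) (nat_lit 636) (nat_lit 180) (nat_lit 560) .nil) (nat_lit 637) (nat_lit 241) (nat_lit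
  683) (.node (.node .nil (nat_lit 638) (nat_lit 181) (nat_lit 562) .nil) (nat_lit 639) (nat_lit 241) (nat_lit
  574) .nil)) (nat_lit 640) (nat_lit 212) (nat_lit 564) (.node (.node (.node .nil (nat_lit 641) (nat_lit 180)
  (nat_lit 601) .nil) (nat_lit 642) (nat_lit 216) (nat_lit 157) .nil) (nat_lit 643) (nat_lit 210) (nat_lit
  571) (.node .nil (nat_lit 644) (nat_lit 213) (nat_lit 566) .nil))) (nat_lit 645) (nat_lit 212) (nat_lit 603)
  (.node (.node (.node (.node .nil (nat_lit 646) (nat_lit 212) (nat_lit 681) .nil) (nat_lit 647) (nat_lit 181)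
  (nat_lit 570) .nil) (nat_lit 648) (nat_lit 209) (nat_lit 682) (.node (.node .nil (nat_lit 649) (nat_lit 244)
  (nat_lit 602) .nil) (nat_lit 650) (nat_lit 212) (nat_lit 669) .nil)) (nat_lit 652) (nat_lit 213) (nat_lit
  580) (.node (.node (.node .nil (nat_lit 654) (nat_lit 245) (nat_lit 584) .nil) (nat_lit 655) (nat_lit 216)
  (nat_lit 546) .nil) (nat_lit 656) (nat_lit 243) (nat_lit 2224) (.node .nil (nat_lit 657) (nat_lit 213)
  (nat_lit 591) .nil))))) (nat_lit 658) (nat_lit 213) (nat_lit 593) (.node (.node (.node (.node (.node (.node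
  .nil (nat_lit 659) (nat_lit 245) (nat_lit 595) .nil) (nat_lit 660) (nat_lit 184) (nat_lit 575) .nil)
  (nat_lit 661) (nat_lit 212) (nat_lit 674) (.node (.node .nil (nat_lit 662) (nat_lit 213) (nat_lit 607) .nil)
  (nat_lit 663) (nat_lit 241) (nat_lit 687) .nil)) (nat_lit 666) (nat_lit 229) (nat_lit 612) (.node (.node
  (.node .nil (nat_lit 669) (nat_lit 197) (nat_lit 615) .nil) (nat_lit 670) (nat_lit 229) (nat_lit 616) .nil)
  (nat_lit 671) (nat_lit 200) (nat_lit 647) (.node .nil (nat_lit 672) (nat_lit 232) (nat_lit 658) .nil)))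
  (nat_lit 674) (nat_lit 197) (nat_lit 619) (.node (.node (.node (.node .nil (nat_lit 675) (nat_lit 197)
  (nat_lit 621) .nil) (nat_lit 676) (nat_lit 229) (nat_lit 622) .nil) (nat_lit 677) (nat_lit 197) (nat_lit
  641) (.node (.node .nil (nat_lit 678) (nat_lit 197) (nat_lit 633) .nil) (nat_lit 681) (nat_lit 197) (nat_lit
  630) .nil)) (nat_lit 682) (nat_lit 196) (nat_lit 631) (.node (.node (.node .nil (nat_lit 683) (nat_lit 228)
  (nat_lit 657) .nil) (nat_lit 684) (nat_lit 257) (nat_lit 649) .nil) (nat_lit 685) (nat_lit 229) (nat_lit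
  642) (.node .nil (nat_lit 686) (nat_lit 257) (nat_lit 692) .nil)))) (nat_lit 687) (nat_lit 228) (nat_lit
  644) (.node (.node (.node (.node (.node .nil (nat_lit 688) (nat_lit 228) (nat_lit 662) .nil) (nat_lit 689)
  (nat_lit 200) (nat_lit 627) .nil) (nat_lit 690) (nat_lit 216) (nat_lit 677) (.node (.node .nil (nat_lit 691)
  (nat_lit 216) (nat_lit 678) .nil) (nat_lit 692) (nat_lit 244) (nat_lit 685) .nil)) (nat_lit 702) (nat_lit
  67) (nat_lit 7) (.node (.node (.node .nil (nat_lit 707) (nat_lit 87) (nat_lit 702) .nil) (nat_lit 708)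
  (nat_lit 84) (nat_lit 702) .nil) (nat_lit 709) (nat_lit 118) (nat_lit 724) (.node .nil (nat_lit 710)
  (nat_lit 86) (nat_lit 702) .nil))) (nat_lit 716) (nat_lit 67) (nat_lit 28) (.node (.node (.node (.node .nil
  (nat_lit 717) (nat_lit 102) (nat_lit 738) .nil) (nat_lit 718) (nat_lit 103) (nat_lit 710) .nil) (nat_lit
  719) (nat_lit 67) (nat_lit 30) (.node (.node .nil (nat_lit 720) (nat_lit 101) (nat_lit 708) .nil) (nat_lit
  721) (nat_lit 102) (nat_lit 747) .nil)) (nat_lit 722) (nat_lit 102) (nat_lit 708) (.node (.node (.node .nil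
  (nat_lit 723) (nat_lit 134) (nat_lit 749) .nil) (nat_lit 724) (nat_lit 100) (nat_lit 747) .nil) (nat_lit
  730) (nat_lit 195) (nat_lit 36) (.node .nil (nat_lit 732) (nat_lit 51) (nat_lit 49) .nil)))))))
def t5_3 : T := (.node (.node (.node (.node (.node (.node (.node (.node .nil (nat_lit 734) (nat_lit 86)
  (nat_lit 769) .nil) (nat_lit 735) (nat_lit 86) (nat_lit 716) .nil) (nat_lit 737) (nat_lit 118) (nat_lit 774)
  (.node (.node .nil (nat_lit 738) (nat_lit 84) (nat_lit 769) .nil) (nat_lit 739) (nat_lit 82) (nat_lit 719)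
  .nil)) (nat_lit 740) (nat_lit 51) (nat_lit 54) (.node (.node (.node .nil (nat_lit 741) (nat_lit 85) (nat_lit
  719) .nil) (nat_lit 742) (nat_lit 86) (nat_lit 775) .nil) (nat_lit 743) (nat_lit 86) (nat_lit 719) (.node
  .nil (nat_lit 744) (nat_lit 245) (nat_lit 785) .nil))) (nat_lit 745) (nat_lit 118) (nat_lit 720) (.node
  (.node (.node (.node .nil (nat_lit 746) (nat_lit 118) (nat_lit 788) .nil) (nat_lit 747) (nat_lit 81)
  (nat_lit 775) .nil) (nat_lit 748) (nat_lit 150) (nat_lit 790) (.node (.node .nil (nat_lit 749) (nat_lit 117)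
  (nat_lit 724) .nil) (nat_lit 755) (nat_lit 150) (nat_lit 797) .nil)) (nat_lit 757) (nat_lit 182) (nat_lit
  800) (.node (.node (.node .nil (nat_lit 758) (nat_lit 211) (nat_lit 64) .nil) (nat_lit 759) (nat_lit 176)
  (nat_lit 800) .nil) (nat_lit 760) (nat_lit 66) (nat_lit 732) (.node .nil (nat_lit 761) (nat_lit 35) (nat_lit
  81) .nil)))) (nat_lit 762) (nat_lit 69) (nat_lit 732) (.node (.node (.node (.node (.node .nil (nat_lit 763)
  (nat_lit 70) (nat_lit 802) .nil) (nat_lit 764) (nat_lit 70) (nat_lit 732) .nil) (nat_lit 765) (nat_lit 229)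
  (nat_lit 814) (.node (.node .nil (nat_lit 766) (nat_lit 102) (nat_lit 733) .nil) (nat_lit 768) (nat_lit 102)
  (nat_lit 820) .nil)) (nat_lit 769) (nat_lit 65) (nat_lit 802) (.node (.node (.node .nil (nat_lit 773)
  (nat_lit 134) (nat_lit 828) .nil) (nat_lit 774) (nat_lit 101) (nat_lit 738) .nil) (nat_lit 775) (nat_lit 66)
  (nat_lit 740) (.node .nil (nat_lit 776) (nat_lit 101) (nat_lit 739) .nil))) (nat_lit 777) (nat_lit 70)
  (nat_lit 740) (.node (.node (.node (.node .nil (nat_lit 778) (nat_lit 102) (nat_lit 739) .nil) (nat_lit 779)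
  (nat_lit 69) (nat_lit 740) .nil) (nat_lit 780) (nat_lit 100) (nat_lit 741) (.node (.node .nil (nat_lit 781)
  (nat_lit 228) (nat_lit 836) .nil) (nat_lit 782) (nat_lit 102) (nat_lit 741) .nil)) (nat_lit 783) (nat_lit
  102) (nat_lit 829) (.node (.node (.node .nil (nat_lit 784) (nat_lit 224) (nat_lit 842) .nil) (nat_lit 785)
  (nat_lit 232) (nat_lit 1995) .nil) (nat_lit 786) (nat_lit 264) (nat_lit 1060) (.node .nil (nat_lit 787)
  (nat_lit 134) (nat_lit 849) .nil))))) (nat_lit 788) (nat_lit 101) (nat_lit 747) (.node (.node (.node (.node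
  (.node (.node .nil (nat_lit 789) (nat_lit 166) (nat_lit 852) .nil) (nat_lit 790) (nat_lit 132) (nat_lit 749)
  .nil) (nat_lit 794) (nat_lit 134) (nat_lit 830) (.node (.node .nil (nat_lit 795) (nat_lit 166) (nat_lit 856)
  .nil) (nat_lit 796) (nat_lit 134) (nat_lit 857) .nil)) (nat_lit 797) (nat_lit 129) (nat_lit 830) (.node
  (.node (.node .nil (nat_lit 798) (nat_lit 166) (nat_lit 861) .nil) (nat_lit 799) (nat_lit 198) (nat_lit 863)
  .nil) (nat_lit 800) (nat_lit 161) (nat_lit 861) (.node .nil (nat_lit 801) (nat_lit 192) (nat_lit 863)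
  .nil))) (nat_lit 802) (nat_lit 50) (nat_lit 761) (.node (.node (.node (.node .nil (nat_lit 803) (nat_lit 85)
  (nat_lit 760) .nil) (nat_lit 804) (nat_lit 54) (nat_lit 761) .nil) (nat_lit 805) (nat_lit 86) (nat_lit 760)
  (.node (.node .nil (nat_lit 807) (nat_lit 53) (nat_lit 761) .nil) (nat_lit 808) (nat_lit 84) (nat_lit 762)
  .nil)) (nat_lit 809) (nat_lit 244) (nat_lit 874) (.node (.node (.node .nil (nat_lit 810) (nat_lit 86)
  (nat_lit 762) .nil) (nat_lit 812) (nat_lit 86) (nat_lit 865) .nil) (nat_lit 813) (nat_lit 209) (nat_lit 876)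
  (.node .nil (nat_lit 814) (nat_lit 216) (nat_lit 1675) .nil)))) (nat_lit 815) (nat_lit 245) (nat_lit 886)
  (.node (.node (.node (.node (.node .nil (nat_lit 819) (nat_lit 118) (nat_lit 893) .nil) (nat_lit 820)
  (nat_lit 85) (nat_lit 769) .nil) (nat_lit 827) (nat_lit 150) (nat_lit 906) (.node (.node .nil (nat_lit 828)
  (nat_lit 116) (nat_lit 774) .nil) (nat_lit 829) (nat_lit 85) (nat_lit 775) .nil)) (nat_lit 830) (nat_lit
  116) (nat_lit 776) (.node (.node (.node .nil (nat_lit 831) (nat_lit 244) (nat_lit 909) .nil) (nat_lit 832)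
  (nat_lit 118) (nat_lit 776) .nil) (nat_lit 833) (nat_lit 86) (nat_lit 779) (.node .nil (nat_lit 834)
  (nat_lit 84) (nat_lit 779) .nil))) (nat_lit 835) (nat_lit 212) (nat_lit 915) (.node (.node (.node (.node
  .nil (nat_lit 836) (nat_lit 208) (nat_lit 915) .nil) (nat_lit 837) (nat_lit 118) (nat_lit 780) .nil)
  (nat_lit 838) (nat_lit 240) (nat_lit 917) (.node (.node .nil (nat_lit 839) (nat_lit 244) (nat_lit 917) .nil)
  (nat_lit 840) (nat_lit 248) (nat_lit 1217) .nil)) (nat_lit 841) (nat_lit 118) (nat_lit 907) (.node (.node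
  (.node .nil (nat_lit 842) (nat_lit 209) (nat_lit 921) .nil) (nat_lit 843) (nat_lit 208) (nat_lit 922) .nil)
  (nat_lit 844) (nat_lit 214) (nat_lit 928) (.node .nil (nat_lit 845) (nat_lit 213) (nat_lit 928) .nil))))))
  (nat_lit 846) (nat_lit 209) (nat_lit 929) (.node (.node (.node (.node (.node (.node (.node .nil (nat_lit
  847) (nat_lit 248) (nat_lit 2391) .nil) (nat_lit 848) (nat_lit 150) (nat_lit 933) .nil) (nat_lit 849)
  (nat_lit 116) (nat_lit 788) (.node (.node .nil (nat_lit 850) (nat_lit 182) (nat_lit 935) .nil) (nat_lit 851)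
  (nat_lit 182) (nat_lit 937) .nil)) (nat_lit 852) (nat_lit 145) (nat_lit 790) (.node (.node (.node .nil
  (nat_lit 853) (nat_lit 118) (nat_lit 866) .nil) (nat_lit 854) (nat_lit 150) (nat_lit 940) .nil) (nat_lit
  855) (nat_lit 150) (nat_lit 942) (.node .nil (nat_lit 856) (nat_lit 144) (nat_lit 797) .nil))) (nat_lit 857)
  (nat_lit 113) (nat_lit 866) (.node (.node (.node (.node .nil (nat_lit 858) (nat_lit 150) (nat_lit 945) .nil)
  (nat_lit 859) (nat_lit 182) (nat_lit 948) .nil) (nat_lit 860) (nat_lit 149) (nat_lit 936) (.node (.node .nil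
  (nat_lit 861) (nat_lit 146) (nat_lit 945) .nil) (nat_lit 862) (nat_lit 120) (nat_lit 766) .nil)) (nat_lit
  863) (nat_lit 177) (nat_lit 948) (.node (.node (.node .nil (nat_lit 865) (nat_lit 69) (nat_lit 802) .nil)
  (nat_lit 866) (nat_lit 100) (nat_lit 803) .nil) (nat_lit 867) (nat_lit 260) (nat_lit 955) (.node .nil
  (nat_lit 868) (nat_lit 102) (nat_lit 803) .nil)))) (nat_lit 870) (nat_lit 70) (nat_lit 807) (.node (.node
  (.node (.node (.node .nil (nat_lit 872) (nat_lit 68) (nat_lit 807) .nil) (nat_lit 873) (nat_lit 228)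
  (nat_lit 964) .nil) (nat_lit 874) (nat_lit 224) (nat_lit 964) (.node (.node .nil (nat_lit 875) (nat_lit 102)
  (nat_lit 808) .nil) (nat_lit 876) (nat_lit 196) (nat_lit 966) .nil)) (nat_lit 877) (nat_lit 228) (nat_lit
  973) (.node (.node (.node .nil (nat_lit 878) (nat_lit 264) (nat_lit 1069) .nil) (nat_lit 880) (nat_lit 102)
  (nat_lit 953) .nil) (nat_lit 881) (nat_lit 224) (nat_lit 813) (.node .nil (nat_lit 882) (nat_lit 193)
  (nat_lit 970) .nil))) (nat_lit 883) (nat_lit 196) (nat_lit 983) (.node (.node (.node (.node .nil (nat_lit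
  884) (nat_lit 197) (nat_lit 985) .nil) (nat_lit 885) (nat_lit 193) (nat_lit 986) .nil) (nat_lit 886)
  (nat_lit 232) (nat_lit 2007) (.node (.node .nil (nat_lit 892) (nat_lit 134) (nat_lit 997) .nil) (nat_lit
  893) (nat_lit 100) (nat_lit 820) .nil)) (nat_lit 904) (nat_lit 166) (nat_lit 1015) (.node (.node (.node .nil
  (nat_lit 905) (nat_lit 166) (nat_lit 1017) .nil) (nat_lit 906) (nat_lit 129) (nat_lit 828) .nil) (nat_lit
  907) (nat_lit 100) (nat_lit 829) (.node .nil (nat_lit 908) (nat_lit 228) (nat_lit 1019) .nil))))) (nat_lit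
  909) (nat_lit 229) (nat_lit 1020) (.node (.node (.node (.node (.node (.node .nil (nat_lit 910) (nat_lit 229)
  (nat_lit 1022) .nil) (nat_lit 911) (nat_lit 228) (nat_lit 1021) .nil) (nat_lit 912) (nat_lit 229) (nat_lit
  835) (.node (.node .nil (nat_lit 913) (nat_lit 102) (nat_lit 834) .nil) (nat_lit 914) (nat_lit 97) (nat_lit
  834) .nil)) (nat_lit 915) (nat_lit 193) (nat_lit 1025) (.node (.node (.node .nil (nat_lit 916) (nat_lit 228)
  (nat_lit 1026) .nil) (nat_lit 917) (nat_lit 225) (nat_lit 1028) .nil) (nat_lit 918) (nat_lit 224) (nat_lit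
  973) (.node .nil (nat_lit 919) (nat_lit 224) (nat_lit 1026) .nil))) (nat_lit 920) (nat_lit 134) (nat_lit
  1018) (.node (.node (.node (.node .nil (nat_lit 921) (nat_lit 194) (nat_lit 1031) .nil) (nat_lit 922)
  (nat_lit 193) (nat_lit 1032) .nil) (nat_lit 923) (nat_lit 195) (nat_lit 183) (.node (.node .nil (nat_lit
  924) (nat_lit 225) (nat_lit 1035) .nil) (nat_lit 925) (nat_lit 230) (nat_lit 1042) .nil)) (nat_lit 926)
  (nat_lit 229) (nat_lit 1042) (.node (.node (.node .nil (nat_lit 927) (nat_lit 198) (nat_lit 1044) .nil)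
  (nat_lit 928) (nat_lit 196) (nat_lit 1044) .nil) (nat_lit 929) (nat_lit 194) (nat_lit 1045) (.node .nil
  (nat_lit 930) (nat_lit 225) (nat_lit 1046) .nil)))) (nat_lit 931) (nat_lit 166) (nat_lit 1048) (.node (.node
  (.node (.node (.node .nil (nat_lit 932) (nat_lit 166) (nat_lit 1049) .nil) (nat_lit 933) (nat_lit 129)
  (nat_lit 849) .nil) (nat_lit 934) (nat_lit 168) (nat_lit 827) (.node (.node .nil (nat_lit 935) (nat_lit 162)
  (nat_lit 852) .nil) (nat_lit 936) (nat_lit 136) (nat_lit 1413) .nil)) (nat_lit 937) (nat_lit 160) (nat_lit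
  852) (.node (.node (.node .nil (nat_lit 938) (nat_lit 166) (nat_lit 1057) .nil) (nat_lit 939) (nat_lit 134)
  (nat_lit 1059) .nil) (nat_lit 940) (nat_lit 128) (nat_lit 1018) (.node .nil (nat_lit 941) (nat_lit 136)
  (nat_lit 745) .nil))) (nat_lit 942) (nat_lit 128) (nat_lit 857) (.node (.node (.node (.node .nil (nat_lit
  943) (nat_lit 166) (nat_lit 1064) .nil) (nat_lit 944) (nat_lit 166) (nat_lit 1066) .nil) (nat_lit 945)
  (nat_lit 131) (nat_lit 1408) (.node (.node .nil (nat_lit 946) (nat_lit 104) (nat_lit 810) .nil) (nat_lit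
  947) (nat_lit 165) (nat_lit 1053) .nil)) (nat_lit 948) (nat_lit 162) (nat_lit 1064) (.node (.node (.node
  .nil (nat_lit 949) (nat_lit 133) (nat_lit 1055) .nil) (nat_lit 950) (nat_lit 259) (nat_lit 233) .nil)
  (nat_lit 951) (nat_lit 104) (nat_lit 733) (.node .nil (nat_lit 953) (nat_lit 84) (nat_lit 865) .nil)))))))
def t5_4 : T := (.node (.node (.node (.node (.node (.node (.node (.node .nil (nat_lit 955) (nat_lit 245)
  (nat_lit 1080) .nil) (nat_lit 956) (nat_lit 182) (nat_lit 1084) .nil) (nat_lit 957) (nat_lit 244) (nat_lit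
  1085) (.node (.node .nil (nat_lit 958) (nat_lit 245) (nat_lit 873) .nil) (nat_lit 960) (nat_lit 86) (nat_lit
  872) .nil)) (nat_lit 963) (nat_lit 81) (nat_lit 872) (.node (.node (.node .nil (nat_lit 964) (nat_lit 209)
  (nat_lit 1093) .nil) (nat_lit 965) (nat_lit 147) (nat_lit 261) .nil) (nat_lit 966) (nat_lit 181) (nat_lit
  1097) (.node .nil (nat_lit 967) (nat_lit 244) (nat_lit 1099) .nil))) (nat_lit 968) (nat_lit 245) (nat_lit
  1100) (.node (.node (.node (.node .nil (nat_lit 969) (nat_lit 180) (nat_lit 1098) .nil) (nat_lit 970)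
  (nat_lit 180) (nat_lit 1084) .nil) (nat_lit 971) (nat_lit 182) (nat_lit 1078) (.node (.node .nil (nat_lit
  972) (nat_lit 181) (nat_lit 1078) .nil) (nat_lit 973) (nat_lit 209) (nat_lit 1108) .nil)) (nat_lit 976)
  (nat_lit 118) (nat_lit 1076) (.node (.node (.node .nil (nat_lit 977) (nat_lit 208) (nat_lit 1101) .nil)
  (nat_lit 978) (nat_lit 208) (nat_lit 882) .nil) (nat_lit 979) (nat_lit 212) (nat_lit 1120) (.node .nil
  (nat_lit 980) (nat_lit 213) (nat_lit 1122) .nil)))) (nat_lit 981) (nat_lit 180) (nat_lit 1121) (.node (.node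
  (.node (.node (.node .nil (nat_lit 982) (nat_lit 213) (nat_lit 1123) .nil) (nat_lit 983) (nat_lit 177)
  (nat_lit 1124) .nil) (nat_lit 984) (nat_lit 176) (nat_lit 1121) (.node (.node .nil (nat_lit 985) (nat_lit
  177) (nat_lit 1078) .nil) (nat_lit 986) (nat_lit 178) (nat_lit 1127) .nil)) (nat_lit 987) (nat_lit 209)
  (nat_lit 1129) (.node (.node (.node .nil (nat_lit 995) (nat_lit 150) (nat_lit 1141) .nil) (nat_lit 996)
  (nat_lit 150) (nat_lit 1143) .nil) (nat_lit 997) (nat_lit 113) (nat_lit 893) (.node .nil (nat_lit 1006)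
  (nat_lit 211) (nat_lit 289) .nil))) (nat_lit 1014) (nat_lit 184) (nat_lit 789) (.node (.node (.node (.node
  .nil (nat_lit 1015) (nat_lit 146) (nat_lit 906) .nil) (nat_lit 1016) (nat_lit 149) (nat_lit 1142) .nil)
  (nat_lit 1017) (nat_lit 144) (nat_lit 906) (.node (.node .nil (nat_lit 1018) (nat_lit 113) (nat_lit 907)
  .nil) (nat_lit 1019) (nat_lit 209) (nat_lit 1177) .nil)) (nat_lit 1020) (nat_lit 212) (nat_lit 1178) (.node
  (.node (.node .nil (nat_lit 1021) (nat_lit 213) (nat_lit 1178) .nil) (nat_lit 1022) (nat_lit 208) (nat_lit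
  1178) .nil) (nat_lit 1023) (nat_lit 118) (nat_lit 914) (.node .nil (nat_lit 1024) (nat_lit 114) (nat_lit
  914) .nil))))) (nat_lit 1025) (nat_lit 178) (nat_lit 1182) (.node (.node (.node (.node (.node (.node .nil
  (nat_lit 1026) (nat_lit 209) (nat_lit 1183) .nil) (nat_lit 1027) (nat_lit 214) (nat_lit 1178) .nil) (nat_lit
  1028) (nat_lit 210) (nat_lit 1185) (.node (.node .nil (nat_lit 1029) (nat_lit 240) (nat_lit 1099) .nil)
  (nat_lit 1030) (nat_lit 150) (nat_lit 1176) .nil)) (nat_lit 1031) (nat_lit 179) (nat_lit 931) (.node (.node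
  (.node .nil (nat_lit 1032) (nat_lit 178) (nat_lit 1186) .nil) (nat_lit 1033) (nat_lit 178) (nat_lit 1187)
  .nil) (nat_lit 1034) (nat_lit 210) (nat_lit 1188) (.node .nil (nat_lit 1035) (nat_lit 210) (nat_lit 1189)
  .nil))) (nat_lit 1037) (nat_lit 211) (nat_lit 251) (.node (.node (.node (.node .nil (nat_lit 1038) (nat_lit
  209) (nat_lit 1192) .nil) (nat_lit 1039) (nat_lit 179) (nat_lit 237) .nil) (nat_lit 1040) (nat_lit 212)
  (nat_lit 1197) (.node (.node .nil (nat_lit 1041) (nat_lit 214) (nat_lit 1199) .nil) (nat_lit 1042) (nat_lit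
  212) (nat_lit 1199) .nil)) (nat_lit 1043) (nat_lit 182) (nat_lit 1201) (.node (.node (.node .nil (nat_lit
  1044) (nat_lit 177) (nat_lit 1201) .nil) (nat_lit 1045) (nat_lit 179) (nat_lit 938) .nil) (nat_lit 1046)
  (nat_lit 210) (nat_lit 1202) (.node .nil (nat_lit 1047) (nat_lit 182) (nat_lit 1204) .nil)))) (nat_lit 1048)
  (nat_lit 146) (nat_lit 933) (.node (.node (.node (.node (.node .nil (nat_lit 1049) (nat_lit 144) (nat_lit
  933) .nil) (nat_lit 1050) (nat_lit 152) (nat_lit 773) .nil) (nat_lit 1051) (nat_lit 152) (nat_lit 1667)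
  (.node (.node .nil (nat_lit 1052) (nat_lit 152) (nat_lit 906) .nil) (nat_lit 1053) (nat_lit 152) (nat_lit
  1213) .nil)) (nat_lit 1054) (nat_lit 115) (nat_lit 296) (.node (.node (.node .nil (nat_lit 1055) (nat_lit
  120) (nat_lit 1211) .nil) (nat_lit 1056) (nat_lit 150) (nat_lit 1215) .nil) (nat_lit 1057) (nat_lit 146)
  (nat_lit 940) (.node .nil (nat_lit 1058) (nat_lit 120) (nat_lit 782) .nil))) (nat_lit 1059) (nat_lit 112)
  (nat_lit 1076) (.node (.node (.node (.node .nil (nat_lit 1060) (nat_lit 243) (nat_lit 306) .nil) (nat_lit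
  1061) (nat_lit 120) (nat_lit 720) .nil) (nat_lit 1062) (nat_lit 120) (nat_lit 868) (.node (.node .nil
  (nat_lit 1063) (nat_lit 182) (nat_lit 1225) .nil) (nat_lit 1064) (nat_lit 147) (nat_lit 1641) .nil))
  (nat_lit 1065) (nat_lit 182) (nat_lit 1227) (.node (.node (.node .nil (nat_lit 1066) (nat_lit 147) (nat_lit
  1207) .nil) (nat_lit 1067) (nat_lit 88) (nat_lit 870) .nil) (nat_lit 1068) (nat_lit 120) (nat_lit 875)
  (.node .nil (nat_lit 1069) (nat_lit 243) (nat_lit 311) .nil)))))) (nat_lit 1070) (nat_lit 88) (nat_lit 762)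
  (.node (.node (.node (.node (.node (.node (.node .nil (nat_lit 1071) (nat_lit 149) (nat_lit 1212) .nil)
  (nat_lit 1072) (nat_lit 248) (nat_lit 2406) .nil) (nat_lit 1073) (nat_lit 245) (nat_lit 1235) (.node (.node
  .nil (nat_lit 1076) (nat_lit 97) (nat_lit 953) .nil) (nat_lit 1077) (nat_lit 225) (nat_lit 1240) .nil))
  (nat_lit 1078) (nat_lit 162) (nat_lit 965) (.node (.node (.node .nil (nat_lit 1079) (nat_lit 197) (nat_lit
  1244) .nil) (nat_lit 1080) (nat_lit 228) (nat_lit 1246) .nil) (nat_lit 1081) (nat_lit 166) (nat_lit 1250)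
  (.node .nil (nat_lit 1082) (nat_lit 198) (nat_lit 966) .nil))) (nat_lit 1083) (nat_lit 166) (nat_lit 965)
  (.node (.node (.node (.node .nil (nat_lit 1084) (nat_lit 165) (nat_lit 965) .nil) (nat_lit 1085) (nat_lit
  229) (nat_lit 1246) .nil) (nat_lit 1088) (nat_lit 102) (nat_lit 963) (.node (.node .nil (nat_lit 1091)
  (nat_lit 198) (nat_lit 1253) .nil) (nat_lit 1092) (nat_lit 98) (nat_lit 963) .nil)) (nat_lit 1093) (nat_lit
  194) (nat_lit 1265) (.node (.node (.node .nil (nat_lit 1094) (nat_lit 163) (nat_lit 336) .nil) (nat_lit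
  1095) (nat_lit 230) (nat_lit 1246) .nil) (nat_lit 1096) (nat_lit 131) (nat_lit 338) (.node .nil (nat_lit
  1097) (nat_lit 163) (nat_lit 339) .nil)))) (nat_lit 1098) (nat_lit 165) (nat_lit 1272) (.node (.node (.node
  (.node (.node .nil (nat_lit 1099) (nat_lit 225) (nat_lit 1274) .nil) (nat_lit 1100) (nat_lit 224) (nat_lit
  1246) .nil) (nat_lit 1101) (nat_lit 193) (nat_lit 969) (.node (.node .nil (nat_lit 1102) (nat_lit 164)
  (nat_lit 1250) .nil) (nat_lit 1103) (nat_lit 166) (nat_lit 1243) .nil)) (nat_lit 1104) (nat_lit 165)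
  (nat_lit 1243) (.node (.node (.node .nil (nat_lit 1105) (nat_lit 198) (nat_lit 1244) .nil) (nat_lit 1106)
  (nat_lit 197) (nat_lit 1269) .nil) (nat_lit 1107) (nat_lit 160) (nat_lit 1282) (.node .nil (nat_lit 1108)
  (nat_lit 194) (nat_lit 1286) .nil))) (nat_lit 1111) (nat_lit 134) (nat_lit 1239) (.node (.node (.node (.node
  .nil (nat_lit 1112) (nat_lit 226) (nat_lit 977) .nil) (nat_lit 1113) (nat_lit 192) (nat_lit 1276) .nil)
  (nat_lit 1114) (nat_lit 224) (nat_lit 1277) (.node (.node .nil (nat_lit 1115) (nat_lit 198) (nat_lit 1303)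
  .nil) (nat_lit 1116) (nat_lit 197) (nat_lit 1303) .nil)) (nat_lit 1118) (nat_lit 196) (nat_lit 984) (.node
  (.node (.node .nil (nat_lit 1119) (nat_lit 229) (nat_lit 1305) .nil) (nat_lit 1120) (nat_lit 192) (nat_lit
  983) .nil) (nat_lit 1121) (nat_lit 161) (nat_lit 1302) (.node .nil (nat_lit 1122) (nat_lit 192) (nat_lit
  985) .nil))))) (nat_lit 1123) (nat_lit 193) (nat_lit 1244) (.node (.node (.node (.node (.node (.node .nil
  (nat_lit 1124) (nat_lit 162) (nat_lit 1308) .nil) (nat_lit 1125) (nat_lit 198) (nat_lit 983) .nil) (nat_lit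
  1126) (nat_lit 198) (nat_lit 984) (.node (.node .nil (nat_lit 1127) (nat_lit 163) (nat_lit 1056) .nil)
  (nat_lit 1128) (nat_lit 162) (nat_lit 1311) .nil)) (nat_lit 1129) (nat_lit 194) (nat_lit 1312) (.node (.node
  (.node .nil (nat_lit 1133) (nat_lit 195) (nat_lit 315) .nil) (nat_lit 1140) (nat_lit 166) (nat_lit 1330)
  .nil) (nat_lit 1141) (nat_lit 130) (nat_lit 997) (.node .nil (nat_lit 1142) (nat_lit 136) (nat_lit 837)
  .nil))) (nat_lit 1143) (nat_lit 128) (nat_lit 997) (.node (.node (.node (.node .nil (nat_lit 1150) (nat_lit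
  227) (nat_lit 368) .nil) (nat_lit 1156) (nat_lit 232) (nat_lit 2728) .nil) (nat_lit 1159) (nat_lit 227)
  (nat_lit 374) (.node (.node .nil (nat_lit 1160) (nat_lit 230) (nat_lit 1006) .nil) (nat_lit 1164) (nat_lit
  133) (nat_lit 1324) .nil)) (nat_lit 1170) (nat_lit 168) (nat_lit 748) (.node (.node (.node .nil (nat_lit
  1171) (nat_lit 165) (nat_lit 1329) .nil) (nat_lit 1172) (nat_lit 168) (nat_lit 852) .nil) (nat_lit 1173)
  (nat_lit 133) (nat_lit 1068) (.node .nil (nat_lit 1174) (nat_lit 227) (nat_lit 380) .nil)))) (nat_lit 1175)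
  (nat_lit 133) (nat_lit 1332) (.node (.node (.node (.node (.node .nil (nat_lit 1176) (nat_lit 130) (nat_lit
  1018) .nil) (nat_lit 1177) (nat_lit 194) (nat_lit 1384) .nil) (nat_lit 1178) (nat_lit 193) (nat_lit 1385)
  (.node (.node .nil (nat_lit 1179) (nat_lit 230) (nat_lit 1026) .nil) (nat_lit 1180) (nat_lit 197) (nat_lit
  1385) .nil)) (nat_lit 1181) (nat_lit 134) (nat_lit 1024) (.node (.node (.node .nil (nat_lit 1182) (nat_lit
  163) (nat_lit 1051) .nil) (nat_lit 1183) (nat_lit 194) (nat_lit 1388) .nil) (nat_lit 1184) (nat_lit 198)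
  (nat_lit 1385) (.node .nil (nat_lit 1185) (nat_lit 195) (nat_lit 1047) .nil))) (nat_lit 1186) (nat_lit 163)
  (nat_lit 995) (.node (.node (.node (.node .nil (nat_lit 1187) (nat_lit 163) (nat_lit 1030) .nil) (nat_lit
  1188) (nat_lit 195) (nat_lit 850) .nil) (nat_lit 1189) (nat_lit 195) (nat_lit 1403) (.node (.node .nil
  (nat_lit 1191) (nat_lit 194) (nat_lit 1391) .nil) (nat_lit 1192) (nat_lit 194) (nat_lit 1392) .nil))
  (nat_lit 1193) (nat_lit 194) (nat_lit 1394) (.node (.node (.node .nil (nat_lit 1194) (nat_lit 226) (nat_lit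
  1395) .nil) (nat_lit 1196) (nat_lit 228) (nat_lit 1320) .nil) (nat_lit 1197) (nat_lit 192) (nat_lit 1044)
  (.node .nil (nat_lit 1198) (nat_lit 198) (nat_lit 1400) .nil)))))))
def t5_5 : T := (.node (.node (.node (.node (.node (.node (.node (.node .nil (nat_lit 1200) (nat_lit 166)
  (nat_lit 1401) .nil) (nat_lit 1201) (nat_lit 162) (nat_lit 1401) .nil) (nat_lit 1202) (nat_lit 195) (nat_lit
  1405) (.node (.node .nil (nat_lit 1203) (nat_lit 165) (nat_lit 1050) .nil) (nat_lit 1204) (nat_lit 162)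
  (nat_lit 1049) .nil)) (nat_lit 1205) (nat_lit 168) (nat_lit 1990) (.node (.node (.node .nil (nat_lit 1206)
  (nat_lit 136) (nat_lit 737) .nil) (nat_lit 1207) (nat_lit 136) (nat_lit 828) .nil) (nat_lit 1208) (nat_lit
  168) (nat_lit 1411) (.node .nil (nat_lit 1209) (nat_lit 131) (nat_lit 1024) .nil))) (nat_lit 1210) (nat_lit
  136) (nat_lit 1409) (.node (.node (.node (.node .nil (nat_lit 1211) (nat_lit 99) (nat_lit 334) .nil)
  (nat_lit 1212) (nat_lit 136) (nat_lit 1054) .nil) (nat_lit 1213) (nat_lit 134) (nat_lit 1054) (.node (.node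
  .nil (nat_lit 1214) (nat_lit 136) (nat_lit 832) .nil) (nat_lit 1215) (nat_lit 130) (nat_lit 1059) .nil))
  (nat_lit 1216) (nat_lit 104) (nat_lit 833) (.node (.node (.node .nil (nat_lit 1217) (nat_lit 227) (nat_lit
  382) .nil) (nat_lit 1218) (nat_lit 104) (nat_lit 741) .nil) (nat_lit 1219) (nat_lit 262) (nat_lit 1060)
  (.node .nil (nat_lit 1220) (nat_lit 104) (nat_lit 812) .nil)))) (nat_lit 1221) (nat_lit 136) (nat_lit 853)
  (.node (.node (.node (.node (.node .nil (nat_lit 1222) (nat_lit 227) (nat_lit 1293) .nil) (nat_lit 1223)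
  (nat_lit 104) (nat_lit 803) .nil) (nat_lit 1224) (nat_lit 198) (nat_lit 1430) (.node (.node .nil (nat_lit
  1225) (nat_lit 163) (nat_lit 1376) .nil) (nat_lit 1226) (nat_lit 198) (nat_lit 1431) .nil)) (nat_lit 1227)
  (nat_lit 163) (nat_lit 1052) (.node (.node (.node .nil (nat_lit 1228) (nat_lit 104) (nat_lit 960) .nil)
  (nat_lit 1229) (nat_lit 227) (nat_lit 386) .nil) (nat_lit 1230) (nat_lit 72) (nat_lit 807) (.node .nil
  (nat_lit 1231) (nat_lit 227) (nat_lit 387) .nil))) (nat_lit 1232) (nat_lit 104) (nat_lit 808) (.node (.node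
  (.node (.node .nil (nat_lit 1233) (nat_lit 227) (nat_lit 353) .nil) (nat_lit 1234) (nat_lit 262) (nat_lit
  1069) .nil) (nat_lit 1235) (nat_lit 232) (nat_lit 2006) (.node (.node .nil (nat_lit 1238) (nat_lit 182)
  (nat_lit 1107) .nil) (nat_lit 1239) (nat_lit 114) (nat_lit 1076) .nil)) (nat_lit 1240) (nat_lit 210)
  (nat_lit 1449) (.node (.node (.node .nil (nat_lit 1241) (nat_lit 178) (nat_lit 1094) .nil) (nat_lit 1242)
  (nat_lit 246) (nat_lit 1099) .nil) (nat_lit 1243) (nat_lit 146) (nat_lit 1096) (.node .nil (nat_lit 1244)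
  (nat_lit 178) (nat_lit 1097) .nil))))) (nat_lit 1245) (nat_lit 181) (nat_lit 1456) (.node (.node (.node
  (.node (.node (.node .nil (nat_lit 1246) (nat_lit 209) (nat_lit 1458) .nil) (nat_lit 1247) (nat_lit 182)
  (nat_lit 1463) .nil) (nat_lit 1248) (nat_lit 182) (nat_lit 1098) (.node (.node .nil (nat_lit 1249) (nat_lit
  150) (nat_lit 1096) .nil) (nat_lit 1250) (nat_lit 149) (nat_lit 1096) .nil)) (nat_lit 1251) (nat_lit 182)
  (nat_lit 1097) (.node (.node (.node .nil (nat_lit 1252) (nat_lit 182) (nat_lit 1094) .nil) (nat_lit 1253)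
  (nat_lit 176) (nat_lit 1466) .nil) (nat_lit 1254) (nat_lit 213) (nat_lit 1458) (.node .nil (nat_lit 1257)
  (nat_lit 118) (nat_lit 1092) .nil))) (nat_lit 1261) (nat_lit 214) (nat_lit 1469) (.node (.node (.node (.node
  .nil (nat_lit 1263) (nat_lit 182) (nat_lit 1466) .nil) (nat_lit 1264) (nat_lit 214) (nat_lit 1467) .nil)
  (nat_lit 1265) (nat_lit 179) (nat_lit 1208) (.node (.node .nil (nat_lit 1266) (nat_lit 179) (nat_lit 401)
  .nil) (nat_lit 1267) (nat_lit 214) (nat_lit 1458) .nil)) (nat_lit 1268) (nat_lit 147) (nat_lit 402) (.node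
  (.node (.node .nil (nat_lit 1269) (nat_lit 179) (nat_lit 403) .nil) (nat_lit 1270) (nat_lit 181) (nat_lit
  1094) .nil) (nat_lit 1271) (nat_lit 147) (nat_lit 405) (.node .nil (nat_lit 1272) (nat_lit 147) (nat_lit
  406) .nil)))) (nat_lit 1273) (nat_lit 181) (nat_lit 1495) (.node (.node (.node (.node (.node .nil (nat_lit
  1274) (nat_lit 210) (nat_lit 1499) .nil) (nat_lit 1275) (nat_lit 210) (nat_lit 1101) .nil) (nat_lit 1276)
  (nat_lit 177) (nat_lit 1102) (.node (.node .nil (nat_lit 1277) (nat_lit 209) (nat_lit 1498) .nil) (nat_lit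
  1278) (nat_lit 182) (nat_lit 1455) .nil)) (nat_lit 1279) (nat_lit 181) (nat_lit 1455) (.node (.node (.node
  .nil (nat_lit 1280) (nat_lit 181) (nat_lit 1491) .nil) (nat_lit 1281) (nat_lit 182) (nat_lit 1456) .nil)
  (nat_lit 1282) (nat_lit 145) (nat_lit 1510) (.node .nil (nat_lit 1283) (nat_lit 176) (nat_lit 1512) .nil)))
  (nat_lit 1284) (nat_lit 178) (nat_lit 1513) (.node (.node (.node (.node .nil (nat_lit 1285) (nat_lit 180)
  (nat_lit 1107) .nil) (nat_lit 1286) (nat_lit 179) (nat_lit 1140) .nil) (nat_lit 1291) (nat_lit 210) (nat_lit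
  1113) (.node (.node .nil (nat_lit 1292) (nat_lit 242) (nat_lit 1114) .nil) (nat_lit 1293) (nat_lit 214)
  (nat_lit 1530) .nil)) (nat_lit 1294) (nat_lit 213) (nat_lit 1530) (.node (.node (.node .nil (nat_lit 1296)
  (nat_lit 208) (nat_lit 1505) .nil) (nat_lit 1297) (nat_lit 209) (nat_lit 1118) .nil) (nat_lit 1298) (nat_lit
  213) (nat_lit 1536) (.node .nil (nat_lit 1299) (nat_lit 240) (nat_lit 1507) .nil)))))) (nat_lit 1300)
  (nat_lit 212) (nat_lit 1116) (.node (.node (.node (.node (.node (.node (.node .nil (nat_lit 1301) (nat_lit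
  209) (nat_lit 1493) .nil) (nat_lit 1302) (nat_lit 146) (nat_lit 1529) .nil) (nat_lit 1303) (nat_lit 176)
  (nat_lit 1455) (.node (.node .nil (nat_lit 1305) (nat_lit 208) (nat_lit 1123) .nil) (nat_lit 1306) (nat_lit
  214) (nat_lit 1120) .nil)) (nat_lit 1307) (nat_lit 182) (nat_lit 1121) (.node (.node (.node .nil (nat_lit
  1308) (nat_lit 147) (nat_lit 1214) .nil) (nat_lit 1309) (nat_lit 146) (nat_lit 1542) .nil) (nat_lit 1310)
  (nat_lit 182) (nat_lit 1124) (.node .nil (nat_lit 1311) (nat_lit 147) (nat_lit 1111) .nil))) (nat_lit 1312)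
  (nat_lit 179) (nat_lit 1663) (.node (.node (.node (.node .nil (nat_lit 1314) (nat_lit 178) (nat_lit 1548)
  .nil) (nat_lit 1320) (nat_lit 208) (nat_lit 1199) .nil) (nat_lit 1324) (nat_lit 120) (nat_lit 913) (.node
  (.node .nil (nat_lit 1328) (nat_lit 181) (nat_lit 1170) .nil) (nat_lit 1329) (nat_lit 152) (nat_lit 794)
  .nil)) (nat_lit 1330) (nat_lit 146) (nat_lit 1143) (.node (.node (.node .nil (nat_lit 1331) (nat_lit 211)
  (nat_lit 436) .nil) (nat_lit 1332) (nat_lit 120) (nat_lit 780) .nil) (nat_lit 1336) (nat_lit 242) (nat_lit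
  1150) (.node .nil (nat_lit 1342) (nat_lit 243) (nat_lit 440) .nil)))) (nat_lit 1345) (nat_lit 243) (nat_lit
  442) (.node (.node (.node (.node (.node .nil (nat_lit 1346) (nat_lit 243) (nat_lit 443) .nil) (nat_lit 1347)
  (nat_lit 246) (nat_lit 1150) .nil) (nat_lit 1351) (nat_lit 149) (nat_lit 1554) (.node (.node .nil (nat_lit
  1354) (nat_lit 211) (nat_lit 423) .nil) (nat_lit 1357) (nat_lit 248) (nat_lit 2315) .nil)) (nat_lit 1359)
  (nat_lit 246) (nat_lit 1159) (.node (.node (.node .nil (nat_lit 1361) (nat_lit 149) (nat_lit 1559) .nil)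
  (nat_lit 1366) (nat_lit 117) (nat_lit 1228) .nil) (nat_lit 1367) (nat_lit 211) (nat_lit 449) (.node .nil
  (nat_lit 1368) (nat_lit 117) (nat_lit 1564) .nil))) (nat_lit 1369) (nat_lit 178) (nat_lit 1620) (.node
  (.node (.node (.node .nil (nat_lit 1374) (nat_lit 150) (nat_lit 1640) .nil) (nat_lit 1375) (nat_lit 152)
  (nat_lit 723) .nil) (nat_lit 1376) (nat_lit 152) (nat_lit 790) (.node (.node .nil (nat_lit 1377) (nat_lit
  149) (nat_lit 1221) .nil) (nat_lit 1378) (nat_lit 242) (nat_lit 1174) .nil)) (nat_lit 1379) (nat_lit 149)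
  (nat_lit 1570) (.node (.node (.node .nil (nat_lit 1380) (nat_lit 211) (nat_lit 452) .nil) (nat_lit 1381)
  (nat_lit 117) (nat_lit 1232) .nil) (nat_lit 1382) (nat_lit 245) (nat_lit 1174) (.node .nil (nat_lit 1383)
  (nat_lit 246) (nat_lit 1174) .nil))))) (nat_lit 1384) (nat_lit 179) (nat_lit 1205) (.node (.node (.node
  (.node (.node (.node .nil (nat_lit 1385) (nat_lit 178) (nat_lit 1651) .nil) (nat_lit 1386) (nat_lit 214)
  (nat_lit 1183) .nil) (nat_lit 1387) (nat_lit 181) (nat_lit 1651) (.node (.node .nil (nat_lit 1388) (nat_lit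
  179) (nat_lit 934) .nil) (nat_lit 1389) (nat_lit 182) (nat_lit 1651) .nil)) (nat_lit 1391) (nat_lit 179)
  (nat_lit 904) (.node (.node (.node .nil (nat_lit 1392) (nat_lit 179) (nat_lit 1659) .nil) (nat_lit 1393)
  (nat_lit 147) (nat_lit 1181) .nil) (nat_lit 1394) (nat_lit 179) (nat_lit 1660) (.node .nil (nat_lit 1395)
  (nat_lit 211) (nat_lit 1226) .nil))) (nat_lit 1398) (nat_lit 210) (nat_lit 1655) (.node (.node (.node (.node
  .nil (nat_lit 1399) (nat_lit 182) (nat_lit 1658) .nil) (nat_lit 1400) (nat_lit 178) (nat_lit 1658) .nil)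
  (nat_lit 1401) (nat_lit 147) (nat_lit 1206) (.node (.node .nil (nat_lit 1402) (nat_lit 149) (nat_lit 1207)
  .nil) (nat_lit 1403) (nat_lit 182) (nat_lit 1662) .nil)) (nat_lit 1404) (nat_lit 184) (nat_lit 1660) (.node
  (.node (.node .nil (nat_lit 1405) (nat_lit 182) (nat_lit 1661) .nil) (nat_lit 1406) (nat_lit 147) (nat_lit
  1176) .nil) (nat_lit 1407) (nat_lit 152) (nat_lit 1664) (.node .nil (nat_lit 1408) (nat_lit 120) (nat_lit
  774) .nil)))) (nat_lit 1409) (nat_lit 115) (nat_lit 1092) (.node (.node (.node (.node (.node .nil (nat_lit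
  1410) (nat_lit 152) (nat_lit 1209) .nil) (nat_lit 1411) (nat_lit 150) (nat_lit 1209) .nil) (nat_lit 1413)
  (nat_lit 118) (nat_lit 1211) (.node (.node .nil (nat_lit 1414) (nat_lit 120) (nat_lit 783) .nil) (nat_lit
  1415) (nat_lit 243) (nat_lit 1523) .nil)) (nat_lit 1416) (nat_lit 120) (nat_lit 776) (.node (.node (.node
  .nil (nat_lit 1417) (nat_lit 211) (nat_lit 454) .nil) (nat_lit 1418) (nat_lit 88) (nat_lit 779) .nil)
  (nat_lit 1419) (nat_lit 246) (nat_lit 1217) (.node .nil (nat_lit 1420) (nat_lit 120) (nat_lit 768) .nil)))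
  (nat_lit 1421) (nat_lit 120) (nat_lit 880) (.node (.node (.node (.node .nil (nat_lit 1422) (nat_lit 211)
  (nat_lit 1502) .nil) (nat_lit 1423) (nat_lit 88) (nat_lit 865) .nil) (nat_lit 1424) (nat_lit 152) (nat_lit
  796) (.node (.node .nil (nat_lit 1425) (nat_lit 243) (nat_lit 1528) .nil) (nat_lit 1426) (nat_lit 120)
  (nat_lit 866) .nil)) (nat_lit 1427) (nat_lit 243) (nat_lit 1112) (.node (.node (.node .nil (nat_lit 1428)
  (nat_lit 245) (nat_lit 1689) .nil) (nat_lit 1429) (nat_lit 182) (nat_lit 1691) .nil) (nat_lit 1430) (nat_lit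
  179) (nat_lit 1172) (.node .nil (nat_lit 1431) (nat_lit 179) (nat_lit 935) .nil)))))))
def t5_6 : T := (.node (.node (.node (.node (.node (.node (.node (.node .nil (nat_lit 1433) (nat_lit 248)
  (nat_lit 1085) .nil) (nat_lit 1434) (nat_lit 88) (nat_lit 872) .nil) (nat_lit 1435) (nat_lit 179) (nat_lit
  458) (.node (.node .nil (nat_lit 1436) (nat_lit 211) (nat_lit 409) .nil) (nat_lit 1437) (nat_lit 246)
  (nat_lit 1229) .nil)) (nat_lit 1438) (nat_lit 245) (nat_lit 1231) (.node (.node (.node .nil (nat_lit 1439)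
  (nat_lit 240) (nat_lit 1697) .nil) (nat_lit 1440) (nat_lit 243) (nat_lit 424) .nil) (nat_lit 1441) (nat_lit
  248) (nat_lit 1681) (.node .nil (nat_lit 1445) (nat_lit 198) (nat_lit 1285) .nil))) (nat_lit 1447) (nat_lit
  166) (nat_lit 1282) (.node (.node (.node (.node .nil (nat_lit 1448) (nat_lit 198) (nat_lit 1283) .nil)
  (nat_lit 1449) (nat_lit 195) (nat_lit 1404) .nil) (nat_lit 1450) (nat_lit 198) (nat_lit 1284) (.node (.node
  .nil (nat_lit 1451) (nat_lit 230) (nat_lit 1274) .nil) (nat_lit 1452) (nat_lit 162) (nat_lit 1268) .nil))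
  (nat_lit 1453) (nat_lit 194) (nat_lit 1269) (.node (.node (.node .nil (nat_lit 1454) (nat_lit 198) (nat_lit
  1269) .nil) (nat_lit 1455) (nat_lit 161) (nat_lit 1243) .nil) (nat_lit 1456) (nat_lit 162) (nat_lit 1272)
  (.node .nil (nat_lit 1457) (nat_lit 197) (nat_lit 1726) .nil)))) (nat_lit 1458) (nat_lit 194) (nat_lit 1730)
  (.node (.node (.node (.node (.node .nil (nat_lit 1459) (nat_lit 198) (nat_lit 1734) .nil) (nat_lit 1460)
  (nat_lit 198) (nat_lit 1273) .nil) (nat_lit 1461) (nat_lit 198) (nat_lit 1739) (.node (.node .nil (nat_lit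
  1462) (nat_lit 166) (nat_lit 1271) .nil) (nat_lit 1463) (nat_lit 165) (nat_lit 1271) .nil)) (nat_lit 1464)
  (nat_lit 166) (nat_lit 1268) (.node (.node (.node .nil (nat_lit 1465) (nat_lit 166) (nat_lit 1272) .nil)
  (nat_lit 1466) (nat_lit 161) (nat_lit 1741) .nil) (nat_lit 1467) (nat_lit 192) (nat_lit 1743) (.node .nil
  (nat_lit 1468) (nat_lit 194) (nat_lit 1744) .nil))) (nat_lit 1469) (nat_lit 196) (nat_lit 1253) (.node
  (.node (.node (.node .nil (nat_lit 1470) (nat_lit 197) (nat_lit 1730) .nil) (nat_lit 1478) (nat_lit 227)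
  (nat_lit 463) .nil) (nat_lit 1480) (nat_lit 198) (nat_lit 1742) (.node (.node .nil (nat_lit 1481) (nat_lit
  230) (nat_lit 1724) .nil) (nat_lit 1482) (nat_lit 230) (nat_lit 1747) .nil)) (nat_lit 1483) (nat_lit 166)
  (nat_lit 1741) (.node (.node (.node .nil (nat_lit 1484) (nat_lit 198) (nat_lit 1743) .nil) (nat_lit 1485)
  (nat_lit 165) (nat_lit 1773) .nil) (nat_lit 1486) (nat_lit 198) (nat_lit 1730) (.node .nil (nat_lit 1487)
  (nat_lit 165) (nat_lit 1776) .nil))))) (nat_lit 1488) (nat_lit 195) (nat_lit 378) (.node (.node (.node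
  (.node (.node (.node .nil (nat_lit 1489) (nat_lit 162) (nat_lit 1773) .nil) (nat_lit 1490) (nat_lit 163)
  (nat_lit 471) .nil) (nat_lit 1491) (nat_lit 163) (nat_lit 472) (.node (.node .nil (nat_lit 1492) (nat_lit
  165) (nat_lit 1268) .nil) (nat_lit 1493) (nat_lit 196) (nat_lit 1283) .nil)) (nat_lit 1494) (nat_lit 162)
  (nat_lit 1271) (.node (.node (.node .nil (nat_lit 1495) (nat_lit 163) (nat_lit 476) .nil) (nat_lit 1496)
  (nat_lit 163) (nat_lit 477) .nil) (nat_lit 1497) (nat_lit 197) (nat_lit 1782) (.node .nil (nat_lit 1498)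
  (nat_lit 196) (nat_lit 1273) .nil))) (nat_lit 1499) (nat_lit 195) (nat_lit 1014) (.node (.node (.node (.node
  .nil (nat_lit 1500) (nat_lit 194) (nat_lit 1276) .nil) (nat_lit 1501) (nat_lit 226) (nat_lit 1277) .nil)
  (nat_lit 1502) (nat_lit 198) (nat_lit 1725) (.node (.node .nil (nat_lit 1503) (nat_lit 197) (nat_lit 1725)
  .nil) (nat_lit 1504) (nat_lit 197) (nat_lit 1778) .nil)) (nat_lit 1505) (nat_lit 193) (nat_lit 1739) (.node
  (.node (.node .nil (nat_lit 1506) (nat_lit 198) (nat_lit 1726) .nil) (nat_lit 1507) (nat_lit 225) (nat_lit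
  1787) .nil) (nat_lit 1508) (nat_lit 196) (nat_lit 1279) (.node .nil (nat_lit 1509) (nat_lit 198) (nat_lit
  1727) .nil)))) (nat_lit 1510) (nat_lit 130) (nat_lit 1795) (.node (.node (.node (.node (.node .nil (nat_lit
  1511) (nat_lit 164) (nat_lit 1282) .nil) (nat_lit 1512) (nat_lit 161) (nat_lit 1309) .nil) (nat_lit 1513)
  (nat_lit 163) (nat_lit 1329) (.node (.node .nil (nat_lit 1514) (nat_lit 162) (nat_lit 1806) .nil) (nat_lit
  1515) (nat_lit 193) (nat_lit 1285) .nil)) (nat_lit 1516) (nat_lit 197) (nat_lit 1285) (.node (.node (.node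
  .nil (nat_lit 1522) (nat_lit 226) (nat_lit 1296) .nil) (nat_lit 1523) (nat_lit 226) (nat_lit 1297) .nil)
  (nat_lit 1524) (nat_lit 229) (nat_lit 1821) (.node .nil (nat_lit 1525) (nat_lit 257) (nat_lit 1292) .nil)))
  (nat_lit 1526) (nat_lit 258) (nat_lit 1299) (.node (.node (.node (.node .nil (nat_lit 1527) (nat_lit 228)
  (nat_lit 1294) .nil) (nat_lit 1528) (nat_lit 226) (nat_lit 1301) .nil) (nat_lit 1529) (nat_lit 131) (nat_lit
  1062) (.node (.node .nil (nat_lit 1530) (nat_lit 192) (nat_lit 1725) .nil) (nat_lit 1534) (nat_lit 224)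
  (nat_lit 1799) .nil)) (nat_lit 1535) (nat_lit 228) (nat_lit 1298) (.node (.node (.node .nil (nat_lit 1536)
  (nat_lit 192) (nat_lit 1726) .nil) (nat_lit 1537) (nat_lit 229) (nat_lit 1301) .nil) (nat_lit 1538) (nat_lit
  259) (nat_lit 504) (.node .nil (nat_lit 1539) (nat_lit 228) (nat_lit 1836) .nil)))))) (nat_lit 1540)
  (nat_lit 196) (nat_lit 1303) (.node (.node (.node (.node (.node (.node (.node .nil (nat_lit 1541) (nat_lit
  166) (nat_lit 1302) .nil) (nat_lit 1542) (nat_lit 131) (nat_lit 1414) .nil) (nat_lit 1543) (nat_lit 166)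
  (nat_lit 1308) (.node (.node .nil (nat_lit 1545) (nat_lit 166) (nat_lit 1309) .nil) (nat_lit 1546) (nat_lit
  131) (nat_lit 1257) .nil)) (nat_lit 1548) (nat_lit 163) (nat_lit 1990) (.node (.node (.node .nil (nat_lit
  1554) (nat_lit 136) (nat_lit 1023) .nil) (nat_lit 1559) (nat_lit 136) (nat_lit 841) .nil) (nat_lit 1563)
  (nat_lit 232) (nat_lit 1021) (.node .nil (nat_lit 1564) (nat_lit 104) (nat_lit 834) .nil))) (nat_lit 1565)
  (nat_lit 195) (nat_lit 508) (.node (.node (.node (.node .nil (nat_lit 1567) (nat_lit 168) (nat_lit 755)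
  .nil) (nat_lit 1568) (nat_lit 165) (nat_lit 1376) .nil) (nat_lit 1569) (nat_lit 227) (nat_lit 1807) (.node
  (.node .nil (nat_lit 1570) (nat_lit 136) (nat_lit 830) .nil) (nat_lit 1571) (nat_lit 229) (nat_lit 1331)
  .nil)) (nat_lit 1572) (nat_lit 224) (nat_lit 1867) (.node (.node (.node .nil (nat_lit 1577) (nat_lit 262)
  (nat_lit 1886) .nil) (nat_lit 1580) (nat_lit 262) (nat_lit 1346) .nil) (nat_lit 1581) (nat_lit 258) (nat_lit
  1346) (.node .nil (nat_lit 1582) (nat_lit 259) (nat_lit 516) .nil)))) (nat_lit 1586) (nat_lit 166) (nat_lit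
  1897) (.node (.node (.node (.node (.node .nil (nat_lit 1589) (nat_lit 227) (nat_lit 497) .nil) (nat_lit
  1592) (nat_lit 259) (nat_lit 514) .nil) (nat_lit 1593) (nat_lit 259) (nat_lit 498) (.node (.node .nil
  (nat_lit 1594) (nat_lit 259) (nat_lit 515) .nil) (nat_lit 1595) (nat_lit 258) (nat_lit 1886) .nil)) (nat_lit
  1598) (nat_lit 166) (nat_lit 1915) (.node (.node (.node .nil (nat_lit 1601) (nat_lit 227) (nat_lit 1291)
  .nil) (nat_lit 1604) (nat_lit 133) (nat_lit 1432) .nil) (nat_lit 1605) (nat_lit 195) (nat_lit 519) (.node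
  .nil (nat_lit 1606) (nat_lit 133) (nat_lit 1855) .nil))) (nat_lit 1607) (nat_lit 193) (nat_lit 1369) (.node
  (.node (.node (.node .nil (nat_lit 1610) (nat_lit 195) (nat_lit 481) .nil) (nat_lit 1611) (nat_lit 232)
  (nat_lit 1919) .nil) (nat_lit 1613) (nat_lit 165) (nat_lit 1857) (.node (.node .nil (nat_lit 1617) (nat_lit
  133) (nat_lit 1421) .nil) (nat_lit 1618) (nat_lit 226) (nat_lit 1367) .nil)) (nat_lit 1619) (nat_lit 133)
  (nat_lit 1862) (.node (.node (.node .nil (nat_lit 1620) (nat_lit 163) (nat_lit 1850) .nil) (nat_lit 1625)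
  (nat_lit 195) (nat_lit 522) .nil) (nat_lit 1626) (nat_lit 101) (nat_lit 1434) (.node .nil (nat_lit 1627)
  (nat_lit 200) (nat_lit 1964) .nil))))) (nat_lit 1628) (nat_lit 229) (nat_lit 1367) (.node (.node (.node
  (.node (.node (.node .nil (nat_lit 1629) (nat_lit 230) (nat_lit 1367) .nil) (nat_lit 1630) (nat_lit 162)
  (nat_lit 1949) .nil) (nat_lit 1631) (nat_lit 198) (nat_lit 1965) (.node (.node .nil (nat_lit 1632) (nat_lit
  197) (nat_lit 1965) .nil) (nat_lit 1636) (nat_lit 134) (nat_lit 1970) .nil)) (nat_lit 1637) (nat_lit 166)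
  (nat_lit 1973) (.node (.node (.node .nil (nat_lit 1638) (nat_lit 134) (nat_lit 1975) .nil) (nat_lit 1639)
  (nat_lit 228) (nat_lit 1974) .nil) (nat_lit 1640) (nat_lit 131) (nat_lit 1426) (.node .nil (nat_lit 1641)
  (nat_lit 136) (nat_lit 749) .nil))) (nat_lit 1642) (nat_lit 226) (nat_lit 1380) (.node (.node (.node (.node
  .nil (nat_lit 1643) (nat_lit 133) (nat_lit 1426) .nil) (nat_lit 1644) (nat_lit 261) (nat_lit 1378) .nil)
  (nat_lit 1645) (nat_lit 259) (nat_lit 2024) (.node (.node .nil (nat_lit 1647) (nat_lit 229) (nat_lit 1380)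
  .nil) (nat_lit 1648) (nat_lit 230) (nat_lit 1380) .nil)) (nat_lit 1649) (nat_lit 227) (nat_lit 528) (.node
  (.node (.node .nil (nat_lit 1650) (nat_lit 262) (nat_lit 1382) .nil) (nat_lit 1651) (nat_lit 163) (nat_lit
  1050) .nil) (nat_lit 1652) (nat_lit 198) (nat_lit 1388) (.node .nil (nat_lit 1655) (nat_lit 195) (nat_lit
  1429) .nil)))) (nat_lit 1656) (nat_lit 163) (nat_lit 1411) (.node (.node (.node (.node (.node .nil (nat_lit
  1658) (nat_lit 163) (nat_lit 1375) .nil) (nat_lit 1659) (nat_lit 166) (nat_lit 1992) .nil) (nat_lit 1660)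
  (nat_lit 166) (nat_lit 1406) (.node (.node .nil (nat_lit 1661) (nat_lit 163) (nat_lit 1057) .nil) (nat_lit
  1662) (nat_lit 163) (nat_lit 1048) .nil)) (nat_lit 1663) (nat_lit 166) (nat_lit 1991) (.node (.node (.node
  .nil (nat_lit 1664) (nat_lit 131) (nat_lit 1239) .nil) (nat_lit 1665) (nat_lit 168) (nat_lit 1406) .nil)
  (nat_lit 1667) (nat_lit 134) (nat_lit 1409) (.node .nil (nat_lit 1668) (nat_lit 136) (nat_lit 746) .nil)))
  (nat_lit 1669) (nat_lit 227) (nat_lit 1790) (.node (.node (.node (.node .nil (nat_lit 1670) (nat_lit 104)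
  (nat_lit 829) .nil) (nat_lit 1671) (nat_lit 229) (nat_lit 1920) .nil) (nat_lit 1672) (nat_lit 195) (nat_lit
  529) (.node (.node .nil (nat_lit 1673) (nat_lit 230) (nat_lit 1417) .nil) (nat_lit 1674) (nat_lit 136)
  (nat_lit 819) .nil)) (nat_lit 1675) (nat_lit 195) (nat_lit 1733) (.node (.node (.node .nil (nat_lit 1676)
  (nat_lit 104) (nat_lit 820) .nil) (nat_lit 1677) (nat_lit 136) (nat_lit 976) .nil) (nat_lit 1678) (nat_lit
  232) (nat_lit 973) (.node .nil (nat_lit 1679) (nat_lit 104) (nat_lit 953) .nil)))))))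
def t5_7 : T := (.node (.node (.node (.node (.node (.node (.node (.node .nil (nat_lit 1681) (nat_lit 227)
  (nat_lit 1275) .nil) (nat_lit 1682) (nat_lit 227) (nat_lit 2766) .nil) (nat_lit 1683) (nat_lit 168) (nat_lit
  855) (.node (.node .nil (nat_lit 1684) (nat_lit 232) (nat_lit 843) .nil) (nat_lit 1685) (nat_lit 136)
  (nat_lit 857) .nil)) (nat_lit 1686) (nat_lit 261) (nat_lit 1425) (.node (.node (.node .nil (nat_lit 1687)
  (nat_lit 264) (nat_lit 955) .nil) (nat_lit 1688) (nat_lit 259) (nat_lit 1292) .nil) (nat_lit 1689) (nat_lit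
  232) (nat_lit 1436) (.node .nil (nat_lit 1691) (nat_lit 163) (nat_lit 1015) .nil))) (nat_lit 1692) (nat_lit
  136) (nat_lit 1257) (.node (.node (.node (.node .nil (nat_lit 1693) (nat_lit 232) (nat_lit 1254) .nil)
  (nat_lit 1694) (nat_lit 104) (nat_lit 963) .nil) (nat_lit 1695) (nat_lit 195) (nat_lit 532) (.node (.node
  .nil (nat_lit 1696) (nat_lit 264) (nat_lit 2813) .nil) (nat_lit 1697) (nat_lit 225) (nat_lit 2035) .nil))
  (nat_lit 1698) (nat_lit 163) (nat_lit 479) (.node (.node (.node .nil (nat_lit 1699) (nat_lit 163) (nat_lit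
  475) .nil) (nat_lit 1700) (nat_lit 198) (nat_lit 1435) .nil) (nat_lit 1701) (nat_lit 227) (nat_lit 482)
  (.node .nil (nat_lit 1702) (nat_lit 230) (nat_lit 1436) .nil)))) (nat_lit 1703) (nat_lit 259) (nat_lit 499)
  (.node (.node (.node (.node (.node .nil (nat_lit 1704) (nat_lit 261) (nat_lit 1439) .nil) (nat_lit 1705)
  (nat_lit 264) (nat_lit 2018) .nil) (nat_lit 1709) (nat_lit 212) (nat_lit 1536) (.node (.node .nil (nat_lit
  1711) (nat_lit 182) (nat_lit 1511) .nil) (nat_lit 1712) (nat_lit 214) (nat_lit 1493) .nil)) (nat_lit 1713)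
  (nat_lit 214) (nat_lit 1516) (.node (.node (.node .nil (nat_lit 1714) (nat_lit 150) (nat_lit 1510) .nil)
  (nat_lit 1715) (nat_lit 182) (nat_lit 1512) .nil) (nat_lit 1716) (nat_lit 182) (nat_lit 1513) (.node .nil
  (nat_lit 1717) (nat_lit 214) (nat_lit 1499) .nil))) (nat_lit 1718) (nat_lit 182) (nat_lit 1514) (.node
  (.node (.node (.node .nil (nat_lit 1719) (nat_lit 182) (nat_lit 1489) .nil) (nat_lit 1720) (nat_lit 178)
  (nat_lit 2064) .nil) (nat_lit 1721) (nat_lit 177) (nat_lit 1452) (.node (.node .nil (nat_lit 1722) (nat_lit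
  178) (nat_lit 1491) .nil) (nat_lit 1723) (nat_lit 182) (nat_lit 1491) .nil)) (nat_lit 1724) (nat_lit 212)
  (nat_lit 1467) (.node (.node (.node .nil (nat_lit 1725) (nat_lit 177) (nat_lit 1494) .nil) (nat_lit 1726)
  (nat_lit 177) (nat_lit 1456) .nil) (nat_lit 1727) (nat_lit 180) (nat_lit 1455) (.node .nil (nat_lit 1728)
  (nat_lit 213) (nat_lit 2073) .nil))))) (nat_lit 1729) (nat_lit 212) (nat_lit 1457) (.node (.node (.node
  (.node (.node (.node .nil (nat_lit 1730) (nat_lit 179) (nat_lit 1170) .nil) (nat_lit 1731) (nat_lit 214)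
  (nat_lit 1497) .nil) (nat_lit 1732) (nat_lit 214) (nat_lit 2083) (.node (.node .nil (nat_lit 1733) (nat_lit
  182) (nat_lit 1494) .nil) (nat_lit 1734) (nat_lit 181) (nat_lit 1494) .nil)) (nat_lit 1735) (nat_lit 182)
  (nat_lit 1490) (.node (.node (.node .nil (nat_lit 1736) (nat_lit 214) (nat_lit 1498) .nil) (nat_lit 1737)
  (nat_lit 182) (nat_lit 1495) .nil) (nat_lit 1738) (nat_lit 214) (nat_lit 2094) (.node .nil (nat_lit 1739)
  (nat_lit 180) (nat_lit 1463) .nil))) (nat_lit 1740) (nat_lit 182) (nat_lit 1496) (.node (.node (.node (.node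
  .nil (nat_lit 1741) (nat_lit 146) (nat_lit 2085) .nil) (nat_lit 1742) (nat_lit 180) (nat_lit 1466) .nil)
  (nat_lit 1743) (nat_lit 177) (nat_lit 2091) (.node (.node .nil (nat_lit 1744) (nat_lit 179) (nat_lit 1567)
  .nil) (nat_lit 1745) (nat_lit 184) (nat_lit 2135) .nil)) (nat_lit 1746) (nat_lit 209) (nat_lit 1469) (.node
  (.node (.node .nil (nat_lit 1747) (nat_lit 213) (nat_lit 1469) .nil) (nat_lit 1754) (nat_lit 241) (nat_lit
  2047) .nil) (nat_lit 1756) (nat_lit 216) (nat_lit 1188) (.node .nil (nat_lit 1758) (nat_lit 211) (nat_lit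
  539) .nil)))) (nat_lit 1759) (nat_lit 243) (nat_lit 451) (.node (.node (.node (.node (.node .nil (nat_lit
  1760) (nat_lit 245) (nat_lit 1478) .nil) (nat_lit 1762) (nat_lit 211) (nat_lit 542) .nil) (nat_lit 1763)
  (nat_lit 214) (nat_lit 2072) (.node (.node .nil (nat_lit 1764) (nat_lit 214) (nat_lit 2096) .nil) (nat_lit
  1765) (nat_lit 246) (nat_lit 2058) .nil)) (nat_lit 1766) (nat_lit 213) (nat_lit 1493) (.node (.node (.node
  .nil (nat_lit 1767) (nat_lit 150) (nat_lit 2085) .nil) (nat_lit 1768) (nat_lit 182) (nat_lit 2091) .nil)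
  (nat_lit 1769) (nat_lit 182) (nat_lit 2095) (.node .nil (nat_lit 1771) (nat_lit 149) (nat_lit 2136) .nil)))
  (nat_lit 1772) (nat_lit 181) (nat_lit 1513) (.node (.node (.node (.node .nil (nat_lit 1773) (nat_lit 147)
  (nat_lit 1221) .nil) (nat_lit 1774) (nat_lit 179) (nat_lit 551) .nil) (nat_lit 1775) (nat_lit 181) (nat_lit
  1514) (.node (.node .nil (nat_lit 1776) (nat_lit 146) (nat_lit 2136) .nil) (nat_lit 1777) (nat_lit 178)
  (nat_lit 1490) .nil)) (nat_lit 1778) (nat_lit 179) (nat_lit 553) (.node (.node (.node .nil (nat_lit 1779)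
  (nat_lit 179) (nat_lit 554) .nil) (nat_lit 1780) (nat_lit 181) (nat_lit 1490) .nil) (nat_lit 1781) (nat_lit
  180) (nat_lit 1512) (.node .nil (nat_lit 1782) (nat_lit 178) (nat_lit 1495) .nil)))))) (nat_lit 1783)
  (nat_lit 178) (nat_lit 1496) (.node (.node (.node (.node (.node (.node (.node .nil (nat_lit 1784) (nat_lit
  179) (nat_lit 559) .nil) (nat_lit 1785) (nat_lit 181) (nat_lit 1496) .nil) (nat_lit 1786) (nat_lit 212)
  (nat_lit 1497) (.node (.node .nil (nat_lit 1787) (nat_lit 212) (nat_lit 2150) .nil) (nat_lit 1788) (nat_lit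
  213) (nat_lit 2140) .nil)) (nat_lit 1789) (nat_lit 210) (nat_lit 1505) (.node (.node (.node .nil (nat_lit
  1790) (nat_lit 214) (nat_lit 2073) .nil) (nat_lit 1791) (nat_lit 242) (nat_lit 2152) .nil) (nat_lit 1792)
  (nat_lit 242) (nat_lit 1507) (.node .nil (nat_lit 1793) (nat_lit 212) (nat_lit 1503) .nil))) (nat_lit 1794)
  (nat_lit 214) (nat_lit 2074) (.node (.node (.node (.node .nil (nat_lit 1795) (nat_lit 115) (nat_lit 1220)
  .nil) (nat_lit 1796) (nat_lit 177) (nat_lit 1514) .nil) (nat_lit 1797) (nat_lit 212) (nat_lit 1504) (.node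
  (.node .nil (nat_lit 1798) (nat_lit 180) (nat_lit 2139) .nil) (nat_lit 1799) (nat_lit 209) (nat_lit 2094)
  .nil)) (nat_lit 1800) (nat_lit 214) (nat_lit 2051) (.node (.node (.node .nil (nat_lit 1801) (nat_lit 214)
  (nat_lit 2075) .nil) (nat_lit 1802) (nat_lit 244) (nat_lit 2122) .nil) (nat_lit 1803) (nat_lit 212) (nat_lit
  2075) (.node .nil (nat_lit 1804) (nat_lit 181) (nat_lit 1511) .nil)))) (nat_lit 1806) (nat_lit 147) (nat_lit
  1559) (.node (.node (.node (.node (.node .nil (nat_lit 1807) (nat_lit 210) (nat_lit 1515) .nil) (nat_lit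
  1808) (nat_lit 213) (nat_lit 1515) .nil) (nat_lit 1812) (nat_lit 211) (nat_lit 580) (.node (.node .nil
  (nat_lit 1818) (nat_lit 241) (nat_lit 1522) .nil) (nat_lit 1819) (nat_lit 242) (nat_lit 1534) .nil))
  (nat_lit 1820) (nat_lit 244) (nat_lit 1524) (.node (.node (.node .nil (nat_lit 1821) (nat_lit 208) (nat_lit
  2073) .nil) (nat_lit 1822) (nat_lit 275) (nat_lit 2432) .nil) (nat_lit 1823) (nat_lit 273) (nat_lit 1526)
  (.node .nil (nat_lit 1824) (nat_lit 243) (nat_lit 2907) .nil))) (nat_lit 1825) (nat_lit 245) (nat_lit 1528)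
  (.node (.node (.node (.node .nil (nat_lit 1826) (nat_lit 276) (nat_lit 2114) .nil) (nat_lit 1827) (nat_lit
  244) (nat_lit 2200) .nil) (nat_lit 1828) (nat_lit 242) (nat_lit 2067) (.node (.node .nil (nat_lit 1829)
  (nat_lit 212) (nat_lit 1530) .nil) (nat_lit 1830) (nat_lit 150) (nat_lit 1529) .nil)) (nat_lit 1834)
  (nat_lit 243) (nat_lit 588) (.node (.node (.node .nil (nat_lit 1835) (nat_lit 244) (nat_lit 2052) .nil)
  (nat_lit 1836) (nat_lit 213) (nat_lit 1540) .nil) (nat_lit 1837) (nat_lit 244) (nat_lit 2101) (.node .nil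
  (nat_lit 1838) (nat_lit 147) (nat_lit 1668) .nil))))) (nat_lit 1840) (nat_lit 150) (nat_lit 1542) (.node
  (.node (.node (.node (.node (.node .nil (nat_lit 1844) (nat_lit 147) (nat_lit 1667) .nil) (nat_lit 1850)
  (nat_lit 152) (nat_lit 1181) .nil) (nat_lit 1854) (nat_lit 216) (nat_lit 1180) (.node (.node .nil (nat_lit
  1855) (nat_lit 120) (nat_lit 914) .nil) (nat_lit 1857) (nat_lit 152) (nat_lit 920) .nil)) (nat_lit 1861)
  (nat_lit 248) (nat_lit 917) (.node (.node (.node .nil (nat_lit 1862) (nat_lit 120) (nat_lit 907) .nil)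
  (nat_lit 1863) (nat_lit 210) (nat_lit 1565) .nil) (nat_lit 1865) (nat_lit 211) (nat_lit 591) (.node .nil
  (nat_lit 1866) (nat_lit 248) (nat_lit 3057) .nil))) (nat_lit 1867) (nat_lit 209) (nat_lit 2225) (.node
  (.node (.node (.node .nil (nat_lit 1868) (nat_lit 184) (nat_lit 2134) .nil) (nat_lit 1869) (nat_lit 150)
  (nat_lit 2244) .nil) (nat_lit 1870) (nat_lit 248) (nat_lit 784) (.node (.node .nil (nat_lit 1871) (nat_lit
  152) (nat_lit 797) .nil) (nat_lit 1872) (nat_lit 245) (nat_lit 1569) .nil)) (nat_lit 1873) (nat_lit 248)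
  (nat_lit 909) (.node (.node (.node .nil (nat_lit 1874) (nat_lit 243) (nat_lit 583) .nil) (nat_lit 1875)
  (nat_lit 245) (nat_lit 1572) .nil) (nat_lit 1880) (nat_lit 246) (nat_lit 2259) (.node .nil (nat_lit 1883)
  (nat_lit 274) (nat_lit 1592) .nil)))) (nat_lit 1884) (nat_lit 278) (nat_lit 1592) (.node (.node (.node
  (.node (.node .nil (nat_lit 1885) (nat_lit 278) (nat_lit 2265) .nil) (nat_lit 1886) (nat_lit 243) (nat_lit
  584) .nil) (nat_lit 1889) (nat_lit 150) (nat_lit 2272) (.node (.node .nil (nat_lit 1892) (nat_lit 243)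
  (nat_lit 1522) .nil) (nat_lit 1895) (nat_lit 150) (nat_lit 2279) .nil)) (nat_lit 1896) (nat_lit 179)
  (nat_lit 557) (.node (.node (.node .nil (nat_lit 1897) (nat_lit 146) (nat_lit 2272) .nil) (nat_lit 1898)
  (nat_lit 212) (nat_lit 1607) .nil) (nat_lit 1901) (nat_lit 211) (nat_lit 565) (.node .nil (nat_lit 1902)
  (nat_lit 248) (nat_lit 2276) .nil))) (nat_lit 1904) (nat_lit 243) (nat_lit 595) (.node (.node (.node (.node
  .nil (nat_lit 1905) (nat_lit 277) (nat_lit 1592) .nil) (nat_lit 1906) (nat_lit 275) (nat_lit 585) .nil)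
  (nat_lit 1907) (nat_lit 211) (nat_lit 597) (.node (.node .nil (nat_lit 1908) (nat_lit 277) (nat_lit 1595)
  .nil) (nat_lit 1909) (nat_lit 182) (nat_lit 2298) .nil)) (nat_lit 1913) (nat_lit 150) (nat_lit 2306) (.node
  (.node (.node .nil (nat_lit 1914) (nat_lit 210) (nat_lit 1605) .nil) (nat_lit 1915) (nat_lit 147) (nat_lit
  2389) .nil) (nat_lit 1916) (nat_lit 209) (nat_lit 2302) (.node .nil (nat_lit 1919) (nat_lit 211) (nat_lit
  1500) .nil)))))))
def t5_8 : T := (.node (.node (.node (.node (.node (.node (.node (.node .nil (nat_lit 1922) (nat_lit 179)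
  (nat_lit 558) .nil) (nat_lit 1923) (nat_lit 117) (nat_lit 1694) .nil) (nat_lit 1924) (nat_lit 216) (nat_lit
  2324) (.node (.node .nil (nat_lit 1925) (nat_lit 213) (nat_lit 1605) .nil) (nat_lit 1926) (nat_lit 214)
  (nat_lit 1605) .nil)) (nat_lit 1927) (nat_lit 213) (nat_lit 1672) (.node (.node (.node .nil (nat_lit 1928)
  (nat_lit 177) (nat_lit 1630) .nil) (nat_lit 1929) (nat_lit 214) (nat_lit 2325) .nil) (nat_lit 1930) (nat_lit
  213) (nat_lit 2325) (.node .nil (nat_lit 1932) (nat_lit 214) (nat_lit 1610) .nil))) (nat_lit 1933) (nat_lit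
  150) (nat_lit 2327) (.node (.node (.node (.node .nil (nat_lit 1934) (nat_lit 149) (nat_lit 1677) .nil)
  (nat_lit 1935) (nat_lit 180) (nat_lit 1613) .nil) (nat_lit 1936) (nat_lit 241) (nat_lit 1618) (.node (.node
  .nil (nat_lit 1937) (nat_lit 149) (nat_lit 2229) .nil) (nat_lit 1941) (nat_lit 179) (nat_lit 2217) .nil))
  (nat_lit 1944) (nat_lit 210) (nat_lit 1625) (.node (.node (.node .nil (nat_lit 1945) (nat_lit 117) (nat_lit
  1679) .nil) (nat_lit 1946) (nat_lit 184) (nat_lit 2355) .nil) (nat_lit 1947) (nat_lit 245) (nat_lit 1618)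
  (.node .nil (nat_lit 1948) (nat_lit 246) (nat_lit 1618) .nil)))) (nat_lit 1949) (nat_lit 147) (nat_lit 1692)
  (.node (.node (.node (.node (.node .nil (nat_lit 1950) (nat_lit 182) (nat_lit 2206) .nil) (nat_lit 1951)
  (nat_lit 181) (nat_lit 2206) .nil) (nat_lit 1956) (nat_lit 211) (nat_lit 566) (.node (.node .nil (nat_lit
  1957) (nat_lit 213) (nat_lit 1625) .nil) (nat_lit 1958) (nat_lit 214) (nat_lit 1625) .nil)) (nat_lit 1959)
  (nat_lit 216) (nat_lit 1632) (.node (.node (.node .nil (nat_lit 1960) (nat_lit 216) (nat_lit 2149) .nil)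
  (nat_lit 1961) (nat_lit 178) (nat_lit 2352) .nil) (nat_lit 1962) (nat_lit 244) (nat_lit 1628) (.node .nil
  (nat_lit 1963) (nat_lit 246) (nat_lit 1628) .nil))) (nat_lit 1964) (nat_lit 181) (nat_lit 2095) (.node
  (.node (.node (.node .nil (nat_lit 1965) (nat_lit 178) (nat_lit 2206) .nil) (nat_lit 1967) (nat_lit 150)
  (nat_lit 2363) .nil) (nat_lit 1968) (nat_lit 118) (nat_lit 2365) (.node (.node .nil (nat_lit 1969) (nat_lit
  212) (nat_lit 2364) .nil) (nat_lit 1970) (nat_lit 115) (nat_lit 1679) .nil)) (nat_lit 1971) (nat_lit 150)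
  (nat_lit 2370) (.node (.node (.node .nil (nat_lit 1972) (nat_lit 244) (nat_lit 2369) .nil) (nat_lit 1973)
  (nat_lit 147) (nat_lit 1570) .nil) (nat_lit 1974) (nat_lit 208) (nat_lit 2364) (.node .nil (nat_lit 1975)
  (nat_lit 115) (nat_lit 1223) .nil))))) (nat_lit 1976) (nat_lit 245) (nat_lit 1639) (.node (.node (.node
  (.node (.node (.node .nil (nat_lit 1977) (nat_lit 244) (nat_lit 2375) .nil) (nat_lit 1979) (nat_lit 245)
  (nat_lit 1642) .nil) (nat_lit 1980) (nat_lit 243) (nat_lit 2246) (.node (.node .nil (nat_lit 1981) (nat_lit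
  242) (nat_lit 1649) .nil) (nat_lit 1982) (nat_lit 275) (nat_lit 2429) .nil)) (nat_lit 1984) (nat_lit 243)
  (nat_lit 586) (.node (.node (.node .nil (nat_lit 1985) (nat_lit 246) (nat_lit 1647) .nil) (nat_lit 1986)
  (nat_lit 241) (nat_lit 2293) .nil) (nat_lit 1990) (nat_lit 150) (nat_lit 1664) (.node .nil (nat_lit 1991)
  (nat_lit 147) (nat_lit 1215) .nil))) (nat_lit 1992) (nat_lit 147) (nat_lit 1141) (.node (.node (.node (.node
  .nil (nat_lit 1994) (nat_lit 152) (nat_lit 787) .nil) (nat_lit 1995) (nat_lit 211) (nat_lit 2080) .nil)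
  (nat_lit 1996) (nat_lit 120) (nat_lit 788) (.node (.node .nil (nat_lit 1997) (nat_lit 210) (nat_lit 1672)
  .nil) (nat_lit 1998) (nat_lit 243) (nat_lit 3025) .nil)) (nat_lit 1999) (nat_lit 179) (nat_lit 552) (.node
  (.node (.node .nil (nat_lit 2000) (nat_lit 208) (nat_lit 2325) .nil) (nat_lit 2001) (nat_lit 152) (nat_lit
  892) .nil) (nat_lit 2002) (nat_lit 149) (nat_lit 1674) (.node .nil (nat_lit 2003) (nat_lit 211) (nat_lit
  2084) .nil)))) (nat_lit 2004) (nat_lit 120) (nat_lit 893) (.node (.node (.node (.node (.node .nil (nat_lit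
  2005) (nat_lit 209) (nat_lit 1680) .nil) (nat_lit 2006) (nat_lit 211) (nat_lit 1459) .nil) (nat_lit 2007)
  (nat_lit 211) (nat_lit 2420) (.node (.node .nil (nat_lit 2008) (nat_lit 152) (nat_lit 1111) .nil) (nat_lit
  2009) (nat_lit 152) (nat_lit 939) .nil)) (nat_lit 2010) (nat_lit 216) (nat_lit 1108) (.node (.node (.node
  .nil (nat_lit 2011) (nat_lit 120) (nat_lit 1076) .nil) (nat_lit 2012) (nat_lit 210) (nat_lit 1695) .nil)
  (nat_lit 2013) (nat_lit 245) (nat_lit 1678) (.node .nil (nat_lit 2014) (nat_lit 241) (nat_lit 2413) .nil)))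
  (nat_lit 2015) (nat_lit 178) (nat_lit 1698) (.node (.node (.node (.node .nil (nat_lit 2016) (nat_lit 178)
  (nat_lit 1699) .nil) (nat_lit 2017) (nat_lit 214) (nat_lit 1680) .nil) (nat_lit 2018) (nat_lit 243) (nat_lit
  1501) (.node (.node .nil (nat_lit 2019) (nat_lit 243) (nat_lit 2405) .nil) (nat_lit 2021) (nat_lit 216)
  (nat_lit 922) .nil)) (nat_lit 2022) (nat_lit 152) (nat_lit 942) (.node (.node (.node .nil (nat_lit 2023)
  (nat_lit 245) (nat_lit 1684) .nil) (nat_lit 2024) (nat_lit 248) (nat_lit 926) .nil) (nat_lit 2025) (nat_lit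
  275) (nat_lit 1526) (.node .nil (nat_lit 2026) (nat_lit 280) (nat_lit 3094) .nil)))))) (nat_lit 2027)
  (nat_lit 246) (nat_lit 2289) (.node (.node (.node (.node (.node (.node (.node .nil (nat_lit 2028) (nat_lit
  248) (nat_lit 1701) .nil) (nat_lit 2031) (nat_lit 216) (nat_lit 1470) .nil) (nat_lit 2032) (nat_lit 120)
  (nat_lit 1092) (.node (.node .nil (nat_lit 2033) (nat_lit 211) (nat_lit 607) .nil) (nat_lit 2034) (nat_lit
  248) (nat_lit 2415) .nil)) (nat_lit 2035) (nat_lit 210) (nat_lit 2436) (.node (.node (.node .nil (nat_lit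
  2036) (nat_lit 179) (nat_lit 562) .nil) (nat_lit 2037) (nat_lit 213) (nat_lit 1695) .nil) (nat_lit 2038)
  (nat_lit 214) (nat_lit 1695) (.node .nil (nat_lit 2039) (nat_lit 243) (nat_lit 567) .nil))) (nat_lit 2040)
  (nat_lit 245) (nat_lit 1697) (.node (.node (.node (.node .nil (nat_lit 2041) (nat_lit 182) (nat_lit 1698)
  .nil) (nat_lit 2042) (nat_lit 182) (nat_lit 1699) .nil) (nat_lit 2043) (nat_lit 246) (nat_lit 1701) (.node
  (.node .nil (nat_lit 2044) (nat_lit 278) (nat_lit 1703) .nil) (nat_lit 2047) (nat_lit 228) (nat_lit 1821)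
  .nil)) (nat_lit 2049) (nat_lit 200) (nat_lit 2548) (.node (.node (.node .nil (nat_lit 2051) (nat_lit 196)
  (nat_lit 1726) .nil) (nat_lit 2052) (nat_lit 229) (nat_lit 1709) .nil) (nat_lit 2054) (nat_lit 198) (nat_lit
  1798) (.node .nil (nat_lit 2055) (nat_lit 198) (nat_lit 1781) .nil)))) (nat_lit 2056) (nat_lit 198) (nat_lit
  1804) (.node (.node (.node (.node (.node .nil (nat_lit 2057) (nat_lit 230) (nat_lit 1766) .nil) (nat_lit
  2058) (nat_lit 229) (nat_lit 1724) .nil) (nat_lit 2059) (nat_lit 134) (nat_lit 1795) (.node (.node .nil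
  (nat_lit 2060) (nat_lit 166) (nat_lit 1776) .nil) (nat_lit 2062) (nat_lit 166) (nat_lit 1806) .nil))
  (nat_lit 2063) (nat_lit 166) (nat_lit 1773) (.node (.node (.node .nil (nat_lit 2064) (nat_lit 163) (nat_lit
  1424) .nil) (nat_lit 2065) (nat_lit 198) (nat_lit 1796) .nil) (nat_lit 2066) (nat_lit 168) (nat_lit 1771)
  (.node .nil (nat_lit 2067) (nat_lit 225) (nat_lit 1724) .nil))) (nat_lit 2068) (nat_lit 193) (nat_lit 1777)
  (.node (.node (.node (.node .nil (nat_lit 2069) (nat_lit 193) (nat_lit 1722) .nil) (nat_lit 2070) (nat_lit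
  196) (nat_lit 1721) .nil) (nat_lit 2071) (nat_lit 198) (nat_lit 1778) (.node (.node .nil (nat_lit 2072)
  (nat_lit 196) (nat_lit 1743) .nil) (nat_lit 2073) (nat_lit 193) (nat_lit 1782) .nil)) (nat_lit 2074)
  (nat_lit 196) (nat_lit 1725) (.node (.node (.node .nil (nat_lit 2075) (nat_lit 197) (nat_lit 1727) .nil)
  (nat_lit 2076) (nat_lit 228) (nat_lit 1728) .nil) (nat_lit 2077) (nat_lit 228) (nat_lit 2456) (.node .nil
  (nat_lit 2078) (nat_lit 198) (nat_lit 1777) .nil))))) (nat_lit 2079) (nat_lit 230) (nat_lit 1786) (.node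
  (.node (.node (.node (.node (.node .nil (nat_lit 2080) (nat_lit 198) (nat_lit 1782) .nil) (nat_lit 2081)
  (nat_lit 230) (nat_lit 2490) .nil) (nat_lit 2082) (nat_lit 230) (nat_lit 2493) (.node (.node .nil (nat_lit
  2083) (nat_lit 196) (nat_lit 1734) .nil) (nat_lit 2084) (nat_lit 198) (nat_lit 1783) .nil)) (nat_lit 2085)
  (nat_lit 131) (nat_lit 1420) (.node (.node (.node .nil (nat_lit 2086) (nat_lit 200) (nat_lit 2547) .nil)
  (nat_lit 2087) (nat_lit 198) (nat_lit 1779) .nil) (nat_lit 2088) (nat_lit 196) (nat_lit 2498) (.node .nil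
  (nat_lit 2089) (nat_lit 230) (nat_lit 1787) .nil))) (nat_lit 2090) (nat_lit 198) (nat_lit 1784) (.node
  (.node (.node (.node .nil (nat_lit 2091) (nat_lit 162) (nat_lit 1838) .nil) (nat_lit 2092) (nat_lit 198)
  (nat_lit 1785) .nil) (nat_lit 2093) (nat_lit 228) (nat_lit 2502) (.node (.node .nil (nat_lit 2094) (nat_lit
  196) (nat_lit 1785) .nil) (nat_lit 2095) (nat_lit 162) (nat_lit 2495) .nil)) (nat_lit 2096) (nat_lit 197)
  (nat_lit 1742) (.node (.node (.node .nil (nat_lit 2098) (nat_lit 166) (nat_lit 1771) .nil) (nat_lit 2099)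
  (nat_lit 226) (nat_lit 1746) .nil) (nat_lit 2100) (nat_lit 230) (nat_lit 1758) (.node .nil (nat_lit 2101)
  (nat_lit 229) (nat_lit 1746) .nil)))) (nat_lit 2105) (nat_lit 232) (nat_lit 1395) (.node (.node (.node
  (.node (.node .nil (nat_lit 2110) (nat_lit 232) (nat_lit 1034) .nil) (nat_lit 2112) (nat_lit 226) (nat_lit
  1758) .nil) (nat_lit 2113) (nat_lit 225) (nat_lit 1829) (.node (.node .nil (nat_lit 2114) (nat_lit 261)
  (nat_lit 1754) .nil) (nat_lit 2116) (nat_lit 195) (nat_lit 615) .nil)) (nat_lit 2117) (nat_lit 200) (nat_lit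
  1391) (.node (.node (.node .nil (nat_lit 2118) (nat_lit 229) (nat_lit 1756) .nil) (nat_lit 2120) (nat_lit
  195) (nat_lit 619) .nil) (nat_lit 2121) (nat_lit 227) (nat_lit 521) (.node .nil (nat_lit 2122) (nat_lit 229)
  (nat_lit 1758) .nil))) (nat_lit 2123) (nat_lit 261) (nat_lit 1759) (.node (.node (.node (.node .nil (nat_lit
  2124) (nat_lit 226) (nat_lit 1762) .nil) (nat_lit 2125) (nat_lit 227) (nat_lit 622) .nil) (nat_lit 2126)
  (nat_lit 198) (nat_lit 2498) (.node (.node .nil (nat_lit 2127) (nat_lit 229) (nat_lit 1762) .nil) (nat_lit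
  2129) (nat_lit 230) (nat_lit 2464) .nil)) (nat_lit 2130) (nat_lit 197) (nat_lit 1781) (.node (.node (.node
  .nil (nat_lit 2131) (nat_lit 166) (nat_lit 1838) .nil) (nat_lit 2132) (nat_lit 166) (nat_lit 2495) .nil)
  (nat_lit 2134) (nat_lit 165) (nat_lit 2549) (.node .nil (nat_lit 2135) (nat_lit 165) (nat_lit 1806)
  .nil)))))))
def t5_9 : T := (.node (.node (.node (.node (.node (.node (.node (.node .nil (nat_lit 2137) (nat_lit 194)
  (nat_lit 1774) .nil) (nat_lit 2138) (nat_lit 195) (nat_lit 621) .nil) (nat_lit 2139) (nat_lit 161) (nat_lit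
  1776) (.node (.node .nil (nat_lit 2140) (nat_lit 194) (nat_lit 1778) .nil) (nat_lit 2141) (nat_lit 194)
  (nat_lit 1779) .nil)) (nat_lit 2142) (nat_lit 197) (nat_lit 1777) (.node (.node (.node .nil (nat_lit 2143)
  (nat_lit 195) (nat_lit 630) .nil) (nat_lit 2144) (nat_lit 197) (nat_lit 1779) .nil) (nat_lit 2145) (nat_lit
  196) (nat_lit 1780) (.node .nil (nat_lit 2146) (nat_lit 196) (nat_lit 1796) .nil))) (nat_lit 2147) (nat_lit
  194) (nat_lit 1784) (.node (.node (.node (.node .nil (nat_lit 2148) (nat_lit 193) (nat_lit 1783) .nil)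
  (nat_lit 2149) (nat_lit 197) (nat_lit 1783) .nil) (nat_lit 2150) (nat_lit 197) (nat_lit 1784) (.node (.node
  .nil (nat_lit 2151) (nat_lit 232) (nat_lit 2562) .nil) (nat_lit 2152) (nat_lit 225) (nat_lit 1786) .nil))
  (nat_lit 2153) (nat_lit 228) (nat_lit 2562) (.node (.node (.node .nil (nat_lit 2154) (nat_lit 232) (nat_lit
  2493) .nil) (nat_lit 2155) (nat_lit 193) (nat_lit 2570) .nil) (nat_lit 2156) (nat_lit 228) (nat_lit 1788)
  (.node .nil (nat_lit 2157) (nat_lit 196) (nat_lit 2551) .nil)))) (nat_lit 2158) (nat_lit 226) (nat_lit 2490)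
  (.node (.node (.node (.node (.node .nil (nat_lit 2159) (nat_lit 226) (nat_lit 1799) .nil) (nat_lit 2160)
  (nat_lit 230) (nat_lit 2448) .nil) (nat_lit 2161) (nat_lit 258) (nat_lit 2567) (.node (.node .nil (nat_lit
  2162) (nat_lit 258) (nat_lit 2568) .nil) (nat_lit 2163) (nat_lit 225) (nat_lit 1793) .nil)) (nat_lit 2164)
  (nat_lit 230) (nat_lit 2477) (.node (.node (.node .nil (nat_lit 2165) (nat_lit 260) (nat_lit 2526) .nil)
  (nat_lit 2166) (nat_lit 228) (nat_lit 2477) .nil) (nat_lit 2167) (nat_lit 227) (nat_lit 2010) (.node .nil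
  (nat_lit 2168) (nat_lit 228) (nat_lit 2558) .nil))) (nat_lit 2169) (nat_lit 197) (nat_lit 1798) (.node
  (.node (.node (.node .nil (nat_lit 2170) (nat_lit 230) (nat_lit 2456) .nil) (nat_lit 2171) (nat_lit 260)
  (nat_lit 2536) .nil) (nat_lit 2172) (nat_lit 228) (nat_lit 2529) (.node (.node .nil (nat_lit 2173) (nat_lit
  225) (nat_lit 2501) .nil) (nat_lit 2174) (nat_lit 163) (nat_lit 1857) .nil)) (nat_lit 2175) (nat_lit 229)
  (nat_lit 1807) (.node (.node (.node .nil (nat_lit 2178) (nat_lit 226) (nat_lit 1812) .nil) (nat_lit 2181)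
  (nat_lit 229) (nat_lit 1812) .nil) (nat_lit 2188) (nat_lit 259) (nat_lit 2664) (.node .nil (nat_lit 2189)
  (nat_lit 257) (nat_lit 1819) .nil))))) (nat_lit 2190) (nat_lit 259) (nat_lit 2511) (.node (.node (.node
  (.node (.node (.node .nil (nat_lit 2191) (nat_lit 260) (nat_lit 2527) .nil) (nat_lit 2192) (nat_lit 260)
  (nat_lit 2449) .nil) (nat_lit 2193) (nat_lit 168) (nat_lit 1393) (.node (.node .nil (nat_lit 2194) (nat_lit
  291) (nat_lit 2829) .nil) (nat_lit 2195) (nat_lit 259) (nat_lit 2831) .nil)) (nat_lit 2196) (nat_lit 296)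
  (nat_lit 2618) (.node (.node (.node .nil (nat_lit 2197) (nat_lit 259) (nat_lit 2782) .nil) (nat_lit 2198)
  (nat_lit 261) (nat_lit 1824) .nil) (nat_lit 2199) (nat_lit 261) (nat_lit 1828) (.node .nil (nat_lit 2200)
  (nat_lit 229) (nat_lit 1829) .nil))) (nat_lit 2201) (nat_lit 260) (nat_lit 2507) (.node (.node (.node (.node
  .nil (nat_lit 2202) (nat_lit 227) (nat_lit 2021) .nil) (nat_lit 2204) (nat_lit 260) (nat_lit 2457) .nil)
  (nat_lit 2206) (nat_lit 163) (nat_lit 1994) (.node (.node .nil (nat_lit 2217) (nat_lit 168) (nat_lit 1030)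
  .nil) (nat_lit 2221) (nat_lit 200) (nat_lit 1387) .nil)) (nat_lit 2222) (nat_lit 136) (nat_lit 1024) (.node
  (.node (.node .nil (nat_lit 2224) (nat_lit 232) (nat_lit 2721) .nil) (nat_lit 2225) (nat_lit 194) (nat_lit
  2620) .nil) (nat_lit 2226) (nat_lit 168) (nat_lit 854) (.node .nil (nat_lit 2227) (nat_lit 168) (nat_lit
  848) .nil)))) (nat_lit 2228) (nat_lit 232) (nat_lit 1028) (.node (.node (.node (.node (.node .nil (nat_lit
  2229) (nat_lit 136) (nat_lit 1018) .nil) (nat_lit 2233) (nat_lit 197) (nat_lit 2570) .nil) (nat_lit 2235)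
  (nat_lit 226) (nat_lit 1865) (.node (.node .nil (nat_lit 2236) (nat_lit 261) (nat_lit 1861) .nil) (nat_lit
  2237) (nat_lit 225) (nat_lit 2643) .nil)) (nat_lit 2238) (nat_lit 193) (nat_lit 2650) (.node (.node (.node
  .nil (nat_lit 2239) (nat_lit 229) (nat_lit 1865) .nil) (nat_lit 2240) (nat_lit 230) (nat_lit 1865) .nil)
  (nat_lit 2241) (nat_lit 227) (nat_lit 643) (.node .nil (nat_lit 2242) (nat_lit 229) (nat_lit 1867) .nil)))
  (nat_lit 2243) (nat_lit 232) (nat_lit 842) (.node (.node (.node (.node .nil (nat_lit 2244) (nat_lit 133)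
  (nat_lit 1970) .nil) (nat_lit 2245) (nat_lit 261) (nat_lit 1870) .nil) (nat_lit 2246) (nat_lit 232) (nat_lit
  845) (.node (.node .nil (nat_lit 2247) (nat_lit 259) (nat_lit 1819) .nil) (nat_lit 2248) (nat_lit 264)
  (nat_lit 3300) .nil)) (nat_lit 2249) (nat_lit 262) (nat_lit 1874) (.node (.node (.node .nil (nat_lit 2252)
  (nat_lit 262) (nat_lit 2665) .nil) (nat_lit 2256) (nat_lit 230) (nat_lit 1956) .nil) (nat_lit 2257) (nat_lit
  262) (nat_lit 1904) (.node .nil (nat_lit 2258) (nat_lit 262) (nat_lit 2674) .nil)))))) (nat_lit 2259)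
  (nat_lit 227) (nat_lit 612) (.node (.node (.node (.node (.node (.node (.node .nil (nat_lit 2262) (nat_lit
  293) (nat_lit 1883) .nil) (nat_lit 2263) (nat_lit 294) (nat_lit 1905) .nil) (nat_lit 2264) (nat_lit 230)
  (nat_lit 2678) (.node (.node .nil (nat_lit 2265) (nat_lit 261) (nat_lit 1886) .nil) (nat_lit 2266) (nat_lit
  134) (nat_lit 2680) .nil)) (nat_lit 2270) (nat_lit 134) (nat_lit 2686) (.node (.node (.node .nil (nat_lit
  2271) (nat_lit 194) (nat_lit 1896) .nil) (nat_lit 2272) (nat_lit 131) (nat_lit 1996) .nil) (nat_lit 2273)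
  (nat_lit 228) (nat_lit 1916) (.node .nil (nat_lit 2276) (nat_lit 227) (nat_lit 1789) .nil))) (nat_lit 2277)
  (nat_lit 232) (nat_lit 1901) (.node (.node (.node (.node .nil (nat_lit 2279) (nat_lit 130) (nat_lit 2686)
  .nil) (nat_lit 2280) (nat_lit 197) (nat_lit 1999) .nil) (nat_lit 2281) (nat_lit 198) (nat_lit 1896) (.node
  (.node .nil (nat_lit 2282) (nat_lit 232) (nat_lit 1930) .nil) (nat_lit 2283) (nat_lit 196) (nat_lit 1928)
  .nil)) (nat_lit 2284) (nat_lit 229) (nat_lit 1898) (.node (.node (.node .nil (nat_lit 2285) (nat_lit 228)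
  (nat_lit 1930) .nil) (nat_lit 2287) (nat_lit 227) (nat_lit 642) .nil) (nat_lit 2288) (nat_lit 230) (nat_lit
  1901) (.node .nil (nat_lit 2289) (nat_lit 227) (nat_lit 2521) .nil)))) (nat_lit 2290) (nat_lit 261) (nat_lit
  1904) (.node (.node (.node (.node (.node .nil (nat_lit 2291) (nat_lit 195) (nat_lit 660) .nil) (nat_lit
  2292) (nat_lit 227) (nat_lit 655) .nil) (nat_lit 2293) (nat_lit 226) (nat_lit 2678) (.node (.node .nil
  (nat_lit 2294) (nat_lit 164) (nat_lit 1934) .nil) (nat_lit 2295) (nat_lit 166) (nat_lit 2706) .nil))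
  (nat_lit 2296) (nat_lit 166) (nat_lit 2708) (.node (.node (.node .nil (nat_lit 2297) (nat_lit 225) (nat_lit
  1914) .nil) (nat_lit 2298) (nat_lit 163) (nat_lit 2640) .nil) (nat_lit 2302) (nat_lit 194) (nat_lit 1941)
  (.node .nil (nat_lit 2305) (nat_lit 194) (nat_lit 1922) .nil))) (nat_lit 2306) (nat_lit 131) (nat_lit 2004)
  (.node (.node (.node (.node .nil (nat_lit 2307) (nat_lit 232) (nat_lit 2725) .nil) (nat_lit 2308) (nat_lit
  229) (nat_lit 1914) .nil) (nat_lit 2309) (nat_lit 230) (nat_lit 1914) (.node (.node .nil (nat_lit 2310)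
  (nat_lit 224) (nat_lit 1916) .nil) (nat_lit 2311) (nat_lit 193) (nat_lit 2714) .nil)) (nat_lit 2312)
  (nat_lit 230) (nat_lit 2726) (.node (.node (.node .nil (nat_lit 2313) (nat_lit 229) (nat_lit 2726) .nil)
  (nat_lit 2315) (nat_lit 227) (nat_lit 1731) .nil) (nat_lit 2316) (nat_lit 227) (nat_lit 2804) (.node .nil
  (nat_lit 2317) (nat_lit 197) (nat_lit 1922) .nil))))) (nat_lit 2318) (nat_lit 198) (nat_lit 1922) (.node
  (.node (.node (.node (.node (.node .nil (nat_lit 2319) (nat_lit 228) (nat_lit 2535) .nil) (nat_lit 2320)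
  (nat_lit 193) (nat_lit 1961) .nil) (nat_lit 2321) (nat_lit 197) (nat_lit 2036) (.node (.node .nil (nat_lit
  2322) (nat_lit 230) (nat_lit 1925) .nil) (nat_lit 2323) (nat_lit 229) (nat_lit 2000) .nil)) (nat_lit 2324)
  (nat_lit 197) (nat_lit 2498) (.node (.node (.node .nil (nat_lit 2325) (nat_lit 193) (nat_lit 1965) .nil)
  (nat_lit 2326) (nat_lit 228) (nat_lit 2705) .nil) (nat_lit 2327) (nat_lit 131) (nat_lit 2011) (.node .nil
  (nat_lit 2328) (nat_lit 225) (nat_lit 1944) .nil))) (nat_lit 2329) (nat_lit 133) (nat_lit 2011) (.node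
  (.node (.node (.node .nil (nat_lit 2330) (nat_lit 168) (nat_lit 1056) .nil) (nat_lit 2331) (nat_lit 224)
  (nat_lit 2705) .nil) (nat_lit 2332) (nat_lit 162) (nat_lit 2708) (.node (.node .nil (nat_lit 2333) (nat_lit
  200) (nat_lit 2750) .nil) (nat_lit 2334) (nat_lit 261) (nat_lit 1936) .nil)) (nat_lit 2335) (nat_lit 227)
  (nat_lit 2810) (.node (.node (.node .nil (nat_lit 2338) (nat_lit 195) (nat_lit 2626) .nil) (nat_lit 2341)
  (nat_lit 195) (nat_lit 2625) .nil) (nat_lit 2342) (nat_lit 163) (nat_lit 2008) (.node .nil (nat_lit 2343)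
  (nat_lit 198) (nat_lit 2592) .nil)))) (nat_lit 2344) (nat_lit 197) (nat_lit 2592) (.node (.node (.node
  (.node (.node .nil (nat_lit 2347) (nat_lit 226) (nat_lit 1956) .nil) (nat_lit 2348) (nat_lit 229) (nat_lit
  1944) .nil) (nat_lit 2349) (nat_lit 230) (nat_lit 1944) (.node (.node .nil (nat_lit 2350) (nat_lit 200)
  (nat_lit 1951) .nil) (nat_lit 2351) (nat_lit 200) (nat_lit 1785) .nil)) (nat_lit 2352) (nat_lit 163)
  (nat_lit 2613) (.node (.node (.node .nil (nat_lit 2353) (nat_lit 260) (nat_lit 1947) .nil) (nat_lit 2354)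
  (nat_lit 262) (nat_lit 1947) .nil) (nat_lit 2355) (nat_lit 165) (nat_lit 2495) (.node .nil (nat_lit 2356)
  (nat_lit 229) (nat_lit 1956) .nil))) (nat_lit 2357) (nat_lit 228) (nat_lit 1957) (.node (.node (.node (.node
  .nil (nat_lit 2358) (nat_lit 230) (nat_lit 1957) .nil) (nat_lit 2359) (nat_lit 194) (nat_lit 2757) .nil)
  (nat_lit 2360) (nat_lit 197) (nat_lit 1961) (.node (.node .nil (nat_lit 2361) (nat_lit 262) (nat_lit 1962)
  .nil) (nat_lit 2362) (nat_lit 228) (nat_lit 2679) .nil)) (nat_lit 2363) (nat_lit 131) (nat_lit 1862) (.node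
  (.node (.node .nil (nat_lit 2364) (nat_lit 193) (nat_lit 2016) .nil) (nat_lit 2365) (nat_lit 99) (nat_lit
  1423) .nil) (nat_lit 2366) (nat_lit 227) (nat_lit 1732) (.node .nil (nat_lit 2367) (nat_lit 229) (nat_lit
  1969) .nil)))))))
def t5_10 : T := (.node (.node (.node (.node (.node (.node (.node (.node .nil (nat_lit 2369) (nat_lit 224)
  (nat_lit 2679) .nil) (nat_lit 2370) (nat_lit 131) (nat_lit 1416) .nil) (nat_lit 2372) (nat_lit 261) (nat_lit
  1972) (.node (.node .nil (nat_lit 2373) (nat_lit 228) (nat_lit 2773) .nil) (nat_lit 2374) (nat_lit 224)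
  (nat_lit 2005) .nil)) (nat_lit 2375) (nat_lit 229) (nat_lit 2778) (.node (.node (.node .nil (nat_lit 2376)
  (nat_lit 261) (nat_lit 2777) .nil) (nat_lit 2377) (nat_lit 260) (nat_lit 2780) .nil) (nat_lit 2379) (nat_lit
  258) (nat_lit 1984) (.node .nil (nat_lit 2380) (nat_lit 259) (nat_lit 2659) .nil))) (nat_lit 2381) (nat_lit
  262) (nat_lit 2785) (.node (.node (.node (.node .nil (nat_lit 2382) (nat_lit 257) (nat_lit 2785) .nil)
  (nat_lit 2384) (nat_lit 225) (nat_lit 2676) .nil) (nat_lit 2387) (nat_lit 165) (nat_lit 1994) (.node (.node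
  .nil (nat_lit 2388) (nat_lit 227) (nat_lit 2487) .nil) (nat_lit 2389) (nat_lit 136) (nat_lit 849) .nil))
  (nat_lit 2390) (nat_lit 225) (nat_lit 1997) (.node (.node (.node .nil (nat_lit 2391) (nat_lit 227) (nat_lit
  2688) .nil) (nat_lit 2392) (nat_lit 194) (nat_lit 1999) .nil) (nat_lit 2393) (nat_lit 224) (nat_lit 2726)
  (.node .nil (nat_lit 2394) (nat_lit 192) (nat_lit 2498) .nil)))) (nat_lit 2395) (nat_lit 168) (nat_lit 995)
  (.node (.node (.node (.node (.node .nil (nat_lit 2396) (nat_lit 168) (nat_lit 996) .nil) (nat_lit 2397)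
  (nat_lit 165) (nat_lit 2001) .nil) (nat_lit 2398) (nat_lit 200) (nat_lit 986) (.node (.node .nil (nat_lit
  2399) (nat_lit 136) (nat_lit 997) .nil) (nat_lit 2400) (nat_lit 133) (nat_lit 2004) .nil)) (nat_lit 2401)
  (nat_lit 228) (nat_lit 2005) (.node (.node (.node .nil (nat_lit 2402) (nat_lit 227) (nat_lit 2491) .nil)
  (nat_lit 2403) (nat_lit 227) (nat_lit 2718) .nil) (nat_lit 2404) (nat_lit 193) (nat_lit 2015) (.node .nil
  (nat_lit 2405) (nat_lit 230) (nat_lit 2005) .nil))) (nat_lit 2406) (nat_lit 227) (nat_lit 2017) (.node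
  (.node (.node (.node .nil (nat_lit 2407) (nat_lit 200) (nat_lit 1286) .nil) (nat_lit 2408) (nat_lit 136)
  (nat_lit 1239) .nil) (nat_lit 2409) (nat_lit 200) (nat_lit 1032) (.node (.node .nil (nat_lit 2410) (nat_lit
  136) (nat_lit 1059) .nil) (nat_lit 2411) (nat_lit 225) (nat_lit 2012) .nil)) (nat_lit 2412) (nat_lit 229)
  (nat_lit 2010) (.node (.node (.node .nil (nat_lit 2413) (nat_lit 226) (nat_lit 2807) .nil) (nat_lit 2414)
  (nat_lit 194) (nat_lit 2036) .nil) (nat_lit 2415) (nat_lit 229) (nat_lit 2012) (.node .nil (nat_lit 2416)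
  (nat_lit 230) (nat_lit 2012) .nil))))) (nat_lit 2417) (nat_lit 259) (nat_lit 1792) (.node (.node (.node
  (.node (.node (.node .nil (nat_lit 2418) (nat_lit 261) (nat_lit 2014) .nil) (nat_lit 2419) (nat_lit 198)
  (nat_lit 2015) .nil) (nat_lit 2420) (nat_lit 198) (nat_lit 2016) (.node (.node .nil (nat_lit 2421) (nat_lit
  259) (nat_lit 1791) .nil) (nat_lit 2422) (nat_lit 259) (nat_lit 2802) .nil)) (nat_lit 2425) (nat_lit 168)
  (nat_lit 1844) (.node (.node (.node .nil (nat_lit 2426) (nat_lit 229) (nat_lit 2021) .nil) (nat_lit 2427)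
  (nat_lit 232) (nat_lit 1038) .nil) (nat_lit 2428) (nat_lit 260) (nat_lit 2023) (.node .nil (nat_lit 2429)
  (nat_lit 264) (nat_lit 2769) .nil))) (nat_lit 2430) (nat_lit 262) (nat_lit 2701) (.node (.node (.node (.node
  .nil (nat_lit 2431) (nat_lit 261) (nat_lit 2028) .nil) (nat_lit 2432) (nat_lit 262) (nat_lit 2700) .nil)
  (nat_lit 2434) (nat_lit 226) (nat_lit 2033) (.node (.node .nil (nat_lit 2435) (nat_lit 232) (nat_lit 2037)
  .nil) (nat_lit 2436) (nat_lit 195) (nat_lit 2615) .nil)) (nat_lit 2437) (nat_lit 229) (nat_lit 2033) (.node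
  (.node (.node .nil (nat_lit 2438) (nat_lit 230) (nat_lit 2033) .nil) (nat_lit 2439) (nat_lit 232) (nat_lit
  2717) .nil) (nat_lit 2440) (nat_lit 229) (nat_lit 2035) (.node .nil (nat_lit 2441) (nat_lit 198) (nat_lit
  2036) .nil)))) (nat_lit 2442) (nat_lit 230) (nat_lit 2037) (.node (.node (.node (.node (.node .nil (nat_lit
  2443) (nat_lit 262) (nat_lit 2039) .nil) (nat_lit 2446) (nat_lit 212) (nat_lit 2238) .nil) (nat_lit 2448)
  (nat_lit 212) (nat_lit 2073) (.node (.node .nil (nat_lit 2449) (nat_lit 245) (nat_lit 2047) .nil) (nat_lit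
  2451) (nat_lit 214) (nat_lit 2143) .nil)) (nat_lit 2452) (nat_lit 216) (nat_lit 2938) (.node (.node (.node
  .nil (nat_lit 2453) (nat_lit 213) (nat_lit 2049) .nil) (nat_lit 2455) (nat_lit 212) (nat_lit 2069) .nil)
  (nat_lit 2456) (nat_lit 213) (nat_lit 2051) (.node .nil (nat_lit 2457) (nat_lit 245) (nat_lit 2067) .nil)))
  (nat_lit 2458) (nat_lit 214) (nat_lit 2157) (.node (.node (.node (.node .nil (nat_lit 2459) (nat_lit 214)
  (nat_lit 2146) .nil) (nat_lit 2460) (nat_lit 182) (nat_lit 2139) .nil) (nat_lit 2461) (nat_lit 214) (nat_lit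
  2169) (.node (.node .nil (nat_lit 2463) (nat_lit 214) (nat_lit 2130) .nil) (nat_lit 2464) (nat_lit 213)
  (nat_lit 2072) .nil)) (nat_lit 2465) (nat_lit 150) (nat_lit 2136) (.node (.node (.node .nil (nat_lit 2467)
  (nat_lit 182) (nat_lit 2174) .nil) (nat_lit 2468) (nat_lit 179) (nat_lit 1683) .nil) (nat_lit 2469) (nat_lit
  214) (nat_lit 2155) (.node .nil (nat_lit 2470) (nat_lit 246) (nat_lit 2121) .nil)))))) (nat_lit 2471)
  (nat_lit 209) (nat_lit 2140) (.node (.node (.node (.node (.node (.node (.node .nil (nat_lit 2472) (nat_lit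
  212) (nat_lit 2068) .nil) (nat_lit 2473) (nat_lit 214) (nat_lit 2140) .nil) (nat_lit 2474) (nat_lit 213)
  (nat_lit 2070) (.node (.node .nil (nat_lit 2475) (nat_lit 212) (nat_lit 2325) .nil) (nat_lit 2476) (nat_lit
  212) (nat_lit 2148) .nil)) (nat_lit 2477) (nat_lit 213) (nat_lit 2074) (.node (.node (.node .nil (nat_lit
  2478) (nat_lit 246) (nat_lit 2122) .nil) (nat_lit 2479) (nat_lit 241) (nat_lit 2076) .nil) (nat_lit 2480)
  (nat_lit 244) (nat_lit 2843) (.node .nil (nat_lit 2481) (nat_lit 241) (nat_lit 2093) .nil))) (nat_lit 2482)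
  (nat_lit 209) (nat_lit 2873) (.node (.node (.node (.node .nil (nat_lit 2483) (nat_lit 214) (nat_lit 2141)
  .nil) (nat_lit 2484) (nat_lit 212) (nat_lit 2877) .nil) (nat_lit 2485) (nat_lit 246) (nat_lit 2152) (.node
  (.node .nil (nat_lit 2486) (nat_lit 246) (nat_lit 2153) .nil) (nat_lit 2487) (nat_lit 214) (nat_lit 2147)
  .nil)) (nat_lit 2488) (nat_lit 246) (nat_lit 2886) (.node (.node (.node .nil (nat_lit 2489) (nat_lit 246)
  (nat_lit 2889) .nil) (nat_lit 2490) (nat_lit 209) (nat_lit 2083) .nil) (nat_lit 2491) (nat_lit 214) (nat_lit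
  2149) (.node .nil (nat_lit 2492) (nat_lit 212) (nat_lit 2891) .nil)))) (nat_lit 2493) (nat_lit 212) (nat_lit
  2149) (.node (.node (.node (.node (.node .nil (nat_lit 2494) (nat_lit 214) (nat_lit 2148) .nil) (nat_lit
  2495) (nat_lit 147) (nat_lit 1674) .nil) (nat_lit 2496) (nat_lit 214) (nat_lit 2120) (.node (.node .nil
  (nat_lit 2497) (nat_lit 214) (nat_lit 2144) .nil) (nat_lit 2498) (nat_lit 177) (nat_lit 2095) .nil))
  (nat_lit 2499) (nat_lit 213) (nat_lit 2088) (.node (.node (.node .nil (nat_lit 2500) (nat_lit 214) (nat_lit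
  2150) .nil) (nat_lit 2501) (nat_lit 212) (nat_lit 2360) .nil) (nat_lit 2502) (nat_lit 213) (nat_lit 2359)
  (.node .nil (nat_lit 2503) (nat_lit 241) (nat_lit 2872) .nil))) (nat_lit 2504) (nat_lit 248) (nat_lit 2153)
  (.node (.node (.node (.node .nil (nat_lit 2505) (nat_lit 179) (nat_lit 2226) .nil) (nat_lit 2506) (nat_lit
  243) (nat_lit 2243) .nil) (nat_lit 2507) (nat_lit 245) (nat_lit 2099) (.node (.node .nil (nat_lit 2508)
  (nat_lit 214) (nat_lit 2116) .nil) (nat_lit 2511) (nat_lit 248) (nat_lit 1194) .nil)) (nat_lit 2514)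
  (nat_lit 216) (nat_lit 1655) (.node (.node (.node .nil (nat_lit 2515) (nat_lit 245) (nat_lit 2105) .nil)
  (nat_lit 2518) (nat_lit 216) (nat_lit 923) .nil) (nat_lit 2520) (nat_lit 210) (nat_lit 2116) (.node .nil
  (nat_lit 2521) (nat_lit 216) (nat_lit 1191) .nil))))) (nat_lit 2522) (nat_lit 245) (nat_lit 2110) (.node
  (.node (.node (.node (.node (.node .nil (nat_lit 2524) (nat_lit 246) (nat_lit 2902) .nil) (nat_lit 2525)
  (nat_lit 242) (nat_lit 2121) .nil) (nat_lit 2526) (nat_lit 245) (nat_lit 2112) (.node (.node .nil (nat_lit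
  2527) (nat_lit 245) (nat_lit 2113) .nil) (nat_lit 2529) (nat_lit 213) (nat_lit 2116) .nil)) (nat_lit 2530)
  (nat_lit 213) (nat_lit 2117) (.node (.node (.node .nil (nat_lit 2531) (nat_lit 211) (nat_lit 671) .nil)
  (nat_lit 2532) (nat_lit 243) (nat_lit 672) .nil) (nat_lit 2534) (nat_lit 210) (nat_lit 2120) (.node .nil
  (nat_lit 2535) (nat_lit 213) (nat_lit 2120) .nil))) (nat_lit 2536) (nat_lit 245) (nat_lit 2121) (.node
  (.node (.node (.node .nil (nat_lit 2537) (nat_lit 242) (nat_lit 2125) .nil) (nat_lit 2538) (nat_lit 214)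
  (nat_lit 2877) .nil) (nat_lit 2539) (nat_lit 245) (nat_lit 2124) (.node (.node .nil (nat_lit 2540) (nat_lit
  245) (nat_lit 2125) .nil) (nat_lit 2541) (nat_lit 213) (nat_lit 2283) .nil)) (nat_lit 2542) (nat_lit 213)
  (nat_lit 2146) (.node (.node (.node .nil (nat_lit 2545) (nat_lit 182) (nat_lit 2895) .nil) (nat_lit 2546)
  (nat_lit 181) (nat_lit 2940) .nil) (nat_lit 2547) (nat_lit 181) (nat_lit 2174) (.node .nil (nat_lit 2548)
  (nat_lit 180) (nat_lit 2134) .nil)))) (nat_lit 2549) (nat_lit 147) (nat_lit 1677) (.node (.node (.node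
  (.node (.node .nil (nat_lit 2550) (nat_lit 210) (nat_lit 2138) .nil) (nat_lit 2551) (nat_lit 177) (nat_lit
  2940) .nil) (nat_lit 2552) (nat_lit 213) (nat_lit 2138) (.node (.node .nil (nat_lit 2553) (nat_lit 210)
  (nat_lit 2143) .nil) (nat_lit 2554) (nat_lit 209) (nat_lit 2141) .nil)) (nat_lit 2555) (nat_lit 213)
  (nat_lit 2141) (.node (.node (.node .nil (nat_lit 2556) (nat_lit 212) (nat_lit 2142) .nil) (nat_lit 2557)
  (nat_lit 212) (nat_lit 2155) .nil) (nat_lit 2558) (nat_lit 213) (nat_lit 2143) (.node .nil (nat_lit 2559)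
  (nat_lit 212) (nat_lit 2144) .nil))) (nat_lit 2560) (nat_lit 244) (nat_lit 2239) (.node (.node (.node (.node
  .nil (nat_lit 2561) (nat_lit 209) (nat_lit 2147) .nil) (nat_lit 2562) (nat_lit 213) (nat_lit 2147) .nil)
  (nat_lit 2563) (nat_lit 208) (nat_lit 2148) (.node (.node .nil (nat_lit 2564) (nat_lit 213) (nat_lit 2148)
  .nil) (nat_lit 2565) (nat_lit 216) (nat_lit 2150) .nil)) (nat_lit 2566) (nat_lit 245) (nat_lit 2287) (.node
  (.node (.node .nil (nat_lit 2567) (nat_lit 240) (nat_lit 2152) .nil) (nat_lit 2568) (nat_lit 241) (nat_lit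
  2153) .nil) (nat_lit 2569) (nat_lit 216) (nat_lit 2094) (.node .nil (nat_lit 2570) (nat_lit 178) (nat_lit
  2174) .nil)))))))
def t5_11 : T := (.node (.node (.node (.node (.node (.node (.node (.node .nil (nat_lit 2572) (nat_lit 244)
  (nat_lit 2944) .nil) (nat_lit 2573) (nat_lit 213) (nat_lit 2157) .nil) (nat_lit 2574) (nat_lit 242) (nat_lit
  2886) (.node (.node .nil (nat_lit 2575) (nat_lit 242) (nat_lit 2889) .nil) (nat_lit 2576) (nat_lit 246)
  (nat_lit 2843) .nil)) (nat_lit 2577) (nat_lit 276) (nat_lit 2928) (.node (.node (.node .nil (nat_lit 2578)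
  (nat_lit 243) (nat_lit 2228) .nil) (nat_lit 2579) (nat_lit 184) (nat_lit 1187) .nil) (nat_lit 2580) (nat_lit
  274) (nat_lit 2957) (.node .nil (nat_lit 2581) (nat_lit 240) (nat_lit 2163) .nil))) (nat_lit 2582) (nat_lit
  280) (nat_lit 2928) (.node (.node (.node (.node .nil (nat_lit 2583) (nat_lit 248) (nat_lit 2159) .nil)
  (nat_lit 2584) (nat_lit 241) (nat_lit 2166) .nil) (nat_lit 2585) (nat_lit 245) (nat_lit 2167) (.node (.node
  .nil (nat_lit 2586) (nat_lit 244) (nat_lit 2920) .nil) (nat_lit 2587) (nat_lit 242) (nat_lit 2173) .nil))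
  (nat_lit 2588) (nat_lit 211) (nat_lit 2409) (.node (.node (.node .nil (nat_lit 2589) (nat_lit 248) (nat_lit
  2308) .nil) (nat_lit 2590) (nat_lit 244) (nat_lit 2437) .nil) (nat_lit 2591) (nat_lit 246) (nat_lit 2172)
  (.node .nil (nat_lit 2592) (nat_lit 179) (nat_lit 2227) .nil)))) (nat_lit 2595) (nat_lit 241) (nat_lit 2178)
  (.node (.node (.node (.node (.node .nil (nat_lit 2597) (nat_lit 245) (nat_lit 2178) .nil) (nat_lit 2606)
  (nat_lit 248) (nat_lit 924) .nil) (nat_lit 2607) (nat_lit 275) (nat_lit 3020) (.node (.node .nil (nat_lit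
  2608) (nat_lit 243) (nat_lit 2903) .nil) (nat_lit 2609) (nat_lit 280) (nat_lit 2995) .nil)) (nat_lit 2610)
  (nat_lit 275) (nat_lit 2381) (.node (.node (.node .nil (nat_lit 2611) (nat_lit 277) (nat_lit 2190) .nil)
  (nat_lit 2612) (nat_lit 276) (nat_lit 2199) .nil) (nat_lit 2613) (nat_lit 152) (nat_lit 1546) (.node .nil
  (nat_lit 2614) (nat_lit 181) (nat_lit 2193) .nil))) (nat_lit 2615) (nat_lit 184) (nat_lit 1656) (.node
  (.node (.node (.node .nil (nat_lit 2616) (nat_lit 273) (nat_lit 2999) .nil) (nat_lit 2617) (nat_lit 275)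
  (nat_lit 2982) .nil) (nat_lit 2618) (nat_lit 275) (nat_lit 3096) (.node (.node .nil (nat_lit 2619) (nat_lit
  245) (nat_lit 2202) .nil) (nat_lit 2620) (nat_lit 179) (nat_lit 2425) .nil)) (nat_lit 2625) (nat_lit 184)
  (nat_lit 938) (.node (.node (.node .nil (nat_lit 2626) (nat_lit 184) (nat_lit 931) .nil) (nat_lit 2627)
  (nat_lit 216) (nat_lit 1185) .nil) (nat_lit 2628) (nat_lit 152) (nat_lit 1176) (.node .nil (nat_lit 2633)
  (nat_lit 216) (nat_lit 2321) .nil))))) (nat_lit 2634) (nat_lit 213) (nat_lit 2225) (.node (.node (.node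
  (.node (.node (.node .nil (nat_lit 2635) (nat_lit 184) (nat_lit 932) .nil) (nat_lit 2636) (nat_lit 216)
  (nat_lit 921) .nil) (nat_lit 2637) (nat_lit 152) (nat_lit 940) (.node (.node .nil (nat_lit 2638) (nat_lit
  181) (nat_lit 2227) .nil) (nat_lit 2639) (nat_lit 216) (nat_lit 929) .nil)) (nat_lit 2640) (nat_lit 152)
  (nat_lit 933) (.node (.node (.node .nil (nat_lit 2641) (nat_lit 241) (nat_lit 2235) .nil) (nat_lit 2642)
  (nat_lit 245) (nat_lit 2228) .nil) (nat_lit 2643) (nat_lit 210) (nat_lit 2983) (.node .nil (nat_lit 2646)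
  (nat_lit 212) (nat_lit 2233) .nil))) (nat_lit 2649) (nat_lit 182) (nat_lit 2940) (.node (.node (.node (.node
  .nil (nat_lit 2650) (nat_lit 178) (nat_lit 2860) .nil) (nat_lit 2651) (nat_lit 245) (nat_lit 2235) .nil)
  (nat_lit 2652) (nat_lit 246) (nat_lit 2235) (.node (.node .nil (nat_lit 2653) (nat_lit 243) (nat_lit 2159)
  .nil) (nat_lit 2654) (nat_lit 245) (nat_lit 2237) .nil)) (nat_lit 2655) (nat_lit 246) (nat_lit 2239) (.node
  (.node (.node .nil (nat_lit 2656) (nat_lit 246) (nat_lit 2241) .nil) (nat_lit 2657) (nat_lit 245) (nat_lit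
  2243) .nil) (nat_lit 2658) (nat_lit 276) (nat_lit 2245) (.node .nil (nat_lit 2659) (nat_lit 248) (nat_lit
  3091) .nil)))) (nat_lit 2660) (nat_lit 278) (nat_lit 3021) (.node (.node (.node (.node (.node .nil (nat_lit
  2661) (nat_lit 245) (nat_lit 2277) .nil) (nat_lit 2664) (nat_lit 246) (nat_lit 2347) .nil) (nat_lit 2665)
  (nat_lit 243) (nat_lit 2110) (.node (.node .nil (nat_lit 2669) (nat_lit 246) (nat_lit 2287) .nil) (nat_lit
  2670) (nat_lit 246) (nat_lit 2356) .nil)) (nat_lit 2671) (nat_lit 278) (nat_lit 2290) (.node (.node (.node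
  .nil (nat_lit 2672) (nat_lit 248) (nat_lit 3079) .nil) (nat_lit 2673) (nat_lit 246) (nat_lit 2930) .nil)
  (nat_lit 2674) (nat_lit 245) (nat_lit 2259) (.node .nil (nat_lit 2676) (nat_lit 210) (nat_lit 2291) .nil)))
  (nat_lit 2677) (nat_lit 214) (nat_lit 2291) (.node (.node (.node (.node .nil (nat_lit 2678) (nat_lit 211)
  (nat_lit 689) .nil) (nat_lit 2679) (nat_lit 209) (nat_lit 2271) .nil) (nat_lit 2680) (nat_lit 115) (nat_lit
  1670) (.node (.node .nil (nat_lit 2683) (nat_lit 244) (nat_lit 3026) .nil) (nat_lit 2686) (nat_lit 115)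
  (nat_lit 1676) .nil)) (nat_lit 2687) (nat_lit 208) (nat_lit 2311) (.node (.node (.node .nil (nat_lit 2688)
  (nat_lit 214) (nat_lit 2271) .nil) (nat_lit 2689) (nat_lit 248) (nat_lit 2313) .nil) (nat_lit 2690) (nat_lit
  212) (nat_lit 2311) (.node .nil (nat_lit 2691) (nat_lit 245) (nat_lit 2273) .nil)))))) (nat_lit 2692)
  (nat_lit 244) (nat_lit 2313) (.node (.node (.node (.node (.node (.node (.node .nil (nat_lit 2694) (nat_lit
  243) (nat_lit 2158) .nil) (nat_lit 2695) (nat_lit 243) (nat_lit 2915) .nil) (nat_lit 2696) (nat_lit 213)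
  (nat_lit 2394) (.node (.node .nil (nat_lit 2697) (nat_lit 209) (nat_lit 2359) .nil) (nat_lit 2698) (nat_lit
  212) (nat_lit 2324) .nil)) (nat_lit 2699) (nat_lit 244) (nat_lit 2856) (.node (.node (.node .nil (nat_lit
  2700) (nat_lit 242) (nat_lit 2287) .nil) (nat_lit 2701) (nat_lit 245) (nat_lit 2289) .nil) (nat_lit 2703)
  (nat_lit 240) (nat_lit 2297) (.node .nil (nat_lit 2704) (nat_lit 146) (nat_lit 2327) .nil))) (nat_lit 2705)
  (nat_lit 209) (nat_lit 2305) (.node (.node (.node (.node .nil (nat_lit 2706) (nat_lit 147) (nat_lit 2399)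
  .nil) (nat_lit 2707) (nat_lit 244) (nat_lit 2297) .nil) (nat_lit 2708) (nat_lit 147) (nat_lit 2229) (.node
  (.node .nil (nat_lit 2709) (nat_lit 216) (nat_lit 3052) .nil) (nat_lit 2710) (nat_lit 245) (nat_lit 2297)
  .nil)) (nat_lit 2711) (nat_lit 246) (nat_lit 2297) (.node (.node (.node .nil (nat_lit 2712) (nat_lit 210)
  (nat_lit 2338) .nil) (nat_lit 2713) (nat_lit 210) (nat_lit 2341) .nil) (nat_lit 2714) (nat_lit 178) (nat_lit
  2342) (.node .nil (nat_lit 2715) (nat_lit 214) (nat_lit 2960) .nil)))) (nat_lit 2716) (nat_lit 213) (nat_lit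
  2960) (.node (.node (.node (.node (.node .nil (nat_lit 2717) (nat_lit 213) (nat_lit 2305) .nil) (nat_lit
  2718) (nat_lit 214) (nat_lit 2305) .nil) (nat_lit 2719) (nat_lit 244) (nat_lit 2933) (.node (.node .nil
  (nat_lit 2720) (nat_lit 209) (nat_lit 3049) .nil) (nat_lit 2721) (nat_lit 213) (nat_lit 2414) .nil))
  (nat_lit 2722) (nat_lit 246) (nat_lit 2308) (.node (.node (.node .nil (nat_lit 2723) (nat_lit 211) (nat_lit
  2078) .nil) (nat_lit 2724) (nat_lit 245) (nat_lit 2393) .nil) (nat_lit 2725) (nat_lit 213) (nat_lit 2877)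
  (.node .nil (nat_lit 2726) (nat_lit 209) (nat_lit 2960) .nil))) (nat_lit 2727) (nat_lit 243) (nat_lit 2079)
  (.node (.node (.node (.node .nil (nat_lit 2728) (nat_lit 211) (nat_lit 2419) .nil) (nat_lit 2729) (nat_lit
  214) (nat_lit 2317) .nil) (nat_lit 2730) (nat_lit 213) (nat_lit 2320) (.node (.node .nil (nat_lit 2731)
  (nat_lit 214) (nat_lit 2321) .nil) (nat_lit 2732) (nat_lit 243) (nat_lit 2081) .nil)) (nat_lit 2733)
  (nat_lit 245) (nat_lit 2326) (.node (.node (.node .nil (nat_lit 2734) (nat_lit 242) (nat_lit 3041) .nil)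
  (nat_lit 2735) (nat_lit 241) (nat_lit 2347) .nil) (nat_lit 2736) (nat_lit 245) (nat_lit 2328) (.node .nil
  (nat_lit 2737) (nat_lit 243) (nat_lit 2963) .nil))))) (nat_lit 2738) (nat_lit 184) (nat_lit 1186) (.node
  (.node (.node (.node (.node (.node .nil (nat_lit 2739) (nat_lit 152) (nat_lit 1215) .nil) (nat_lit 2740)
  (nat_lit 211) (nat_lit 2951) .nil) (nat_lit 2741) (nat_lit 245) (nat_lit 2331) (.node (.node .nil (nat_lit
  2742) (nat_lit 211) (nat_lit 3071) .nil) (nat_lit 2743) (nat_lit 211) (nat_lit 2884) .nil)) (nat_lit 2744)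
  (nat_lit 216) (nat_lit 2344) (.node (.node (.node .nil (nat_lit 2745) (nat_lit 216) (nat_lit 2144) .nil)
  (nat_lit 2746) (nat_lit 179) (nat_lit 2969) .nil) (nat_lit 2747) (nat_lit 280) (nat_lit 2955) (.node .nil
  (nat_lit 2748) (nat_lit 245) (nat_lit 2335) .nil))) (nat_lit 2749) (nat_lit 152) (nat_lit 1143) (.node
  (.node (.node (.node .nil (nat_lit 2750) (nat_lit 181) (nat_lit 2895) .nil) (nat_lit 2751) (nat_lit 179)
  (nat_lit 2395) .nil) (nat_lit 2752) (nat_lit 179) (nat_lit 2396) (.node (.node .nil (nat_lit 2753) (nat_lit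
  179) (nat_lit 2330) .nil) (nat_lit 2754) (nat_lit 245) (nat_lit 2347) .nil)) (nat_lit 2755) (nat_lit 244)
  (nat_lit 2348) (.node (.node (.node .nil (nat_lit 2756) (nat_lit 246) (nat_lit 2348) .nil) (nat_lit 2757)
  (nat_lit 179) (nat_lit 2193) .nil) (nat_lit 2758) (nat_lit 181) (nat_lit 2352) (.node .nil (nat_lit 2759)
  (nat_lit 273) (nat_lit 2353) .nil)))) (nat_lit 2760) (nat_lit 278) (nat_lit 2353) (.node (.node (.node
  (.node (.node .nil (nat_lit 2761) (nat_lit 244) (nat_lit 2356) .nil) (nat_lit 2762) (nat_lit 246) (nat_lit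
  2357) .nil) (nat_lit 2763) (nat_lit 243) (nat_lit 2838) (.node (.node .nil (nat_lit 2764) (nat_lit 245)
  (nat_lit 2362) .nil) (nat_lit 2765) (nat_lit 246) (nat_lit 2362) .nil)) (nat_lit 2766) (nat_lit 214)
  (nat_lit 2364) (.node (.node (.node .nil (nat_lit 2767) (nat_lit 243) (nat_lit 2082) .nil) (nat_lit 2768)
  (nat_lit 243) (nat_lit 2416) .nil) (nat_lit 2769) (nat_lit 245) (nat_lit 2401) (.node .nil (nat_lit 2770)
  (nat_lit 246) (nat_lit 2367) .nil))) (nat_lit 2772) (nat_lit 208) (nat_lit 2404) (.node (.node (.node (.node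
  .nil (nat_lit 2773) (nat_lit 213) (nat_lit 2914) .nil) (nat_lit 2775) (nat_lit 245) (nat_lit 2905) .nil)
  (nat_lit 2776) (nat_lit 244) (nat_lit 2917) (.node (.node .nil (nat_lit 2777) (nat_lit 244) (nat_lit 2374)
  .nil) (nat_lit 2778) (nat_lit 216) (nat_lit 1133) .nil)) (nat_lit 2779) (nat_lit 245) (nat_lit 2907) (.node
  (.node (.node .nil (nat_lit 2780) (nat_lit 245) (nat_lit 2916) .nil) (nat_lit 2782) (nat_lit 246) (nat_lit
  2922) .nil) (nat_lit 2783) (nat_lit 241) (nat_lit 2922) (.node .nil (nat_lit 2784) (nat_lit 278) (nat_lit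
  2981) .nil)))))))
def t5_12 : T := (.node (.node (.node (.node (.node (.node (.node (.node .nil (nat_lit 2786) (nat_lit 149)
  (nat_lit 2389) .nil) (nat_lit 2787) (nat_lit 244) (nat_lit 2390) .nil) (nat_lit 2788) (nat_lit 243) (nat_lit
  2881) (.node (.node .nil (nat_lit 2789) (nat_lit 243) (nat_lit 2309) .nil) (nat_lit 2790) (nat_lit 211)
  (nat_lit 2854) .nil)) (nat_lit 2791) (nat_lit 209) (nat_lit 2392) (.node (.node (.node .nil (nat_lit 2792)
  (nat_lit 240) (nat_lit 3101) .nil) (nat_lit 2793) (nat_lit 208) (nat_lit 2877) .nil) (nat_lit 2794) (nat_lit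
  184) (nat_lit 1127) (.node .nil (nat_lit 2795) (nat_lit 152) (nat_lit 1141) .nil))) (nat_lit 2796) (nat_lit
  184) (nat_lit 1128) (.node (.node (.node (.node .nil (nat_lit 2797) (nat_lit 149) (nat_lit 2399) .nil)
  (nat_lit 2798) (nat_lit 244) (nat_lit 2411) .nil) (nat_lit 2799) (nat_lit 213) (nat_lit 2398) (.node (.node
  .nil (nat_lit 2800) (nat_lit 216) (nat_lit 1129) .nil) (nat_lit 2801) (nat_lit 212) (nat_lit 2404) .nil))
  (nat_lit 2802) (nat_lit 246) (nat_lit 2401) (.node (.node (.node .nil (nat_lit 2803) (nat_lit 243) (nat_lit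
  3055) .nil) (nat_lit 2804) (nat_lit 214) (nat_lit 2404) .nil) (nat_lit 2805) (nat_lit 241) (nat_lit 2434)
  (.node .nil (nat_lit 2806) (nat_lit 213) (nat_lit 2407) .nil)))) (nat_lit 2807) (nat_lit 211) (nat_lit 2971)
  (.node (.node (.node (.node (.node .nil (nat_lit 2808) (nat_lit 184) (nat_lit 1548) .nil) (nat_lit 2809)
  (nat_lit 213) (nat_lit 2409) .nil) (nat_lit 2810) (nat_lit 216) (nat_lit 1192) (.node (.node .nil (nat_lit
  2811) (nat_lit 240) (nat_lit 2411) .nil) (nat_lit 2812) (nat_lit 209) (nat_lit 2414) .nil)) (nat_lit 2813)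
  (nat_lit 245) (nat_lit 2411) (.node (.node (.node .nil (nat_lit 2814) (nat_lit 246) (nat_lit 2411) .nil)
  (nat_lit 2815) (nat_lit 244) (nat_lit 2412) .nil) (nat_lit 2816) (nat_lit 245) (nat_lit 2413) (.node .nil
  (nat_lit 2817) (nat_lit 214) (nat_lit 2414) .nil))) (nat_lit 2818) (nat_lit 216) (nat_lit 2317) (.node
  (.node (.node (.node .nil (nat_lit 2819) (nat_lit 246) (nat_lit 2415) .nil) (nat_lit 2820) (nat_lit 275)
  (nat_lit 2162) .nil) (nat_lit 2821) (nat_lit 275) (nat_lit 3095) (.node (.node .nil (nat_lit 2822) (nat_lit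
  278) (nat_lit 3036) .nil) (nat_lit 2823) (nat_lit 272) (nat_lit 3036) .nil)) (nat_lit 2824) (nat_lit 181)
  (nat_lit 2425) (.node (.node (.node .nil (nat_lit 2825) (nat_lit 244) (nat_lit 2426) .nil) (nat_lit 2826)
  (nat_lit 245) (nat_lit 2427) .nil) (nat_lit 2827) (nat_lit 280) (nat_lit 3067) (.node .nil (nat_lit 2828)
  (nat_lit 248) (nat_lit 2367) .nil))))) (nat_lit 2829) (nat_lit 278) (nat_lit 2955) (.node (.node (.node
  (.node (.node (.node .nil (nat_lit 2830) (nat_lit 245) (nat_lit 2434) .nil) (nat_lit 2831) (nat_lit 246)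
  (nat_lit 2434) .nil) (nat_lit 2832) (nat_lit 213) (nat_lit 2436) (.node (.node .nil (nat_lit 2833) (nat_lit
  246) (nat_lit 2437) .nil) (nat_lit 2834) (nat_lit 244) (nat_lit 2440) .nil)) (nat_lit 2836) (nat_lit 228)
  (nat_lit 3131) (.node (.node (.node .nil (nat_lit 2838) (nat_lit 230) (nat_lit 2553) .nil) (nat_lit 2839)
  (nat_lit 228) (nat_lit 2482) .nil) (nat_lit 2840) (nat_lit 229) (nat_lit 2446) (.node .nil (nat_lit 2842)
  (nat_lit 228) (nat_lit 2561) .nil))) (nat_lit 2843) (nat_lit 229) (nat_lit 2448) (.node (.node (.node (.node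
  .nil (nat_lit 2845) (nat_lit 230) (nat_lit 2558) .nil) (nat_lit 2846) (nat_lit 229) (nat_lit 2452) .nil)
  (nat_lit 2847) (nat_lit 230) (nat_lit 2542) (.node (.node .nil (nat_lit 2848) (nat_lit 228) (nat_lit 2499)
  .nil) (nat_lit 2850) (nat_lit 228) (nat_lit 2471) .nil)) (nat_lit 2851) (nat_lit 229) (nat_lit 2455) (.node
  (.node (.node .nil (nat_lit 2852) (nat_lit 262) (nat_lit 2536) .nil) (nat_lit 2853) (nat_lit 230) (nat_lit
  2557) .nil) (nat_lit 2854) (nat_lit 198) (nat_lit 2551) (.node .nil (nat_lit 2855) (nat_lit 230) (nat_lit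
  2573) .nil)))) (nat_lit 2856) (nat_lit 229) (nat_lit 2475) (.node (.node (.node (.node (.node .nil (nat_lit
  2858) (nat_lit 166) (nat_lit 2549) .nil) (nat_lit 2859) (nat_lit 198) (nat_lit 2570) .nil) (nat_lit 2860)
  (nat_lit 163) (nat_lit 2009) (.node (.node .nil (nat_lit 2861) (nat_lit 228) (nat_lit 2554) .nil) (nat_lit
  2862) (nat_lit 229) (nat_lit 2472) .nil)) (nat_lit 2863) (nat_lit 228) (nat_lit 2726) (.node (.node (.node
  .nil (nat_lit 2864) (nat_lit 230) (nat_lit 2535) .nil) (nat_lit 2865) (nat_lit 230) (nat_lit 2588) .nil)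
  (nat_lit 2866) (nat_lit 229) (nat_lit 2476) (.node .nil (nat_lit 2867) (nat_lit 261) (nat_lit 2506) .nil)))
  (nat_lit 2868) (nat_lit 230) (nat_lit 2529) (.node (.node (.node (.node .nil (nat_lit 2869) (nat_lit 256)
  (nat_lit 2479) .nil) (nat_lit 2870) (nat_lit 257) (nat_lit 2480) .nil) (nat_lit 2871) (nat_lit 258) (nat_lit
  2481) (.node (.node .nil (nat_lit 2872) (nat_lit 228) (nat_lit 2634) .nil) (nat_lit 2873) (nat_lit 194)
  (nat_lit 2505) .nil)) (nat_lit 2874) (nat_lit 230) (nat_lit 2534) (.node (.node (.node .nil (nat_lit 2875)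
  (nat_lit 230) (nat_lit 2554) .nil) (nat_lit 2876) (nat_lit 230) (nat_lit 2555) .nil) (nat_lit 2877) (nat_lit
  193) (nat_lit 3158) (.node .nil (nat_lit 2878) (nat_lit 229) (nat_lit 2484) .nil)))))) (nat_lit 2879)
  (nat_lit 262) (nat_lit 2567) (.node (.node (.node (.node (.node (.node (.node .nil (nat_lit 2880) (nat_lit
  262) (nat_lit 2568) .nil) (nat_lit 2881) (nat_lit 230) (nat_lit 2562) .nil) (nat_lit 2882) (nat_lit 196)
  (nat_lit 2758) (.node (.node .nil (nat_lit 2883) (nat_lit 230) (nat_lit 2561) .nil) (nat_lit 2884) (nat_lit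
  200) (nat_lit 1031) .nil)) (nat_lit 2885) (nat_lit 262) (nat_lit 3170) (.node (.node (.node .nil (nat_lit
  2886) (nat_lit 224) (nat_lit 2490) .nil) (nat_lit 2887) (nat_lit 264) (nat_lit 2478) .nil) (nat_lit 2888)
  (nat_lit 225) (nat_lit 2492) (.node .nil (nat_lit 2889) (nat_lit 225) (nat_lit 2493) .nil))) (nat_lit 2890)
  (nat_lit 230) (nat_lit 2564) (.node (.node (.node (.node .nil (nat_lit 2891) (nat_lit 197) (nat_lit 2757)
  .nil) (nat_lit 2892) (nat_lit 264) (nat_lit 2748) .nil) (nat_lit 2893) (nat_lit 232) (nat_lit 1787) (.node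
  (.node .nil (nat_lit 2894) (nat_lit 195) (nat_lit 2796) .nil) (nat_lit 2895) (nat_lit 163) (nat_lit 2001)
  .nil)) (nat_lit 2896) (nat_lit 229) (nat_lit 2697) (.node (.node (.node .nil (nat_lit 2897) (nat_lit 262)
  (nat_lit 2566) .nil) (nat_lit 2898) (nat_lit 264) (nat_lit 3263) .nil) (nat_lit 2899) (nat_lit 257) (nat_lit
  2834) (.node .nil (nat_lit 2900) (nat_lit 260) (nat_lit 2566) .nil)))) (nat_lit 2901) (nat_lit 195) (nat_lit
  2635) (.node (.node (.node (.node (.node .nil (nat_lit 2902) (nat_lit 227) (nat_lit 2636) .nil) (nat_lit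
  2903) (nat_lit 230) (nat_lit 2520) .nil) (nat_lit 2905) (nat_lit 228) (nat_lit 2772) (.node (.node .nil
  (nat_lit 2907) (nat_lit 232) (nat_lit 1398) .nil) (nat_lit 2908) (nat_lit 261) (nat_lit 2511) .nil))
  (nat_lit 2911) (nat_lit 229) (nat_lit 2514) (.node (.node (.node .nil (nat_lit 2912) (nat_lit 230) (nat_lit
  2531) .nil) (nat_lit 2914) (nat_lit 200) (nat_lit 1039) .nil) (nat_lit 2915) (nat_lit 230) (nat_lit 2801)
  (.node .nil (nat_lit 2916) (nat_lit 232) (nat_lit 1037) .nil))) (nat_lit 2917) (nat_lit 229) (nat_lit 2518)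
  (.node (.node (.node (.node .nil (nat_lit 2919) (nat_lit 225) (nat_lit 2520) .nil) (nat_lit 2920) (nat_lit
  229) (nat_lit 2520) .nil) (nat_lit 2921) (nat_lit 229) (nat_lit 2521) (.node (.node .nil (nat_lit 2922)
  (nat_lit 226) (nat_lit 2531) .nil) (nat_lit 2923) (nat_lit 258) (nat_lit 2532) .nil)) (nat_lit 2925)
  (nat_lit 225) (nat_lit 2534) (.node (.node (.node .nil (nat_lit 2926) (nat_lit 224) (nat_lit 2561) .nil)
  (nat_lit 2927) (nat_lit 262) (nat_lit 3148) .nil) (nat_lit 2928) (nat_lit 261) (nat_lit 2525) (.node .nil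
  (nat_lit 2930) (nat_lit 227) (nat_lit 691) .nil))))) (nat_lit 2931) (nat_lit 227) (nat_lit 690) (.node
  (.node (.node (.node (.node (.node .nil (nat_lit 2933) (nat_lit 229) (nat_lit 2534) .nil) (nat_lit 2934)
  (nat_lit 261) (nat_lit 2537) .nil) (nat_lit 2935) (nat_lit 198) (nat_lit 3158) (.node (.node .nil (nat_lit
  2936) (nat_lit 229) (nat_lit 2690) .nil) (nat_lit 2937) (nat_lit 229) (nat_lit 2557) .nil)) (nat_lit 2938)
  (nat_lit 196) (nat_lit 2547) (.node (.node (.node .nil (nat_lit 2939) (nat_lit 196) (nat_lit 2546) .nil)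
  (nat_lit 2940) (nat_lit 162) (nat_lit 2549) .nil) (nat_lit 2941) (nat_lit 225) (nat_lit 2550) (.node .nil
  (nat_lit 2942) (nat_lit 229) (nat_lit 2550) .nil))) (nat_lit 2943) (nat_lit 225) (nat_lit 2553) (.node
  (.node (.node (.node .nil (nat_lit 2944) (nat_lit 229) (nat_lit 2553) .nil) (nat_lit 2945) (nat_lit 224)
  (nat_lit 2554) .nil) (nat_lit 2946) (nat_lit 229) (nat_lit 2554) (.node (.node .nil (nat_lit 2947) (nat_lit
  228) (nat_lit 2555) .nil) (nat_lit 2948) (nat_lit 260) (nat_lit 2651) .nil)) (nat_lit 2949) (nat_lit 227)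
  (nat_lit 2709) (.node (.node (.node .nil (nat_lit 2950) (nat_lit 229) (nat_lit 2561) .nil) (nat_lit 2951)
  (nat_lit 200) (nat_lit 1045) .nil) (nat_lit 2952) (nat_lit 229) (nat_lit 2563) (.node .nil (nat_lit 2953)
  (nat_lit 232) (nat_lit 2535) .nil)))) (nat_lit 2954) (nat_lit 232) (nat_lit 2558) (.node (.node (.node
  (.node (.node .nil (nat_lit 2955) (nat_lit 261) (nat_lit 2700) .nil) (nat_lit 2956) (nat_lit 200) (nat_lit
  1033) .nil) (nat_lit 2957) (nat_lit 256) (nat_lit 2568) (.node (.node .nil (nat_lit 2958) (nat_lit 264)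
  (nat_lit 2536) .nil) (nat_lit 2959) (nat_lit 232) (nat_lit 1799) .nil)) (nat_lit 2960) (nat_lit 194)
  (nat_lit 2592) (.node (.node (.node .nil (nat_lit 2961) (nat_lit 226) (nat_lit 2588) .nil) (nat_lit 2962)
  (nat_lit 257) (nat_lit 2572) .nil) (nat_lit 2963) (nat_lit 232) (nat_lit 1035) (.node .nil (nat_lit 2964)
  (nat_lit 258) (nat_lit 3170) .nil))) (nat_lit 2965) (nat_lit 264) (nat_lit 2526) (.node (.node (.node (.node
  .nil (nat_lit 2966) (nat_lit 264) (nat_lit 1792) .nil) (nat_lit 2967) (nat_lit 261) (nat_lit 2578) .nil)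
  (nat_lit 2968) (nat_lit 232) (nat_lit 1925) (.node (.node .nil (nat_lit 2969) (nat_lit 168) (nat_lit 1311)
  .nil) (nat_lit 2970) (nat_lit 197) (nat_lit 2579) .nil)) (nat_lit 2971) (nat_lit 200) (nat_lit 1394) (.node
  (.node (.node .nil (nat_lit 2972) (nat_lit 264) (nat_lit 2527) .nil) (nat_lit 2973) (nat_lit 264) (nat_lit
  1819) .nil) (nat_lit 2974) (nat_lit 256) (nat_lit 2584) (.node .nil (nat_lit 2975) (nat_lit 260) (nat_lit
  2585) .nil)))))))
def t5_13 : T := (.node (.node (.node (.node (.node (.node (.node (.node .nil (nat_lit 2977) (nat_lit 264)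
  (nat_lit 2619) .nil) (nat_lit 2978) (nat_lit 257) (nat_lit 2586) .nil) (nat_lit 2979) (nat_lit 226) (nat_lit
  3163) (.node (.node .nil (nat_lit 2980) (nat_lit 229) (nat_lit 2588) .nil) (nat_lit 2981) (nat_lit 260)
  (nat_lit 2830) .nil)) (nat_lit 2982) (nat_lit 262) (nat_lit 2586) (.node (.node (.node .nil (nat_lit 2983)
  (nat_lit 195) (nat_lit 2808) .nil) (nat_lit 2984) (nat_lit 262) (nat_lit 2590) .nil) (nat_lit 2985) (nat_lit
  227) (nat_lit 2469) (.node .nil (nat_lit 2987) (nat_lit 228) (nat_lit 2791) .nil))) (nat_lit 2988) (nat_lit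
  261) (nat_lit 2595) (.node (.node (.node (.node .nil (nat_lit 2992) (nat_lit 261) (nat_lit 2606) .nil)
  (nat_lit 2993) (nat_lit 257) (nat_lit 3224) .nil) (nat_lit 2994) (nat_lit 291) (nat_lit 2784) (.node (.node
  .nil (nat_lit 2995) (nat_lit 259) (nat_lit 3149) .nil) (nat_lit 2996) (nat_lit 165) (nat_lit 2613) .nil))
  (nat_lit 2997) (nat_lit 196) (nat_lit 2614) (.node (.node (.node .nil (nat_lit 2998) (nat_lit 197) (nat_lit
  2615) .nil) (nat_lit 2999) (nat_lit 258) (nat_lit 3169) .nil) (nat_lit 3000) (nat_lit 260) (nat_lit 2657)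
  (.node .nil (nat_lit 3001) (nat_lit 197) (nat_lit 2620) .nil)))) (nat_lit 3002) (nat_lit 168) (nat_lit 1057)
  (.node (.node (.node (.node (.node .nil (nat_lit 3003) (nat_lit 168) (nat_lit 1048) .nil) (nat_lit 3004)
  (nat_lit 229) (nat_lit 2627) .nil) (nat_lit 3005) (nat_lit 168) (nat_lit 1049) (.node (.node .nil (nat_lit
  3006) (nat_lit 229) (nat_lit 2636) .nil) (nat_lit 3007) (nat_lit 165) (nat_lit 2640) .nil)) (nat_lit 3008)
  (nat_lit 229) (nat_lit 2639) (.node (.node (.node .nil (nat_lit 3009) (nat_lit 232) (nat_lit 1046) .nil)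
  (nat_lit 3010) (nat_lit 261) (nat_lit 2641) .nil) (nat_lit 3011) (nat_lit 260) (nat_lit 2642) (.node .nil
  (nat_lit 3012) (nat_lit 229) (nat_lit 2643) .nil))) (nat_lit 3013) (nat_lit 194) (nat_lit 2753) (.node
  (.node (.node (.node .nil (nat_lit 3014) (nat_lit 194) (nat_lit 2752) .nil) (nat_lit 3015) (nat_lit 262)
  (nat_lit 2651) .nil) (nat_lit 3016) (nat_lit 259) (nat_lit 2575) (.node (.node .nil (nat_lit 3017) (nat_lit
  259) (nat_lit 3184) .nil) (nat_lit 3018) (nat_lit 264) (nat_lit 3268) .nil)) (nat_lit 3019) (nat_lit 264)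
  (nat_lit 2764) (.node (.node (.node .nil (nat_lit 3020) (nat_lit 262) (nat_lit 2754) .nil) (nat_lit 3021)
  (nat_lit 261) (nat_lit 2665) .nil) (nat_lit 3022) (nat_lit 262) (nat_lit 2735) (.node .nil (nat_lit 3024)
  (nat_lit 227) (nat_lit 2473) .nil))))) (nat_lit 3025) (nat_lit 230) (nat_lit 2679) (.node (.node (.node
  (.node (.node (.node .nil (nat_lit 3026) (nat_lit 225) (nat_lit 2712) .nil) (nat_lit 3027) (nat_lit 225)
  (nat_lit 3247) .nil) (nat_lit 3028) (nat_lit 228) (nat_lit 3252) (.node (.node .nil (nat_lit 3029) (nat_lit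
  261) (nat_lit 2683) .nil) (nat_lit 3030) (nat_lit 228) (nat_lit 3233) .nil)) (nat_lit 3031) (nat_lit 229)
  (nat_lit 2793) (.node (.node (.node .nil (nat_lit 3032) (nat_lit 232) (nat_lit 2716) .nil) (nat_lit 3033)
  (nat_lit 225) (nat_lit 3257) .nil) (nat_lit 3034) (nat_lit 228) (nat_lit 2725) (.node .nil (nat_lit 3035)
  (nat_lit 260) (nat_lit 3143) .nil))) (nat_lit 3036) (nat_lit 257) (nat_lit 2700) (.node (.node (.node (.node
  .nil (nat_lit 3037) (nat_lit 259) (nat_lit 2485) .nil) (nat_lit 3038) (nat_lit 256) (nat_lit 2735) .nil)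
  (nat_lit 3039) (nat_lit 260) (nat_lit 2735) (.node (.node .nil (nat_lit 3040) (nat_lit 261) (nat_lit 2703)
  .nil) (nat_lit 3041) (nat_lit 227) (nat_lit 3160) .nil)) (nat_lit 3042) (nat_lit 229) (nat_lit 2705) (.node
  (.node (.node .nil (nat_lit 3043) (nat_lit 230) (nat_lit 2705) .nil) (nat_lit 3044) (nat_lit 226) (nat_lit
  2740) .nil) (nat_lit 3045) (nat_lit 261) (nat_lit 2707) (.node .nil (nat_lit 3046) (nat_lit 226) (nat_lit
  2742) .nil)))) (nat_lit 3047) (nat_lit 226) (nat_lit 2743) (.node (.node (.node (.node (.node .nil (nat_lit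
  3048) (nat_lit 232) (nat_lit 2555) .nil) (nat_lit 3049) (nat_lit 194) (nat_lit 2746) .nil) (nat_lit 3050)
  (nat_lit 264) (nat_lit 2566) (.node (.node .nil (nat_lit 3051) (nat_lit 262) (nat_lit 2710) .nil) (nat_lit
  3052) (nat_lit 197) (nat_lit 3158) .nil)) (nat_lit 3053) (nat_lit 194) (nat_lit 2751) (.node (.node (.node
  .nil (nat_lit 3054) (nat_lit 225) (nat_lit 2713) .nil) (nat_lit 3055) (nat_lit 230) (nat_lit 2717) .nil)
  (nat_lit 3056) (nat_lit 229) (nat_lit 2720) (.node .nil (nat_lit 3057) (nat_lit 229) (nat_lit 2812) .nil)))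
  (nat_lit 3058) (nat_lit 230) (nat_lit 2721) (.node (.node (.node (.node .nil (nat_lit 3059) (nat_lit 227)
  (nat_lit 2483) .nil) (nat_lit 3060) (nat_lit 224) (nat_lit 3252) .nil) (nat_lit 3061) (nat_lit 259) (nat_lit
  2486) (.node (.node .nil (nat_lit 3062) (nat_lit 227) (nat_lit 2817) .nil) (nat_lit 3063) (nat_lit 258)
  (nat_lit 3260) .nil)) (nat_lit 3064) (nat_lit 259) (nat_lit 2489) (.node (.node (.node .nil (nat_lit 3065)
  (nat_lit 259) (nat_lit 2814) .nil) (nat_lit 3066) (nat_lit 264) (nat_lit 2701) .nil) (nat_lit 3067) (nat_lit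
  261) (nat_lit 2734) (.node .nil (nat_lit 3068) (nat_lit 261) (nat_lit 2735) .nil)))))) (nat_lit 3069)
  (nat_lit 264) (nat_lit 2754) (.node (.node (.node (.node (.node (.node (.node .nil (nat_lit 3070) (nat_lit
  261) (nat_lit 2737) .nil) (nat_lit 3071) (nat_lit 200) (nat_lit 1314) .nil) (nat_lit 3072) (nat_lit 197)
  (nat_lit 2738) (.node (.node .nil (nat_lit 3073) (nat_lit 200) (nat_lit 1392) .nil) (nat_lit 3074) (nat_lit
  195) (nat_lit 2579) .nil)) (nat_lit 3075) (nat_lit 195) (nat_lit 2794) (.node (.node (.node .nil (nat_lit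
  3076) (nat_lit 229) (nat_lit 2740) .nil) (nat_lit 3077) (nat_lit 195) (nat_lit 2738) .nil) (nat_lit 3078)
  (nat_lit 264) (nat_lit 2674) (.node .nil (nat_lit 3079) (nat_lit 229) (nat_lit 2742) .nil))) (nat_lit 3080)
  (nat_lit 229) (nat_lit 2743) (.node (.node (.node (.node .nil (nat_lit 3081) (nat_lit 232) (nat_lit 2559)
  .nil) (nat_lit 3082) (nat_lit 197) (nat_lit 2746) .nil) (nat_lit 3083) (nat_lit 259) (nat_lit 3215) (.node
  (.node .nil (nat_lit 3084) (nat_lit 260) (nat_lit 2748) .nil) (nat_lit 3085) (nat_lit 260) (nat_lit 2754)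
  .nil)) (nat_lit 3086) (nat_lit 257) (nat_lit 2755) (.node (.node (.node .nil (nat_lit 3087) (nat_lit 262)
  (nat_lit 2755) .nil) (nat_lit 3088) (nat_lit 294) (nat_lit 3230) .nil) (nat_lit 3089) (nat_lit 288) (nat_lit
  3230) (.node .nil (nat_lit 3090) (nat_lit 259) (nat_lit 3136) .nil)))) (nat_lit 3091) (nat_lit 229) (nat_lit
  2801) (.node (.node (.node (.node (.node .nil (nat_lit 3092) (nat_lit 262) (nat_lit 2764) .nil) (nat_lit
  3093) (nat_lit 259) (nat_lit 2819) .nil) (nat_lit 3094) (nat_lit 261) (nat_lit 2798) (.node (.node .nil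
  (nat_lit 3095) (nat_lit 262) (nat_lit 2769) .nil) (nat_lit 3096) (nat_lit 262) (nat_lit 2830) .nil))
  (nat_lit 3097) (nat_lit 228) (nat_lit 2832) (.node (.node (.node .nil (nat_lit 3098) (nat_lit 261) (nat_lit
  2787) .nil) (nat_lit 3099) (nat_lit 225) (nat_lit 3156) .nil) (nat_lit 3100) (nat_lit 259) (nat_lit 2722)
  (.node .nil (nat_lit 3101) (nat_lit 225) (nat_lit 3154) .nil))) (nat_lit 3102) (nat_lit 224) (nat_lit 3131)
  (.node (.node (.node (.node .nil (nat_lit 3103) (nat_lit 260) (nat_lit 2805) .nil) (nat_lit 3104) (nat_lit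
  197) (nat_lit 2794) .nil) (nat_lit 3105) (nat_lit 200) (nat_lit 1312) (.node (.node .nil (nat_lit 3106)
  (nat_lit 197) (nat_lit 2796) .nil) (nat_lit 3107) (nat_lit 262) (nat_lit 2805) .nil)) (nat_lit 3108)
  (nat_lit 228) (nat_lit 2812) (.node (.node (.node .nil (nat_lit 3109) (nat_lit 256) (nat_lit 2805) .nil)
  (nat_lit 3110) (nat_lit 228) (nat_lit 2799) .nil) (nat_lit 3111) (nat_lit 229) (nat_lit 2800) (.node .nil
  (nat_lit 3112) (nat_lit 261) (nat_lit 2805) .nil))))) (nat_lit 3113) (nat_lit 228) (nat_lit 2806) (.node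
  (.node (.node (.node (.node (.node .nil (nat_lit 3114) (nat_lit 229) (nat_lit 2807) .nil) (nat_lit 3115)
  (nat_lit 197) (nat_lit 2808) .nil) (nat_lit 3116) (nat_lit 228) (nat_lit 2809) (.node (.node .nil (nat_lit
  3117) (nat_lit 229) (nat_lit 2810) .nil) (nat_lit 3118) (nat_lit 224) (nat_lit 2812) .nil)) (nat_lit 3119)
  (nat_lit 261) (nat_lit 2811) (.node (.node (.node .nil (nat_lit 3120) (nat_lit 230) (nat_lit 2812) .nil)
  (nat_lit 3121) (nat_lit 260) (nat_lit 2813) .nil) (nat_lit 3122) (nat_lit 232) (nat_lit 1957) (.node .nil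
  (nat_lit 3123) (nat_lit 262) (nat_lit 2813) .nil))) (nat_lit 3124) (nat_lit 257) (nat_lit 2815) (.node
  (.node (.node (.node .nil (nat_lit 3125) (nat_lit 260) (nat_lit 2816) .nil) (nat_lit 3126) (nat_lit 294)
  (nat_lit 3204) .nil) (nat_lit 3127) (nat_lit 293) (nat_lit 2823) (.node (.node .nil (nat_lit 3128) (nat_lit
  196) (nat_lit 2824) .nil) (nat_lit 3129) (nat_lit 259) (nat_lit 3152) .nil)) (nat_lit 3130) (nat_lit 260)
  (nat_lit 2826) (.node (.node (.node .nil (nat_lit 3131) (nat_lit 209) (nat_lit 3014) .nil) (nat_lit 3132)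
  (nat_lit 241) (nat_lit 3322) .nil) (nat_lit 3133) (nat_lit 244) (nat_lit 3101) (.node .nil (nat_lit 3134)
  (nat_lit 245) (nat_lit 2836) .nil)))) (nat_lit 3135) (nat_lit 246) (nat_lit 2943) (.node (.node (.node
  (.node (.node .nil (nat_lit 3136) (nat_lit 246) (nat_lit 2944) .nil) (nat_lit 3137) (nat_lit 245) (nat_lit
  2839) .nil) (nat_lit 3138) (nat_lit 246) (nat_lit 2937) (.node (.node .nil (nat_lit 3139) (nat_lit 244)
  (nat_lit 2878) .nil) (nat_lit 3140) (nat_lit 244) (nat_lit 2943) .nil)) (nat_lit 3141) (nat_lit 245)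
  (nat_lit 2842) (.node (.node (.node .nil (nat_lit 3142) (nat_lit 245) (nat_lit 2850) .nil) (nat_lit 3143)
  (nat_lit 245) (nat_lit 2863) .nil) (nat_lit 3144) (nat_lit 245) (nat_lit 2861) (.node .nil (nat_lit 3145)
  (nat_lit 246) (nat_lit 2933) .nil))) (nat_lit 3146) (nat_lit 246) (nat_lit 2980) (.node (.node (.node (.node
  .nil (nat_lit 3147) (nat_lit 248) (nat_lit 2980) .nil) (nat_lit 3148) (nat_lit 245) (nat_lit 2902) .nil)
  (nat_lit 3149) (nat_lit 246) (nat_lit 2920) (.node (.node .nil (nat_lit 3150) (nat_lit 272) (nat_lit 2870)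
  .nil) (nat_lit 3151) (nat_lit 280) (nat_lit 2867) .nil)) (nat_lit 3152) (nat_lit 242) (nat_lit 2888) (.node
  (.node (.node .nil (nat_lit 3153) (nat_lit 212) (nat_lit 3001) .nil) (nat_lit 3154) (nat_lit 210) (nat_lit
  2901) .nil) (nat_lit 3155) (nat_lit 242) (nat_lit 2902) (.node .nil (nat_lit 3156) (nat_lit 210) (nat_lit
  2894) .nil)))))))
def t5_14 : T := (.node (.node (.node (.node (.node (.node (.node (.node .nil (nat_lit 3158) (nat_lit 178)
  (nat_lit 2895) .nil) (nat_lit 3159) (nat_lit 245) (nat_lit 3033) .nil) (nat_lit 3160) (nat_lit 216) (nat_lit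
  1193) (.node (.node .nil (nat_lit 3161) (nat_lit 278) (nat_lit 2957) .nil) (nat_lit 3162) (nat_lit 280)
  (nat_lit 2852) .nil)) (nat_lit 3163) (nat_lit 209) (nat_lit 2882) (.node (.node (.node .nil (nat_lit 3164)
  (nat_lit 246) (nat_lit 2950) .nil) (nat_lit 3165) (nat_lit 211) (nat_lit 2956) .nil) (nat_lit 3166) (nat_lit
  213) (nat_lit 2884) (.node .nil (nat_lit 3167) (nat_lit 216) (nat_lit 1189) .nil))) (nat_lit 3168) (nat_lit
  248) (nat_lit 2101) (.node (.node (.node (.node .nil (nat_lit 3169) (nat_lit 240) (nat_lit 2888) .nil)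
  (nat_lit 3170) (nat_lit 240) (nat_lit 2889) .nil) (nat_lit 3171) (nat_lit 248) (nat_lit 2864) (.node (.node
  .nil (nat_lit 3172) (nat_lit 216) (nat_lit 2075) .nil) (nat_lit 3173) (nat_lit 248) (nat_lit 2122) .nil))
  (nat_lit 3174) (nat_lit 242) (nat_lit 3336) (.node (.node (.node .nil (nat_lit 3175) (nat_lit 248) (nat_lit
  1507) .nil) (nat_lit 3176) (nat_lit 213) (nat_lit 2894) .nil) (nat_lit 3177) (nat_lit 213) (nat_lit 3074)
  (.node .nil (nat_lit 3178) (nat_lit 280) (nat_lit 3070) .nil)))) (nat_lit 3179) (nat_lit 276) (nat_lit 2955)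
  (.node (.node (.node (.node (.node .nil (nat_lit 3180) (nat_lit 216) (nat_lit 1202) .nil) (nat_lit 3181)
  (nat_lit 246) (nat_lit 2919) .nil) (nat_lit 3183) (nat_lit 240) (nat_lit 2919) (.node (.node .nil (nat_lit
  3184) (nat_lit 246) (nat_lit 3091) .nil) (nat_lit 3185) (nat_lit 244) (nat_lit 2919) .nil)) (nat_lit 3186)
  (nat_lit 245) (nat_lit 2919) (.node (.node (.node .nil (nat_lit 3187) (nat_lit 242) (nat_lit 2931) .nil)
  (nat_lit 3188) (nat_lit 240) (nat_lit 2943) .nil) (nat_lit 3189) (nat_lit 245) (nat_lit 2925) (.node .nil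
  (nat_lit 3190) (nat_lit 245) (nat_lit 2926) .nil))) (nat_lit 3191) (nat_lit 280) (nat_lit 2967) (.node
  (.node (.node (.node .nil (nat_lit 3192) (nat_lit 245) (nat_lit 3028) .nil) (nat_lit 3193) (nat_lit 245)
  (nat_lit 2941) .nil) (nat_lit 3194) (nat_lit 245) (nat_lit 2943) (.node (.node .nil (nat_lit 3195) (nat_lit
  245) (nat_lit 2945) .nil) (nat_lit 3196) (nat_lit 248) (nat_lit 2933) .nil)) (nat_lit 3197) (nat_lit 248)
  (nat_lit 2944) (.node (.node (.node .nil (nat_lit 3198) (nat_lit 241) (nat_lit 2947) .nil) (nat_lit 3199)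
  (nat_lit 248) (nat_lit 2239) .nil) (nat_lit 3200) (nat_lit 213) (nat_lit 2951) (.node .nil (nat_lit 3201)
  (nat_lit 248) (nat_lit 2127) .nil))))) (nat_lit 3202) (nat_lit 213) (nat_lit 3077) (.node (.node (.node
  (.node (.node (.node .nil (nat_lit 3203) (nat_lit 248) (nat_lit 2168) .nil) (nat_lit 3204) (nat_lit 277)
  (nat_lit 3036) .nil) (nat_lit 3205) (nat_lit 213) (nat_lit 2956) (.node (.node .nil (nat_lit 3206) (nat_lit
  280) (nat_lit 2123) .nil) (nat_lit 3207) (nat_lit 248) (nat_lit 1534) .nil)) (nat_lit 3208) (nat_lit 248)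
  (nat_lit 2170) (.node (.node (.node .nil (nat_lit 3209) (nat_lit 245) (nat_lit 2961) .nil) (nat_lit 3210)
  (nat_lit 280) (nat_lit 3010) .nil) (nat_lit 3211) (nat_lit 245) (nat_lit 2963) (.node .nil (nat_lit 3212)
  (nat_lit 280) (nat_lit 2114) .nil))) (nat_lit 3213) (nat_lit 280) (nat_lit 1526) (.node (.node (.node (.node
  .nil (nat_lit 3214) (nat_lit 276) (nat_lit 2967) .nil) (nat_lit 3215) (nat_lit 248) (nat_lit 2164) .nil)
  (nat_lit 3216) (nat_lit 248) (nat_lit 1628) (.node (.node .nil (nat_lit 3217) (nat_lit 181) (nat_lit 2969)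
  .nil) (nat_lit 3218) (nat_lit 212) (nat_lit 2970) .nil)) (nat_lit 3219) (nat_lit 213) (nat_lit 2971) (.node
  (.node (.node .nil (nat_lit 3220) (nat_lit 248) (nat_lit 2200) .nil) (nat_lit 3221) (nat_lit 248) (nat_lit
  2175) .nil) (nat_lit 3222) (nat_lit 280) (nat_lit 2199) (.node .nil (nat_lit 3223) (nat_lit 243) (nat_lit
  2979) .nil)))) (nat_lit 3224) (nat_lit 242) (nat_lit 3342) (.node (.node (.node (.node (.node .nil (nat_lit
  3225) (nat_lit 244) (nat_lit 2980) .nil) (nat_lit 3226) (nat_lit 273) (nat_lit 3363) .nil) (nat_lit 3227)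
  (nat_lit 248) (nat_lit 2129) (.node (.node .nil (nat_lit 3228) (nat_lit 248) (nat_lit 2843) .nil) (nat_lit
  3229) (nat_lit 272) (nat_lit 2978) .nil)) (nat_lit 3230) (nat_lit 273) (nat_lit 2981) (.node (.node (.node
  .nil (nat_lit 3231) (nat_lit 278) (nat_lit 2978) .nil) (nat_lit 3232) (nat_lit 213) (nat_lit 2983) .nil)
  (nat_lit 3233) (nat_lit 209) (nat_lit 3013) (.node .nil (nat_lit 3234) (nat_lit 245) (nat_lit 2987) .nil)))
  (nat_lit 3235) (nat_lit 245) (nat_lit 3030) (.node (.node (.node (.node .nil (nat_lit 3236) (nat_lit 276)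
  (nat_lit 2992) .nil) (nat_lit 3237) (nat_lit 212) (nat_lit 2998) .nil) (nat_lit 3238) (nat_lit 180) (nat_lit
  2996) (.node (.node .nil (nat_lit 3239) (nat_lit 209) (nat_lit 2997) .nil) (nat_lit 3240) (nat_lit 244)
  (nat_lit 3004) .nil)) (nat_lit 3241) (nat_lit 244) (nat_lit 3006) (.node (.node (.node .nil (nat_lit 3242)
  (nat_lit 244) (nat_lit 3008) .nil) (nat_lit 3243) (nat_lit 245) (nat_lit 3009) .nil) (nat_lit 3244) (nat_lit
  276) (nat_lit 3010) (.node .nil (nat_lit 3245) (nat_lit 273) (nat_lit 3011) .nil)))))) (nat_lit 3246)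
  (nat_lit 244) (nat_lit 3012) (.node (.node (.node (.node (.node (.node (.node .nil (nat_lit 3247) (nat_lit
  210) (nat_lit 3077) .nil) (nat_lit 3248) (nat_lit 278) (nat_lit 3068) .nil) (nat_lit 3249) (nat_lit 277)
  (nat_lit 3038) (.node (.node .nil (nat_lit 3250) (nat_lit 274) (nat_lit 3065) .nil) (nat_lit 3251) (nat_lit
  240) (nat_lit 3026) .nil)) (nat_lit 3252) (nat_lit 209) (nat_lit 3053) (.node (.node (.node .nil (nat_lit
  3253) (nat_lit 241) (nat_lit 3047) .nil) (nat_lit 3254) (nat_lit 245) (nat_lit 3027) .nil) (nat_lit 3255)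
  (nat_lit 244) (nat_lit 3054) (.node .nil (nat_lit 3256) (nat_lit 210) (nat_lit 3075) .nil))) (nat_lit 3257)
  (nat_lit 210) (nat_lit 3074) (.node (.node (.node (.node .nil (nat_lit 3258) (nat_lit 276) (nat_lit 3036)
  .nil) (nat_lit 3259) (nat_lit 275) (nat_lit 2880) .nil) (nat_lit 3260) (nat_lit 243) (nat_lit 3120) (.node
  (.node .nil (nat_lit 3261) (nat_lit 277) (nat_lit 3039) .nil) (nat_lit 3262) (nat_lit 280) (nat_lit 2290)
  .nil)) (nat_lit 3263) (nat_lit 245) (nat_lit 3041) (.node (.node (.node .nil (nat_lit 3264) (nat_lit 248)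
  (nat_lit 2356) .nil) (nat_lit 3265) (nat_lit 246) (nat_lit 3042) .nil) (nat_lit 3266) (nat_lit 245) (nat_lit
  3044) (.node .nil (nat_lit 3267) (nat_lit 280) (nat_lit 3021) .nil)))) (nat_lit 3268) (nat_lit 245) (nat_lit
  3046) (.node (.node (.node (.node (.node .nil (nat_lit 3269) (nat_lit 245) (nat_lit 3047) .nil) (nat_lit
  3270) (nat_lit 248) (nat_lit 2947) .nil) (nat_lit 3271) (nat_lit 213) (nat_lit 3049) (.node (.node .nil
  (nat_lit 3272) (nat_lit 244) (nat_lit 3057) .nil) (nat_lit 3273) (nat_lit 280) (nat_lit 2897) .nil))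
  (nat_lit 3274) (nat_lit 245) (nat_lit 3118) (.node (.node (.node .nil (nat_lit 3275) (nat_lit 246) (nat_lit
  3057) .nil) (nat_lit 3276) (nat_lit 243) (nat_lit 2876) .nil) (nat_lit 3277) (nat_lit 243) (nat_lit 3058)
  (.node .nil (nat_lit 3278) (nat_lit 274) (nat_lit 3410) .nil))) (nat_lit 3279) (nat_lit 241) (nat_lit 3110)
  (.node (.node (.node (.node .nil (nat_lit 3280) (nat_lit 275) (nat_lit 3123) .nil) (nat_lit 3281) (nat_lit
  276) (nat_lit 3094) .nil) (nat_lit 3282) (nat_lit 276) (nat_lit 3067) (.node (.node .nil (nat_lit 3283)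
  (nat_lit 276) (nat_lit 3068) .nil) (nat_lit 3284) (nat_lit 275) (nat_lit 2976) .nil)) (nat_lit 3285)
  (nat_lit 276) (nat_lit 3070) (.node (.node (.node .nil (nat_lit 3286) (nat_lit 213) (nat_lit 3071) .nil)
  (nat_lit 3287) (nat_lit 212) (nat_lit 3072) .nil) (nat_lit 3288) (nat_lit 213) (nat_lit 3073) (.node .nil
  (nat_lit 3289) (nat_lit 213) (nat_lit 3075) .nil))))) (nat_lit 3290) (nat_lit 244) (nat_lit 3076) (.node
  (.node (.node (.node (.node (.node .nil (nat_lit 3291) (nat_lit 243) (nat_lit 3374) .nil) (nat_lit 3292)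
  (nat_lit 244) (nat_lit 3079) .nil) (nat_lit 3293) (nat_lit 216) (nat_lit 2169) (.node (.node .nil (nat_lit
  3294) (nat_lit 212) (nat_lit 3082) .nil) (nat_lit 3295) (nat_lit 275) (nat_lit 3386) .nil)) (nat_lit 3296)
  (nat_lit 273) (nat_lit 3084) (.node (.node (.node .nil (nat_lit 3297) (nat_lit 248) (nat_lit 2348) .nil)
  (nat_lit 3298) (nat_lit 241) (nat_lit 3097) .nil) (nat_lit 3299) (nat_lit 245) (nat_lit 3099) (.node .nil
  (nat_lit 3300) (nat_lit 245) (nat_lit 3108) .nil))) (nat_lit 3301) (nat_lit 277) (nat_lit 3103) (.node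
  (.node (.node (.node .nil (nat_lit 3302) (nat_lit 278) (nat_lit 3112) .nil) (nat_lit 3303) (nat_lit 277)
  (nat_lit 3109) .nil) (nat_lit 3304) (nat_lit 212) (nat_lit 3104) (.node (.node .nil (nat_lit 3305) (nat_lit
  213) (nat_lit 3105) .nil) (nat_lit 3306) (nat_lit 212) (nat_lit 3106) .nil)) (nat_lit 3307) (nat_lit 244)
  (nat_lit 3111) (.node (.node (.node .nil (nat_lit 3308) (nat_lit 276) (nat_lit 3112) .nil) (nat_lit 3309)
  (nat_lit 241) (nat_lit 3113) .nil) (nat_lit 3310) (nat_lit 244) (nat_lit 3114) (.node .nil (nat_lit 3311)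
  (nat_lit 212) (nat_lit 3115) .nil)))) (nat_lit 3312) (nat_lit 241) (nat_lit 3116) (.node (.node (.node
  (.node (.node .nil (nat_lit 3313) (nat_lit 244) (nat_lit 3117) .nil) (nat_lit 3314) (nat_lit 276) (nat_lit
  3119) .nil) (nat_lit 3315) (nat_lit 248) (nat_lit 1647) (.node (.node .nil (nat_lit 3316) (nat_lit 278)
  (nat_lit 3121) .nil) (nat_lit 3317) (nat_lit 272) (nat_lit 3124) .nil)) (nat_lit 3318) (nat_lit 273)
  (nat_lit 3125) (.node (.node (.node .nil (nat_lit 3319) (nat_lit 209) (nat_lit 3128) .nil) (nat_lit 3320)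
  (nat_lit 243) (nat_lit 3351) .nil) (nat_lit 3321) (nat_lit 280) (nat_lit 1644) (.node .nil (nat_lit 3322)
  (nat_lit 226) (nat_lit 3165) .nil))) (nat_lit 3323) (nat_lit 261) (nat_lit 3132) (.node (.node (.node (.node
  .nil (nat_lit 3324) (nat_lit 261) (nat_lit 3133) .nil) (nat_lit 3325) (nat_lit 261) (nat_lit 3255) .nil)
  (nat_lit 3326) (nat_lit 262) (nat_lit 3194) (.node (.node .nil (nat_lit 3327) (nat_lit 261) (nat_lit 3140)
  .nil) (nat_lit 3328) (nat_lit 264) (nat_lit 3148) .nil)) (nat_lit 3329) (nat_lit 264) (nat_lit 3209) (.node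
  (.node (.node .nil (nat_lit 3330) (nat_lit 261) (nat_lit 3155) .nil) (nat_lit 3331) (nat_lit 264) (nat_lit
  2585) .nil) (nat_lit 3332) (nat_lit 260) (nat_lit 3148) (.node .nil (nat_lit 3333) (nat_lit 262) (nat_lit
  3186) .nil)))))))
def t5_15 : T := (.node (.node (.node (.node (.node (.node (.node (.node .nil (nat_lit 3335) (nat_lit 232)
  (nat_lit 2477) .nil) (nat_lit 3336) (nat_lit 225) (nat_lit 3153) .nil) (nat_lit 3337) (nat_lit 229) (nat_lit
  3156) (.node (.node .nil (nat_lit 3338) (nat_lit 264) (nat_lit 3145) .nil) (nat_lit 3339) (nat_lit 229)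
  (nat_lit 3257) .nil)) (nat_lit 3340) (nat_lit 229) (nat_lit 3160) (.node (.node (.node .nil (nat_lit 3341)
  (nat_lit 264) (nat_lit 2457) .nil) (nat_lit 3342) (nat_lit 224) (nat_lit 3163) .nil) (nat_lit 3343) (nat_lit
  264) (nat_lit 2655) (.node .nil (nat_lit 3344) (nat_lit 232) (nat_lit 2456) .nil))) (nat_lit 3345) (nat_lit
  229) (nat_lit 3165) (.node (.node (.node (.node .nil (nat_lit 3346) (nat_lit 228) (nat_lit 3166) .nil)
  (nat_lit 3347) (nat_lit 229) (nat_lit 3167) .nil) (nat_lit 3348) (nat_lit 232) (nat_lit 1747) (.node (.node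
  .nil (nat_lit 3349) (nat_lit 232) (nat_lit 1836) .nil) (nat_lit 3350) (nat_lit 264) (nat_lit 1760) .nil))
  (nat_lit 3351) (nat_lit 226) (nat_lit 3239) (.node (.node (.node .nil (nat_lit 3352) (nat_lit 264) (nat_lit
  1299) .nil) (nat_lit 3353) (nat_lit 232) (nat_lit 2499) .nil) (nat_lit 3354) (nat_lit 228) (nat_lit 3177)
  (.node .nil (nat_lit 3355) (nat_lit 256) (nat_lit 3312) .nil)))) (nat_lit 3356) (nat_lit 200) (nat_lit 1804)
  (.node (.node (.node (.node (.node .nil (nat_lit 3357) (nat_lit 232) (nat_lit 1801) .nil) (nat_lit 3358)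
  (nat_lit 258) (nat_lit 3298) .nil) (nat_lit 3359) (nat_lit 264) (nat_lit 1947) (.node (.node .nil (nat_lit
  3360) (nat_lit 229) (nat_lit 3180) .nil) (nat_lit 3361) (nat_lit 261) (nat_lit 3183) .nil)) (nat_lit 3362)
  (nat_lit 261) (nat_lit 3185) (.node (.node (.node .nil (nat_lit 3363) (nat_lit 260) (nat_lit 3186) .nil)
  (nat_lit 3364) (nat_lit 261) (nat_lit 3188) .nil) (nat_lit 3365) (nat_lit 260) (nat_lit 3189) (.node .nil
  (nat_lit 3366) (nat_lit 264) (nat_lit 2540) .nil))) (nat_lit 3367) (nat_lit 261) (nat_lit 3253) (.node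
  (.node (.node (.node .nil (nat_lit 3368) (nat_lit 264) (nat_lit 2651) .nil) (nat_lit 3369) (nat_lit 264)
  (nat_lit 2539) .nil) (nat_lit 3370) (nat_lit 229) (nat_lit 3247) (.node (.node .nil (nat_lit 3371) (nat_lit
  264) (nat_lit 3189) .nil) (nat_lit 3372) (nat_lit 264) (nat_lit 2572) .nil)) (nat_lit 3373) (nat_lit 228)
  (nat_lit 3200) (.node (.node (.node .nil (nat_lit 3374) (nat_lit 232) (nat_lit 1764) .nil) (nat_lit 3375)
  (nat_lit 232) (nat_lit 2542) .nil) (nat_lit 3376) (nat_lit 292) (nat_lit 3204) (.node .nil (nat_lit 3377)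
  (nat_lit 228) (nat_lit 3289) .nil))))) (nat_lit 3378) (nat_lit 228) (nat_lit 3205) (.node (.node (.node
  (.node (.node (.node .nil (nat_lit 3379) (nat_lit 264) (nat_lit 1765) .nil) (nat_lit 3380) (nat_lit 232)
  (nat_lit 1808) .nil) (nat_lit 3381) (nat_lit 227) (nat_lit 3462) (.node (.node .nil (nat_lit 3382) (nat_lit
  232) (nat_lit 2463) .nil) (nat_lit 3383) (nat_lit 257) (nat_lit 3450) .nil)) (nat_lit 3384) (nat_lit 260)
  (nat_lit 3211) (.node (.node (.node .nil (nat_lit 3385) (nat_lit 264) (nat_lit 2449) .nil) (nat_lit 3386)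
  (nat_lit 264) (nat_lit 1825) .nil) (nat_lit 3387) (nat_lit 225) (nat_lit 3237) (.node .nil (nat_lit 3388)
  (nat_lit 257) (nat_lit 3240) .nil))) (nat_lit 3389) (nat_lit 264) (nat_lit 1382) (.node (.node (.node (.node
  .nil (nat_lit 3390) (nat_lit 196) (nat_lit 3217) .nil) (nat_lit 3391) (nat_lit 225) (nat_lit 3218) .nil)
  (nat_lit 3392) (nat_lit 228) (nat_lit 3219) (.node (.node .nil (nat_lit 3393) (nat_lit 257) (nat_lit 3241)
  .nil) (nat_lit 3394) (nat_lit 264) (nat_lit 1979) .nil)) (nat_lit 3395) (nat_lit 228) (nat_lit 3232) (.node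
  (.node (.node .nil (nat_lit 3396) (nat_lit 289) (nat_lit 3285) .nil) (nat_lit 3397) (nat_lit 289) (nat_lit
  3308) .nil) (nat_lit 3398) (nat_lit 258) (nat_lit 3291) (.node .nil (nat_lit 3399) (nat_lit 259) (nat_lit
  3221) .nil)))) (nat_lit 3400) (nat_lit 232) (nat_lit 2464) (.node (.node (.node (.node (.node .nil (nat_lit
  3401) (nat_lit 193) (nat_lit 3238) .nil) (nat_lit 3402) (nat_lit 224) (nat_lit 3239) .nil) (nat_lit 3403)
  (nat_lit 257) (nat_lit 3242) (.node (.node .nil (nat_lit 3404) (nat_lit 260) (nat_lit 3243) .nil) (nat_lit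
  3405) (nat_lit 288) (nat_lit 3245) .nil)) (nat_lit 3406) (nat_lit 257) (nat_lit 3246) (.node (.node (.node
  .nil (nat_lit 3407) (nat_lit 290) (nat_lit 3280) .nil) (nat_lit 3408) (nat_lit 229) (nat_lit 3256) .nil)
  (nat_lit 3409) (nat_lit 293) (nat_lit 3258) (.node .nil (nat_lit 3410) (nat_lit 259) (nat_lit 3275) .nil)))
  (nat_lit 3411) (nat_lit 258) (nat_lit 3279) (.node (.node (.node (.node .nil (nat_lit 3412) (nat_lit 259)
  (nat_lit 3227) .nil) (nat_lit 3413) (nat_lit 260) (nat_lit 3263) .nil) (nat_lit 3414) (nat_lit 264) (nat_lit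
  2670) (.node (.node .nil (nat_lit 3415) (nat_lit 260) (nat_lit 3266) .nil) (nat_lit 3416) (nat_lit 260)
  (nat_lit 3300) .nil)) (nat_lit 3417) (nat_lit 260) (nat_lit 3268) (.node (.node (.node .nil (nat_lit 3418)
  (nat_lit 232) (nat_lit 2573) .nil) (nat_lit 3419) (nat_lit 228) (nat_lit 3271) .nil) (nat_lit 3420) (nat_lit
  260) (nat_lit 3274) (.node .nil (nat_lit 3421) (nat_lit 262) (nat_lit 3272) .nil)))))) (nat_lit 3422)
  (nat_lit 259) (nat_lit 3168) (.node (.node (.node (.node (.node (.node (.node .nil (nat_lit 3423) (nat_lit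
  257) (nat_lit 3307) .nil) (nat_lit 3424) (nat_lit 292) (nat_lit 3301) .nil) (nat_lit 3425) (nat_lit 294)
  (nat_lit 3308) (.node (.node .nil (nat_lit 3426) (nat_lit 292) (nat_lit 3303) .nil) (nat_lit 3427) (nat_lit
  258) (nat_lit 3309) .nil)) (nat_lit 3428) (nat_lit 228) (nat_lit 3286) (.node (.node (.node .nil (nat_lit
  3429) (nat_lit 227) (nat_lit 3454) .nil) (nat_lit 3430) (nat_lit 228) (nat_lit 3288) .nil) (nat_lit 3431)
  (nat_lit 259) (nat_lit 3459) (.node .nil (nat_lit 3432) (nat_lit 262) (nat_lit 3291) .nil))) (nat_lit 3433)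
  (nat_lit 257) (nat_lit 3310) (.node (.node (.node (.node .nil (nat_lit 3434) (nat_lit 225) (nat_lit 3304)
  .nil) (nat_lit 3435) (nat_lit 228) (nat_lit 3305) .nil) (nat_lit 3436) (nat_lit 227) (nat_lit 3448) (.node
  (.node .nil (nat_lit 3437) (nat_lit 259) (nat_lit 3461) .nil) (nat_lit 3438) (nat_lit 225) (nat_lit 3311)
  .nil)) (nat_lit 3439) (nat_lit 259) (nat_lit 3460) (.node (.node (.node .nil (nat_lit 3440) (nat_lit 257)
  (nat_lit 3313) .nil) (nat_lit 3441) (nat_lit 245) (nat_lit 3322) .nil) (nat_lit 3442) (nat_lit 280) (nat_lit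
  3015) (.node .nil (nat_lit 3443) (nat_lit 280) (nat_lit 3330) .nil)))) (nat_lit 3444) (nat_lit 241) (nat_lit
  3419) (.node (.node (.node (.node (.node .nil (nat_lit 3445) (nat_lit 278) (nat_lit 3363) .nil) (nat_lit
  3446) (nat_lit 248) (nat_lit 2856) .nil) (nat_lit 3447) (nat_lit 241) (nat_lit 3395) (.node (.node .nil
  (nat_lit 3448) (nat_lit 216) (nat_lit 2096) .nil) (nat_lit 3449) (nat_lit 248) (nat_lit 2878) .nil))
  (nat_lit 3450) (nat_lit 244) (nat_lit 3339) (.node (.node (.node .nil (nat_lit 3451) (nat_lit 244) (nat_lit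
  3340) .nil) (nat_lit 3452) (nat_lit 248) (nat_lit 2058) .nil) (nat_lit 3453) (nat_lit 248) (nat_lit 2052)
  (.node .nil (nat_lit 3454) (nat_lit 216) (nat_lit 2130) .nil))) (nat_lit 3455) (nat_lit 211) (nat_lit 3356)
  (.node (.node (.node (.node .nil (nat_lit 3456) (nat_lit 244) (nat_lit 3347) .nil) (nat_lit 3457) (nat_lit
  216) (nat_lit 1516) .nil) (nat_lit 3458) (nat_lit 248) (nat_lit 2057) (.node (.node .nil (nat_lit 3459)
  (nat_lit 248) (nat_lit 1482) .nil) (nat_lit 3460) (nat_lit 242) (nat_lit 3391) .nil)) (nat_lit 3461)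
  (nat_lit 248) (nat_lit 1537) (.node (.node (.node .nil (nat_lit 3462) (nat_lit 210) (nat_lit 3401) .nil)
  (nat_lit 3463) (nat_lit 208) (nat_lit 3401) .nil) (nat_lit 3464) (nat_lit 244) (nat_lit 3360) (.node .nil
  (nat_lit 3465) (nat_lit 272) (nat_lit 3393) .nil))))) (nat_lit 3466) (nat_lit 243) (nat_lit 3348) (.node
  (.node (.node (.node (.node (.node .nil (nat_lit 3467) (nat_lit 274) (nat_lit 3388) .nil) (nat_lit 3468)
  (nat_lit 216) (nat_lit 2056) .nil) (nat_lit 3469) (nat_lit 276) (nat_lit 3361) (.node (.node .nil (nat_lit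
  3470) (nat_lit 276) (nat_lit 3362) .nil) (nat_lit 3471) (nat_lit 280) (nat_lit 2934) .nil)) (nat_lit 3472)
  (nat_lit 244) (nat_lit 3408) (.node (.node (.node .nil (nat_lit 3473) (nat_lit 248) (nat_lit 2937) .nil)
  (nat_lit 3474) (nat_lit 241) (nat_lit 3373) .nil) (nat_lit 3475) (nat_lit 274) (nat_lit 3403) (.node .nil
  (nat_lit 3476) (nat_lit 243) (nat_lit 3400) .nil))) (nat_lit 3477) (nat_lit 243) (nat_lit 3505) (.node
  (.node (.node (.node .nil (nat_lit 3478) (nat_lit 273) (nat_lit 3384) .nil) (nat_lit 3479) (nat_lit 241)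
  (nat_lit 3392) .nil) (nat_lit 3480) (nat_lit 243) (nat_lit 3380) (.node (.node .nil (nat_lit 3481) (nat_lit
  209) (nat_lit 3390) .nil) (nat_lit 3482) (nat_lit 240) (nat_lit 3391) .nil)) (nat_lit 3483) (nat_lit 278)
  (nat_lit 3412) (.node (.node (.node .nil (nat_lit 3484) (nat_lit 274) (nat_lit 3412) .nil) (nat_lit 3485)
  (nat_lit 242) (nat_lit 3429) .nil) (nat_lit 3486) (nat_lit 275) (nat_lit 3379) (.node .nil (nat_lit 3487)
  (nat_lit 275) (nat_lit 3341) .nil)))) (nat_lit 3488) (nat_lit 273) (nat_lit 3404) (.node (.node (.node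
  (.node (.node .nil (nat_lit 3489) (nat_lit 242) (nat_lit 3434) .nil) (nat_lit 3490) (nat_lit 246) (nat_lit
  3436) .nil) (nat_lit 3491) (nat_lit 243) (nat_lit 3499) (.node (.node .nil (nat_lit 3492) (nat_lit 246)
  (nat_lit 3429) .nil) (nat_lit 3493) (nat_lit 241) (nat_lit 3435) .nil)) (nat_lit 3494) (nat_lit 240)
  (nat_lit 3434) (.node (.node (.node .nil (nat_lit 3495) (nat_lit 242) (nat_lit 3436) .nil) (nat_lit 3496)
  (nat_lit 264) (nat_lit 3143) .nil) (nat_lit 3497) (nat_lit 257) (nat_lit 3464) (.node .nil (nat_lit 3498)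
  (nat_lit 262) (nat_lit 3476) .nil))) (nat_lit 3499) (nat_lit 232) (nat_lit 1766) (.node (.node (.node (.node
  .nil (nat_lit 3500) (nat_lit 232) (nat_lit 1713) .nil) (nat_lit 3501) (nat_lit 226) (nat_lit 3455) .nil)
  (nat_lit 3502) (nat_lit 227) (nat_lit 3457) (.node (.node .nil (nat_lit 3503) (nat_lit 230) (nat_lit 3455)
  .nil) (nat_lit 3504) (nat_lit 258) (nat_lit 3476) .nil)) (nat_lit 3505) (nat_lit 226) (nat_lit 3481) (.node
  (.node (.node .nil (nat_lit 3506) (nat_lit 224) (nat_lit 3481) .nil) (nat_lit 3507) (nat_lit 259) (nat_lit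
  3452) .nil) (nat_lit 3508) (nat_lit 256) (nat_lit 3474) (.node .nil (nat_lit 3509) (nat_lit 258) (nat_lit
  3474) .nil)))))))
def t5 : T := (.node (.node (.node (.node t5_0 (nat_lit 246) (nat_lit 161) (nat_lit 174) t5_1) (nat_lit 497)
  (nat_lit 210) (nat_lit 426) (.node t5_2 (nat_lit 733) (nat_lit 85) (nat_lit 716) t5_3)) (nat_lit 954)
  (nat_lit 244) (nat_lit 1077) (.node (.node t5_4 (nat_lit 1199) (nat_lit 193) (nat_lit 1400) t5_5) (nat_lit
  1432) (nat_lit 120) (nat_lit 1088) (.node t5_6 (nat_lit 1680) (nat_lit 194) (nat_lit 1435) t5_7))) (nat_lit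
  1920) (nat_lit 216) (nat_lit 1610) (.node (.node (.node t5_8 (nat_lit 2136) (nat_lit 131) (nat_lit 1421)
  t5_9) (nat_lit 2368) (nat_lit 230) (nat_lit 1969) (.node t5_10 (nat_lit 2571) (nat_lit 243) (nat_lit 3032)
  t5_11)) (nat_lit 2785) (nat_lit 242) (nat_lit 2930) (.node (.node t5_12 (nat_lit 2976) (nat_lit 264)
  (nat_lit 2576) t5_13) (nat_lit 3157) (nat_lit 246) (nat_lit 2946) (.node t5_14 (nat_lit 3334) (nat_lit 264)
  (nat_lit 2507) t5_15))))

end Cfsg.Agent.TC.W22
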